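import Cfsg.Agent.H241.NHTools
import Cfsg.Agent.H393.Iso.HS
import Cfsg.Agent.H904.HSCent
import Cfsg.Agent.H904.McLCent

/-!
# Rows `HS`, `McL` of the nilpotent Hall cluster (helper846)

* `nc_of_fix_pow` : all orbits of `X` have length divisible by `p ^ k`, and the number of fixed points of an element
  of order a power of `q` is not divisible by `p ^ k`;
* `row_hs`, `row_mcl`.
-/

set_option autoImplicit false
open Subgroup Equiv

namespace Cfsg.Agent.H846.NHRows

open Cfsg.Agent.H630.NH Cfsg.Agent.H241.NH Cfsg.Agent.H393.Iso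
open Cfsg.Agent.SporadicA.PermTab

universe u

section

variable {X : Type u} [Group X] [Finite X] {p q : ℕ}

/-- **Fixed points, with prime powers.** -/
theorem nc_of_fix_pow (hp : p.Prime) (hpq : p ≠ q) {Ω : Type*} [Finite Ω] [MulAction X Ω] {k : ℕ}
    (h : ∀ a : Ω, p ^ k ∣ (MulAction.stabilizer X a).index) {x : X} (hx : ∃ m : ℕ, orderOf x = q ^ m)
    (hf : ¬ p ^ k ∣ Nat.card (MulAction.fixedBy Ω x)) : NC p q X := by
  intro hc
  have : Fact p.Prime := ⟨hp⟩
  have h1 : ¬ p ∣ (centralizer ({x} : Set X)).index := hc q (by simp) p (by simp) hpq.symm x hx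
  obtain ⟨P, hP⟩ := H630.CLib.exists_sylow_le p _ h1
  have hmem : ∀ (g : (P : Subgroup X)) (a : MulAction.fixedBy Ω x), (g : X) • (a : Ω) ∈ MulAction.fixedBy Ω x := by
    intro g a
    have h2 : (g : X) * x = x * g := mem_centralizer_singleton_iff.1 (hP g.2)
    rw [MulAction.mem_fixedBy, smul_smul, ← h2, mul_smul, MulAction.mem_fixedBy.1 a.2]
  let _inst : MulAction (P : Subgroup X) (MulAction.fixedBy Ω x) :=
    { smul := fun g a => ⟨(g : X) • (a : Ω), hmem g a⟩
      one_smul := fun a => Subtype.ext (one_smul X (a : Ω))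
      mul_smul := fun g h a => Subtype.ext (mul_smul (g : X) (h : X) (a : Ω)) }
  -- the length of an orbit of `P`
  have horb : ∀ a : MulAction.fixedBy Ω x, p ^ k ∣ Nat.card (MulAction.orbit (P : Subgroup X) a) := by
    intro a
    have h2 : Nat.card (MulAction.orbit (P : Subgroup X) a) =
        (MulAction.stabilizer (P : Subgroup X) a).index := by
      rw [Nat.card_congr (MulAction.orbitEquivQuotientStabilizer (P : Subgroup X) a), index_eq_card]
    rw [h2]
    set D : Subgroup X := (MulAction.stabilizer (P : Subgroup X) a).map (P : Subgroup X).subtype with hD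
    have h3 : D ≤ MulAction.stabilizer X (a : Ω) := by
      rintro _ ⟨g, hg, rfl⟩
      rw [MulAction.mem_stabilizer_iff]
      exact congrArg Subtype.val hg
    have h4 : p ^ k ∣ D.index := (h (a : Ω)).trans (index_dvd_of_le h3)
    have h5 : D.index = (MulAction.stabilizer (P : Subgroup X) a).index * (P : Subgroup X).index := by
      rw [hD, index_map_subtype]
    rw [h5] at h4
    exact Nat.Coprime.dvd_of_dvd_mul_right
      (Nat.Coprime.pow_left k ((Nat.Prime.coprime_iff_not_dvd hp).2 P.not_dvd_index)) h4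
  apply hf
  rw [Nat.card_congr (MulAction.selfEquivSigmaOrbits (P : Subgroup X) (MulAction.fixedBy Ω x))]
  have : Fintype (MulAction.orbitRel.Quotient (P : Subgroup X) (MulAction.fixedBy Ω x)) := Fintype.ofFinite _
  rw [Nat.card_sigma]
  exact Finset.dvd_sum fun ω _ => horb _

/-- the same for a transitive permutation representation on `Fin n` -/
theorem nc_of_perm (hp : p.Prime) (hpq : p ≠ q) {n : ℕ} (θ : X →* Perm (Fin n))
    (ht : ∀ i j : Fin n, ∃ g : X, θ g i = j) {k : ℕ} (hk : p ^ k ∣ n) {x : X} (hx : orderOf x = q)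
    {c : ℕ} (hc : (Finset.univ.filter fun i => θ x i = i).card = c) (hcd : ¬ p ^ k ∣ c) : NC p q X := by
  let _inst : MulAction X (Fin n) := MulAction.compHom (Fin n) θ
  have hs : ∀ (g : X) (i : Fin n), g • i = θ g i := fun _ _ => rfl
  have htr : MulAction.IsPretransitive X (Fin n) := ⟨fun i j => ht i j⟩
  refine nc_of_fix_pow hp hpq (Ω := Fin n) (k := k) (fun a => ?_) (x := x) ⟨1, by rw [hx, pow_one]⟩ ?_
  · rw [MulAction.index_stabilizer_of_transitive, Nat.card_eq_fintype_card, Fintype.card_fin]
    exact hk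
  · have h1 : Nat.card (MulAction.fixedBy (Fin n) x) = c := by
      rw [← hc]
      exact Nat.subtype_card _ fun i => by rw [Finset.mem_filter]; exact ⟨fun h => h.2, fun h => ⟨Finset.mem_univ i, h⟩⟩
    rw [h1]
    exact hcd

end

/-! ### the Higman–Sims group -/

open Cfsg.Agent.HN.HS100 in
theorem hs_nc {L : Type u} [Group L] (h : Cfsg.Spor.IsoHS L) (hN : Nat.card L = 44352000) :
    NC 5 3 L ∧ NC 5 7 L ∧ NC 5 11 L := by
  have : Finite L := Nat.finite_of_card_ne_zero (by rw [hN]; norm_num)
  obtain ⟨D, ψ, R⟩ := Cfsg.Agent.H904.HSCent.exists_rep h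
  refine ⟨?_, ?_, ?_⟩
  · -- an element of order 3 fixes 10 of the 100 points
    have hin : InG Q s10 := by
      obtain ⟨g, hg, hgi⟩ := in10
      exact ⟨g, hg.1.1.1.1, hgi⟩
    obtain ⟨x, hx⟩ := R.exists_of hin
    have hx3 : orderOf x = 3 := R.orderOf_eq hx (by norm_num) (by decide +kernel) 2 (by decide +kernel)
    have hc : (Finset.univ.filter fun i : Fin 100 => ψ x i = i).card = 10 := by
      rw [← card_fin_of_cntB (fun i => Nat.beq (lk s10 i) i) 100 10 (by decide +kernel)]
      congr 1
      apply Finset.filter_congr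
      intro i _
      rw [Nat.beq_eq, ← hx i, Fin.ext_iff]
    refine nc_of_perm (by norm_num) (by norm_num) ψ (fun i j => ?_) (k := 2) (by norm_num) hx3 hc (by norm_num)
    obtain ⟨⟨g, hg⟩, hgij⟩ := trans_Q.exists_smul_eq i j
    obtain ⟨l, rfl⟩ := R.exists_of_mem hg
    exact ⟨l, hgij⟩
  · obtain ⟨x, hx, hC⟩ := R.exists_seven
    refine (nc_of_card (q := 5) (by norm_num) (by norm_num) ⟨1, by rw [hx, pow_one]⟩ (a := 1)
      (by rw [hN]; norm_num) fun hd => ?_).symm
    have h7 : 7 ∣ Nat.card (centralizer ({x} : Set L)) := by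
      rw [← hx, ← Subgroup.orderOf_mk x (mem_centralizer_singleton_iff.2 rfl)]
      exact orderOf_dvd_natCard _
    have h35 : 35 ∣ Nat.card (centralizer ({x} : Set L)) :=
      Nat.Coprime.mul_dvd_of_dvd_of_dvd (m := 5) (n := 7) (by norm_num) (by simpa using hd) h7
    have := Nat.le_of_dvd Nat.card_pos h35
    omega
  · obtain ⟨x, hx, hC⟩ := R.exists_eleven
    refine (nc_of_card (q := 5) (by norm_num) (by norm_num) ⟨1, by rw [hx, pow_one]⟩ (a := 1)
      (by rw [hN]; norm_num) fun hd => ?_).symm
    have h7 : 11 ∣ Nat.card (centralizer ({x} : Set L)) := by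
      rw [← hx, ← Subgroup.orderOf_mk x (mem_centralizer_singleton_iff.2 rfl)]
      exact orderOf_dvd_natCard _
    have h35 : 55 ∣ Nat.card (centralizer ({x} : Set L)) :=
      Nat.Coprime.mul_dvd_of_dvd_of_dvd (m := 5) (n := 11) (by norm_num) (by simpa using hd) h7
    have := Nat.le_of_dvd Nat.card_pos h35
    omega

theorem row_hs {G : Type*} [Group G] [Finite G] [IsSimpleGroup G] (h : Spor.IsoHS G) : Row G := by
  have hN := NotCT.Orders.hs h
  obtain ⟨h3, h7, h11⟩ := hs_nc h hN
  refine row_of (N := 44352000) (k := 9) hN [3, 5, 7, 11] [5] [11] 3 [] ?_ ?_ ?_ ?_ ?_ ?_ ?_ ?_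
  · decide
  · decide
  · decide
  · exact ab_of_not_cube (by norm_num) (by rw [hN]; norm_num)
  · intro p hp q hq hpq
    obtain rfl := List.mem_singleton.1 hp
    simp only [List.mem_cons, List.not_mem_nil, or_false] at hq
    rcases hq with rfl | rfl | rfl | rfl
    · exact h3
    · exact absurd rfl hpq
    · exact h7
    · exact h11
  · intro r hr
    obtain rfl := List.mem_singleton.1 hr
    exact solv_of_na (by norm_num) (by rw [hN]; norm_num) (na_hs h)
  · intro a ha; exact absurd ha (by simp)
  · decide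

/-! ### the McLaughlin group -/

section McL

open Cfsg.Agent.McLType.X275 Cfsg.Agent.McLType.Gens Cfsg.Agent.H904.McLCent

/-- an element of order 3 with 14 fixed points -/
def t3 : ℕ := 0x448618e21f8360820c821a27c670f411c2bc5590b1323f86a09c1720f8430e7188444608a21de128730d61ae4146e8f518e1306003f08a3cc6f8f121e3c0210b721229c5e0b80963ac740a515c41c698c61d4420708ad1403d85304807038c460b6122228590901ee438588bf1f4340518401f62d0218d52143145a8891580e87f83b1602585d08711a22c808e41e4328688ec2202a4220e51f211c498d91764005089e1960f04c1031103241e8cd13a3f44d90c12e368830941b62a87008f1662484a8840fc208190280b0018358710300b41600a0cc1fc3a8260360540b87301a1b832004042184270810ce0883501205e1703284f0be134048360b61783d0760480782a8780d21440180501814c2d0411d23485e8c21f033c6f0dc092290770ed1504084283917c3304d04606e1883a0290661a0078630600082c82a0321e4070140e40d40981c0561dc3e8250620200e8570e01ec1181a0f80b8138800401b40886f03e0d0080600d8150008560a020c0380b0a40582e800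

theorem inT3 : InG K0 t3 := InG.word (L := [e_a, e_x]) (fun P hP => inAll P (by
  simp only [List.mem_cons, List.not_mem_nil, or_false] at hP
  simp only [e7, List.mem_cons, List.not_mem_nil, or_false]
  tauto)) (by decide +kernel)

theorem trans_mcl (i j : Fin 275) : ∃ g : G1, ψ g i = j := by
  obtain ⟨g, h1, h2, h3⟩ := (S1580.result u0 v0 sqNorm_u0 ⟨sqNorm_v0, norm_sub_v0⟩).2 (X i) (X_mem i) (X j) (X_mem j)
  exact ⟨⟨g, h1, h2⟩, X_injective ((X_ψ ⟨g, h1, h2⟩ i).trans h3)⟩

theorem mcl_nc {L : Type u} [Group L] (h : Cfsg.Spor.IsoMcL L) (hN : Nat.card L = 898128000) :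
    NC 3 5 L ∧ NC 3 7 L ∧ NC 3 11 L ∧ NC 5 7 L ∧ NC 5 11 L := by
  have : Finite L := Nat.finite_of_card_ne_zero (by rw [hN]; norm_num)
  obtain ⟨θ, R⟩ := exists_rep h
  -- centralizers of elements of order 7, 11
  have key : ∀ (r c s : ℕ), r.Prime → s.Prime → r ≠ s → s ∣ Nat.card L → r ∣ Nat.card L → ¬ s ∣ c →
      (∀ P : Subgroup L, Nat.card P = r → Nat.card (centralizer (P : Set L)) ∣ c) → NC s r L := by
    intro r c s hr hs hrs hd hdr hsc H
    have : Fact r.Prime := ⟨hr⟩
    obtain ⟨x, hx⟩ := exists_prime_orderOf_dvd_card' r hdr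
    refine (nc_of_dvd hs hrs hx (a := 1) (n := c) (by rwa [pow_one]) ?_ (by rwa [pow_one])).symm
    have h1 := H (zpowers x) (by rw [Nat.card_zpowers, hx])
    have h2 : centralizer ((zpowers x : Subgroup L) : Set L) = centralizer ({x} : Set L) := by
      rw [zpowers_eq_closure, centralizer_closure]
    rwa [h2] at h1
  refine ⟨?_, ?_, ?_, ?_, ?_⟩
  · obtain ⟨x, hx⟩ := R.exists_of inT3
    have hx3 : orderOf x = 3 := R.orderOf_eq hx (by norm_num) (by decide +kernel) 1 (by decide +kernel)
    have hc : (Finset.univ.filter fun i : Fin 275 => θ x i = i).card = 14 := by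
      rw [← card_fin_of_cntB (fun i => Nat.beq (lk t3 i) i) 275 14 (by decide +kernel)]
      congr 1
      apply Finset.filter_congr
      intro i _
      rw [Nat.beq_eq, ← hx i, Fin.ext_iff]
    refine (nc_of_perm (p := 5) (by norm_num) (by norm_num) θ (fun i j => ?_) (k := 2) (by norm_num) hx3 hc
      (by norm_num)).symm
    obtain ⟨g, hg⟩ := trans_mcl i j
    have h1 : ψ g ∈ θ.range := by
      rw [R.range, ← range_ψ]
      exact ⟨g, rfl⟩
    obtain ⟨l, hl⟩ := h1
    exact ⟨l, by rw [hl, hg]⟩
  · exact key 7 14 3 (by norm_num) (by norm_num) (by norm_num) (by rw [hN]; norm_num) (by rw [hN]; norm_num)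
      (by norm_num) fun P hP => (seven h P hP).1
  · exact key 11 11 3 (by norm_num) (by norm_num) (by norm_num) (by rw [hN]; norm_num) (by rw [hN]; norm_num)
      (by norm_num) fun P hP => by rw [(eleven h P hP).1]
  · exact key 7 14 5 (by norm_num) (by norm_num) (by norm_num) (by rw [hN]; norm_num) (by rw [hN]; norm_num)
      (by norm_num) fun P hP => (seven h P hP).1
  · exact key 11 11 5 (by norm_num) (by norm_num) (by norm_num) (by rw [hN]; norm_num) (by rw [hN]; norm_num)
      (by norm_num) fun P hP => by rw [(eleven h P hP).1]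

end McL

theorem row_mcl {G : Type*} [Group G] [Finite G] [IsSimpleGroup G] (h : Spor.IsoMcL G) : Row G := by
  have hN := NotCT.Orders.mcl h
  obtain ⟨h35, h37, h311, h57, h511⟩ := mcl_nc h hN
  refine row_of (N := 898128000) (k := 7) hN [3, 5, 7, 11] [3, 5] [] 7 [] ?_ ?_ ?_ ?_ ?_ ?_ ?_ ?_
  · decide
  · decide
  · decide
  · exact ab_of_not_cube (by norm_num) (by rw [hN]; norm_num)
  · intro p hp q hq hpq
    simp only [List.mem_cons, List.not_mem_nil, or_false] at hp hq
    rcases hp with rfl | rfl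
    · rcases hq with rfl | rfl | rfl | rfl
      · exact absurd rfl hpq
      · exact h35
      · exact h37
      · exact h311
    · rcases hq with rfl | rfl | rfl | rfl
      · exact h35.symm
      · exact absurd rfl hpq
      · exact h57
      · exact h511
  · intro r hr; exact absurd hr (by simp)
  · intro a ha; exact absurd ha (by simp)
  · decide

end Cfsg.Agent.H846.NHRows
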