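import Cfsg.Agent.OddHalf.LongSL.Orth
import Cfsg.Agent.H445.SLThree

/-!
# `NoTC` for the simple orthogonal groups over `F₃` (task 773 of helper445, S3223)

`noTC_oodd3`, `noTC_oplus3`, `noTC_ominus3`.
-/

set_option autoImplicit false
set_option linter.unusedSectionVars false

namespace Cfsg.Agent.H846.TCOrth

open CoxeterSystem Cfsg.Agent.ChevalleyStructure.CoxeterGeom Cfsg.Agent.Tits.Roots Cfsg.Agent.Tits.Core
  Cfsg.Agent.Tits.RootComb Cfsg.Agent.Nodes.Comb Cfsg.Agent.Nodes.Reps Cfsg.Agent.Nodes.BNOf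
  Cfsg.Agent.Nodes.RGDLib
open QuadraticMap
open Matrix (SpecialLinearGroup)
open Cfsg.Agent.LieClassical Cfsg.Agent.LieClassical.OrthCore Cfsg.Agent.LieClassical.OrthTrans
open Cfsg.Agent.LieClassical.OrthSimple Cfsg.Agent.LieClassical.OrthFinite Cfsg.Agent.LieClassical.OrthForms
open Cfsg.Agent.LieClassical.SLTwoUnipotent (eq_top_of_u_mem_of_l_mem)
open Cfsg.Agent.TitsThree Cfsg.Agent.TitsThree.Siegel Cfsg.Agent.TitsThree.SiegelGen
  Cfsg.Agent.TitsThree.WittFrame Cfsg.Agent.TitsThree.WittWeyl Cfsg.Agent.TitsThree.WBridge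
  Cfsg.Agent.TitsThree.KSideO
open Cfsg.Agent.Nodes
open Cfsg.Agent.Nodes.WittRoot (Amb XG ZG PG PG_ne PG_self Mono XG_swap)
open Cfsg.Agent.Nodes.WittRGD (Tor mem_Tor b_ne_zero eq_or_ng)
open Cfsg.Agent.Nodes.RGDOrth
open Cfsg.Agent.Nodes.Bruhat (GG)
open Cfsg.Agent.OddHalf.LongSL Cfsg.Agent.OddHalf.LongSL.Orth Cfsg.Agent.OddHalf.LongSL.OrthPhi
open Cfsg.Agent.H445

/-- the range of `φ` is subnormal in the centralizer of `φ (-1)` -/
def Sub {Y F : Type*} [Group Y] [Field F] (φ : SpecialLinearGroup (Fin 2) F →* Y) : Prop :=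
  (φ.range.subgroupOf (Subgroup.centralizer ({φ (-1)} : Set Y))).IsSubnormal

section Abs

variable {I W Y : Type*} [Fintype I] [DecidableEq I] [Group W] [Group Y] {M : CoxeterMatrix I}
  {cs : CoxeterSystem M W} {A : I → I → ℤ} {h : IsCartan M A} {p : ℕ} {T : Subgroup Y} {n : I → Y}
  {X : (I → ℤ) → Subgroup Y}

theorem sub_of_rgd [Finite W] (R : RGD cs h p T n X) (hp2 : Odd p) (hG : GG cs h T X = ⊤) {a : I → ℤ}
    (ha : IsRoot cs h a) {F : Type} [Field F] [Fintype F]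
    (φ : Matrix.SpecialLinearGroup (Fin 2) F →* Y) {j : Y} (hj : φ (-1) = j)
    (hjT : j ∈ T) (hr : φ.range = JX X j a)
    (hx : ∀ x, IsRoot cs h x → x ≠ a → x ≠ -a → (∀ u ∈ X x, j * u * j⁻¹ = u⁻¹) ∨
      ∀ u ∈ X x, ∀ v ∈ φ.range, u * v = v * u) :
    Sub φ := by
  rw [Sub, hj]
  rw [hr]
  refine main R hjT ha (fun x hxr h1 h2 u hu v hv => ?_) hG
  rcases hx x hxr h1 h2 with h3 | h3
  · have h4 : u * u = 1 := by
      have h5 := h3 u (mem_ZX.1 hu).1
      rw [(mem_ZX.1 hu).2, mul_inv_cancel_right] at h5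
      nth_rewrite 1 [h5]
      rw [inv_mul_cancel]
    have h5 : u = 1 := by
      obtain ⟨k, hk⟩ := R.pgrp' hxr ⟨u, (mem_ZX.1 hu).1⟩
      have h6 : u ^ p ^ k = 1 := congrArg Subtype.val hk
      have h7 : orderOf u ∣ 2 := orderOf_dvd_of_pow_eq_one (by rw [pow_two, h4])
      have h8 : orderOf u ∣ p ^ k := orderOf_dvd_of_pow_eq_one h6
      have h9 : orderOf u ∣ 1 := by
        have hc : Nat.Coprime 2 (p ^ k) := Nat.Coprime.pow_right _ (Nat.coprime_two_left.2 hp2)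
        rw [← hc]
        exact Nat.dvd_gcd h7 h8
      rwa [Nat.dvd_one, orderOf_eq_one_iff] at h9
    subst h5
    rw [one_mul, mul_one]
  · exact h3 u (mem_ZX.1 hu).1 v (by rw [hr]; exact hv)

end Abs

section General

variable {ι : Type} [Fintype ι] [DecidableEq ι] {F : Type} [Field F] [Fintype F] {Q : QuadraticForm F (ι → F)}
  {m : ℕ} (W : WFrame (PO Q) m)

set_option maxHeartbeats 2000000 in
theorem sub_of_frame (hG : Good Q) {p : ℕ} [Fact p.Prime] (hp2 : Odd p)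
    {l : ℕ} {M : CoxeterMatrix (Fin l)}
    {A : Fin l → Fin l → ℤ} {h : IsCartan M A} {T : Subgroup ((ι → F) ≃ₗ[F] (ι → F))}
    {n : Fin l → ((ι → F) ≃ₗ[F] (ι → F))} {X : (Fin l → ℤ) → Subgroup ((ι → F) ≃ₗ[F] (ι → F))}
    (hW : Finite M.Group) (R : RGD M.toCoxeterSystem h p T n X)
    (hX : ∀ x, IsRoot M.toCoxeterSystem h x → X x ≤ E Q) (hn : ∀ i, n i ∈ E Q)
    (hgen : E Q ≤ G1 M.toCoxeterSystem h X)
    {x y z : Fin m × Bool} (hxy : x.1 ≠ y.1) (hzx : z.1 ≠ x.1) (hzy : z.1 ≠ y.1)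
    {a : Fin l → ℤ} (ha : IsRoot M.toCoxeterSystem h a) (hXa : X a = XG (toFrame W) x y)
    (hXa' : X (-a) = XG (toFrame W) (neg y) (neg x)) (hjT : Phi (toFrame W) hxy (-1) ∈ T)
    (hinv : ∀ r, IsRoot M.toCoxeterSystem h r → r ≠ a → r ≠ -a →
      (∀ u ∈ X r, Phi (toFrame W) hxy (-1) * u * (Phi (toFrame W) hxy (-1))⁻¹ = u⁻¹) ∨
      ∀ u ∈ X r, (∀ t, Commute u ((toFrame W).X x y t)) ∧ ∀ t, Commute u ((toFrame W).X (neg y) (neg x) t)) :
    Sub (phiP W hG hxy) := by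
  have hfin : Finite ((ι → F) ≃ₗ[F] (ι → F)) :=
    Finite.of_injective (fun g : (ι → F) ≃ₗ[F] (ι → F) => (g : (ι → F) → (ι → F))) DFunLike.coe_injective
  have R1 := rgd_restrict R (E Q) hX hn
  have R2 := rgd_map_of_ker_le_center R1 (toPOmega hG) fun g hg => center_of_toPOmega hG hg
  have e1 : G1 M.toCoxeterSystem h (fun x => (X x).subgroupOf (E Q)) = ⊤ := by
    have e2 : (G1 M.toCoxeterSystem h X).subgroupOf (E Q) =
        G1 M.toCoxeterSystem h (fun x => (X x).subgroupOf (E Q)) := by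
      unfold G1 RGD.Sup
      exact iSup_subgroupOf (fun z : {x | IsRoot M.toCoxeterSystem h x} => X z.1) fun z => hX z.1 z.2
    rw [← e2]
    exact Subgroup.subgroupOf_eq_top.2 hgen
  have e3 : (G1 M.toCoxeterSystem h (fun x => (X x).subgroupOf (E Q))).map (toPOmega hG) =
      G1 M.toCoxeterSystem h (fun x => ((X x).subgroupOf (E Q)).map (toPOmega hG)) := by
    unfold G1 RGD.Sup
    rw [Subgroup.map_iSup]
  have e4 : G1 M.toCoxeterSystem h (fun x => ((X x).subgroupOf (E Q)).map (toPOmega hG)) = ⊤ := by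
    rw [← e3, e1, Subgroup.map_top_of_surjective _ (toPOmega_surjective hG)]
  have hGG : Bruhat.GG M.toCoxeterSystem h ((T.subgroupOf (E Q)).map (toPOmega hG))
      (fun x => ((X x).subgroupOf (E Q)).map (toPOmega hG)) = ⊤ := by
    rw [eq_top_iff, ← e4]
    exact le_sup_right
  rw [Sub]
  obtain ⟨φ, hφd⟩ : ∃ φ, φ = phiP W hG hxy := ⟨_, rfl⟩
  rw [← hφd]
  have hφ : Function.Injective φ := by rw [hφd]; exact phiP_injective W hG hxy hzx hzy
  have hu : ∀ t, φ (SLTwoUnipotent.u t) = toPOmega hG ⟨(toFrame W).X x y t, X_mem W _ _ _⟩ := fun t => by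
    rw [hφd]; exact phiP_u W hG hxy t
  have hl : ∀ t, φ (SLTwoUnipotent.l t) = toPOmega hG ⟨(toFrame W).X (neg y) (neg x) t, X_mem W _ _ _⟩ := fun t => by
    rw [hφd]; exact phiP_l W hG hxy t
  have hj : φ (-1) = toPOmega hG ⟨Phi (toFrame W) hxy (-1), Phi_mem W hxy _⟩ := by rw [hφd]; rfl
  have hcomm : ∀ g, φ (-1) * φ g = φ g * φ (-1) := fun g => by rw [hφd]; exact phiP_comm W hG hxy g
  clear hφd
  refine sub_of_rgd R2 hp2 hGG ha φ rfl ?_ ?_ ?_
  · rw [hj]; exact ⟨_, hjT, rfl⟩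
  · apply le_antisymm
    · have key : (JX (fun x => ((X x).subgroupOf (E Q)).map (toPOmega hG)) (φ (-1)) a).comap φ = ⊤ := by
        apply eq_top_of_u_mem_of_l_mem
        · intro t
          rw [Subgroup.mem_comap]
          refine (le_sup_left : ZX _ (φ (-1)) a ≤ _) (mem_ZX.2 ⟨?_, hcomm _⟩)
          rw [hu]
          refine ⟨_, ?_, rfl⟩
          show (toFrame W).X x y t ∈ X a
          rw [hXa]
          exact ⟨t, rfl⟩
        · intro t
          rw [Subgroup.mem_comap]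
          refine (le_sup_right : ZX _ (φ (-1)) (-a) ≤ _) (mem_ZX.2 ⟨?_, hcomm _⟩)
          rw [hl]
          refine ⟨_, ?_, rfl⟩
          show (toFrame W).X (neg y) (neg x) t ∈ X (-a)
          rw [hXa']
          exact ⟨t, rfl⟩
      rintro _ ⟨g, rfl⟩
      exact Subgroup.mem_comap.1 (key ▸ Subgroup.mem_top g)
    · refine sup_le ?_ ?_
      · intro w hw
        obtain ⟨v, hv, rfl⟩ := (mem_ZX.1 hw).1
        have h1 : (v : (ι → F) ≃ₗ[F] (ι → F)) ∈ X a := hv
        rw [hXa] at h1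
        obtain ⟨t, ht⟩ := h1
        refine ⟨SLTwoUnipotent.u t, ?_⟩
        rw [hu]
        exact congrArg (toPOmega hG) (Subtype.ext ht.symm)
      · intro w hw
        obtain ⟨v, hv, rfl⟩ := (mem_ZX.1 hw).1
        have h1 : (v : (ι → F) ≃ₗ[F] (ι → F)) ∈ X (-a) := hv
        rw [hXa'] at h1
        obtain ⟨t, ht⟩ := h1
        refine ⟨SLTwoUnipotent.l t, ?_⟩
        rw [hl]
        exact congrArg (toPOmega hG) (Subtype.ext ht.symm)
  · intro r hr hra hra'
    rcases hinv r hr hra hra' with h1 | h1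
    · left
      rintro _ ⟨v, hv, rfl⟩
      have h2 := h1 v hv
      rw [hj, ← map_inv, ← map_inv, ← map_mul, ← map_mul]
      exact congrArg (toPOmega hG) (Subtype.ext h2)
    · right
      rintro _ ⟨v, hv, rfl⟩ _ ⟨g, rfl⟩
      obtain ⟨h2, h3⟩ := h1 v hv
      have key : (Subgroup.centralizer ({toPOmega hG v} : Set (Cfsg.POmega F ⇑Q))).comap φ = ⊤ := by
        apply eq_top_of_u_mem_of_l_mem
        · intro t
          rw [Subgroup.mem_comap, Subgroup.mem_centralizer_iff]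
          rintro _ rfl
          rw [hu, ← map_mul, ← map_mul]
          exact congrArg (toPOmega hG) (Subtype.ext (h2 t))
        · intro t
          rw [Subgroup.mem_comap, Subgroup.mem_centralizer_iff]
          rintro _ rfl
          rw [hl, ← map_mul, ← map_mul]
          exact congrArg (toPOmega hG) (Subtype.ext (h3 t))
      have h5 : g ∈ (Subgroup.centralizer ({toPOmega hG v} : Set (Cfsg.POmega F ⇑Q))).comap φ := by
        rw [key]; trivial
      exact Subgroup.mem_centralizer_iff.1 h5 _ (Set.mem_singleton _)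


theorem phi_comm {x y z : Fin m × Bool} (hxy : x.1 ≠ y.1) (hyz : y.1 ≠ z.1) (hzx : z.1 ≠ x.1) :
    Phi (toFrame W) hyz (-1) * Phi (toFrame W) hxy (-1) = Phi (toFrame W) hxy (-1) * Phi (toFrame W) hyz (-1) := by
  ext1 v
  show Phi (toFrame W) hyz (-1) (Phi (toFrame W) hxy (-1) v) = Phi (toFrame W) hxy (-1) (Phi (toFrame W) hyz (-1) v)
  have a1 : Phi (toFrame W) hyz (-1) ((toFrame W).b x) = (toFrame W).b x := Phi_of_ne _ hyz _ hxy hzx.symm
  have a2 : Phi (toFrame W) hyz (-1) ((toFrame W).b (neg x)) = (toFrame W).b (neg x) :=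
    Phi_of_ne _ hyz _ hxy hzx.symm
  have a3 : Phi (toFrame W) hyz (-1) ((toFrame W).b y) = (-1 : F) • (toFrame W).b y := j_of_eq _ hyz (Or.inl rfl)
  have a4 : Phi (toFrame W) hyz (-1) ((toFrame W).b (neg y)) = (-1 : F) • (toFrame W).b (neg y) :=
    j_of_eq _ hyz (Or.inl rfl)
  have b1 : Phi (toFrame W) hxy (-1) ((toFrame W).b z) = (toFrame W).b z := Phi_of_ne _ hxy _ hzx hyz.symm
  have b2 : Phi (toFrame W) hxy (-1) ((toFrame W).b (neg z)) = (toFrame W).b (neg z) :=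
    Phi_of_ne _ hxy _ hzx hyz.symm
  have b3 : Phi (toFrame W) hxy (-1) ((toFrame W).b y) = (-1 : F) • (toFrame W).b y := j_of_eq _ hxy (Or.inr rfl)
  have b4 : Phi (toFrame W) hxy (-1) ((toFrame W).b (neg y)) = (-1 : F) • (toFrame W).b (neg y) :=
    j_of_eq _ hxy (Or.inr rfl)
  rw [Phi_neg_one (toFrame W) hxy v, Phi_neg_one (toFrame W) hyz v]
  simp only [map_sub, map_smul]
  rw [a1, a2, a3, a4, b1, b2, b3, b4, Phi_neg_one (toFrame W) hxy v, Phi_neg_one (toFrame W) hyz v]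
  module

theorem noTC_of_sub (hG : Good Q) (h2 : (2 : F) ≠ 0) (h3 : Fintype.card F = 3) {x y z : Fin m × Bool}
    (hxy : x.1 ≠ y.1) (hzx : z.1 ≠ x.1) (hzy : z.1 ≠ y.1) (hs : Sub (phiP W hG hxy)) :
    NoTC (Cfsg.POmega F ⇑Q) := by
  have hfin : Finite ((ι → F) ≃ₗ[F] (ι → F)) :=
    Finite.of_injective (fun g : (ι → F) ≃ₗ[F] (ι → F) => (g : (ι → F) → (ι → F))) DFunLike.coe_injective
  have hfin2 : Finite (Cfsg.POmega F ⇑Q) := Finite.of_surjective _ (toPOmega_surjective hG)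
  have hφ := phiP_injective W hG hxy hzx hzy
  have hA := amb W h2
  have hyz := hzy.symm
  have hone : ∀ t : F, (t + t + t : F) = 0 := by
    intro t
    have h4 : (3 : F) = 0 := by
      have := FiniteField.cast_card_eq_zero F
      rw [h3] at this
      exact_mod_cast this
    linear_combination t * h4
  refine NoTC.of_sl3 (j := phiP W hG hxy (-1)) (J := (phiP W hG hxy).range) ?_ ?_ hs h3
    (MonoidHom.ofInjective hφ).symm (y := phiP W hG hxy (SLTwoUnipotent.u 1)) (w := phiP W hG hyz (-1))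
    ⟨_, rfl⟩ ?_ ?_ ?_ ?_ (Or.inl ?_)
  · exact ⟨1, by rw [pow_one, ← map_pow, neg_one_sq, map_one]⟩
  · rintro _ ⟨g, rfl⟩
    rw [Subgroup.mem_centralizer_iff]
    rintro _ rfl
    exact phiP_comm W hG hxy g
  · intro h
    have h4 : SLTwoUnipotent.u (1 : F) = 1 := hφ (by rw [h, map_one])
    have h5 := congrArg (fun g : SpecialLinearGroup (Fin 2) F => (g : Matrix (Fin 2) (Fin 2) F) 0 1) h4
    simp [SLTwoUnipotent.u] at h5
  · rw [← map_pow, pow_succ, pow_two, ← SLTwoUnipotent.u_add, ← SLTwoUnipotent.u_add, hone 1]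
    have : SLTwoUnipotent.u (0 : F) = 1 := SLTwoUnipotent.u_zero
    rw [this, map_one]
  · rw [phiP_apply, phiP_apply, ← map_mul, ← map_mul]
    exact congrArg (toPOmega hG) (Subtype.ext (phi_comm W hxy hyz hzx))
  · exact ⟨1, by rw [pow_one, ← map_pow, neg_one_sq, map_one]⟩
  · rw [phiP_u, phiP_apply, ← map_inv, ← map_inv, ← map_mul, ← map_mul]
    refine congrArg (toPOmega hG) (Subtype.ext ?_)
    show Phi (toFrame W) hyz (-1) * (toFrame W).X x y 1 * (Phi (toFrame W) hyz (-1))⁻¹ = ((toFrame W).X x y 1)⁻¹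
    rw [cj_X W hyz (hA := hA) hxy (l := 1) (k := -1) (by rw [Phi_of_ne _ hyz _ hxy hzx.symm, one_smul])
      (j_of_eq _ hyz (Or.inl rfl)), ← Frame.X_neg]
    congr 1; ring

end General

section Types

variable {ι : Type} [Fintype ι] [DecidableEq ι] {F : Type} [Field F] [Fintype F] {Q : QuadraticForm F (ι → F)}
  {m : ℕ}

/-- Type `C_{m+3}`. -/
theorem noTC_C (hG : Good Q) {p : ℕ} [Fact p.Prime] [CharP F p] (hp2 : Odd p) (h3 : Fintype.card F = 3)
    (W : WFrame (PO Q) (m + 3)) (hp0 : ∃ p : (toFrame W).Adm, p.c ≠ 0) :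
    NoTC (Cfsg.POmega F ⇑Q) := by
  obtain ⟨p0, hp0⟩ := hp0
  have hA := amb W (two_ne hp2)
  have hW : Finite (CoxeterMatrix.B (m + 3)).Group := TypeC.finite_W (CoxeterMatrix.B (m + 3)).toCoxeterSystem
  have hgen : E Q ≤ G1 (CoxeterMatrix.B (m + 3)).toCoxeterSystem (TypeC.isCartan (m + 3))
      (WittRoot.rg (toFrame W)) := by
    set K := G1 (CoxeterMatrix.B (m + 3)).toCoxeterSystem (TypeC.isCartan (m + 3))
      (WittRoot.rg (toFrame W)) with hK
    have key : ∀ a b : Fin (m + 3) × Bool, TypeC.Ok a b → PG (toFrame W) a b ≤ K := by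
      intro a b hab
      obtain ⟨z, hz, ez⟩ := TypeC.rt_of_ok (cs := (CoxeterMatrix.B (m + 3)).toCoxeterSystem) hab
      rw [← WittRoot.rg_eq (toFrame W) hab ez]
      exact X_le_G1 hz
    refine E_le_of_contains W (contains_C W 0 ?_ ?_ ⟨p0, hp0⟩)
    · intro i j hij t
      have hne : i ≠ j := fun h => by rw [h] at hij; omega
      constructor
      · refine key (i, true) (j, false) (Or.inl hne) ?_
        rw [WittRoot.PG_ne (toFrame W) (a := (i, true)) (b := (j, false)) hne]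
        exact ⟨t, rfl⟩
      · refine key (j, true) (i, false) (Or.inl hne.symm) ?_
        rw [WittRoot.PG_ne (toFrame W) (a := (j, true)) (b := (i, false)) hne.symm]
        exact ⟨t, rfl⟩
    · intro q
      constructor
      · refine key (0, true) (0, true) (Or.inr rfl) ?_
        rw [WittRoot.PG_self]
        exact ⟨q, rfl⟩
      · refine key (0, false) (0, false) (Or.inr rfl) ?_
        rw [WittRoot.PG_self]
        exact ⟨q, rfl⟩
  have hxy : (((0 : Fin (m + 3)), true) : Fin (m + 3) × Bool).1 ≠ (((1 : Fin (m + 3)), true) : Fin (m + 3) × Bool).1 := by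
    simp
  obtain ⟨a, ha, ea⟩ := TypeC.rt_of_ok (cs := (CoxeterMatrix.B (m + 3)).toCoxeterSystem)
    (a := ((0 : Fin (m + 3)), true)) (b := ((1 : Fin (m + 3)), true)) (Or.inl hxy)
  have ea' : TypeC.ee (-a) = TypeC.wt (TypeC.ng ((1 : Fin (m + 3)), true)) + TypeC.wt (TypeC.ng ((0 : Fin (m + 3)), true)) := by
    rw [TypeC.ee_neg, ea, TypeC.wt_ng, TypeC.wt_ng]; abel
  have hzx : (((⟨2, by omega⟩ : Fin (m + 3)), true) : Fin (m + 3) × Bool).1 ≠
      (((0 : Fin (m + 3)), true) : Fin (m + 3) × Bool).1 := by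
    simp [Fin.ext_iff]
  have hzy : (((⟨2, by omega⟩ : Fin (m + 3)), true) : Fin (m + 3) × Bool).1 ≠
      (((1 : Fin (m + 3)), true) : Fin (m + 3) × Bool).1 := by
    simp [Fin.ext_iff]
  refine noTC_of_sub W hG (two_ne hp2) h3 hxy hzx hzy ?_
  refine sub_of_frame W hG hp2 hW (WittRGD.rgd hA hp2 hp0 (CoxeterMatrix.B (m + 3)).toCoxeterSystem)
    (fun x _ => hA.rg_le x) (fun i => WittRGD.nn_mem hA p0 i) hgen (x := ((0 : Fin (m + 3)), true))
    (y := ((1 : Fin (m + 3)), true)) (z := (⟨2, by omega⟩, true)) hxy ?_ ?_ ha ?_ ?_ (j_mem_Tor W hxy) ?_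
  · simp [Fin.ext_iff]
  · simp [Fin.ext_iff]
  · rw [WittRoot.rg_eq (toFrame W) (Or.inl hxy) ea, PG_ne _ hxy]
  · rw [WittRoot.rg_eq (toFrame W) (a := TypeC.ng ((1 : Fin (m + 3)), true))
      (b := TypeC.ng ((0 : Fin (m + 3)), true)) (Or.inl hxy.symm) ea', PG_ne _ (by simp)]
    rfl
  · intro r hr hra hra'
    obtain ⟨c, d, hcd, er⟩ := TypeC.exists_of_isRoot _ hr
    rw [WittRoot.rg_eq (toFrame W) hcd er]
    rcases hcd with hcd | rfl
    · rw [PG_ne _ hcd]
      refine dich_X W hxy hA hcd ?_ ?_ ?_ ?_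
      · rintro ⟨rfl, rfl⟩
        exact hra (TypeC.ee_injective (er.trans ea.symm))
      · rintro ⟨rfl, rfl⟩
        exact hra (TypeC.ee_injective (by rw [er, ea]; abel))
      · rintro ⟨rfl, rfl⟩
        exact hra' (TypeC.ee_injective (by rw [er, ea']; exact add_comm _ _))
      · rintro ⟨rfl, rfl⟩
        exact hra' (TypeC.ee_injective (by rw [er, ea']; rfl))
    · rw [PG_self]
      exact dich_Z W hxy hA c

/-- Type `D_{m+3}`. -/
theorem noTC_D (hG : Good Q) {p : ℕ} [Fact p.Prime] [CharP F p] (hp2 : Odd p) (h3 : Fintype.card F = 3)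
    (W : WFrame (PO Q) (m + 1 + 2)) (h0 : ∀ p : (toFrame W).Adm, p = 1) :
    NoTC (Cfsg.POmega F ⇑Q) := by
  have hA := amb W (two_ne hp2)
  have hW : Finite (TypeD.M (m + 1)).Group := TypeD.finite_W (TypeD.M (m + 1)).toCoxeterSystem
  have hle : ∀ x, WittRGDD.rg (toFrame W) x ≤ E Q := fun x => iSup_le fun q => by
    rintro _ ⟨t, rfl⟩; exact hA.X_mem _ _ _
  have hgen : E Q ≤ G1 (TypeD.M (m + 1)).toCoxeterSystem (TypeD.isCartan (m + 1)) (WittRGDD.rg (toFrame W)) := by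
    set K := G1 (TypeD.M (m + 1)).toCoxeterSystem (TypeD.isCartan (m + 1)) (WittRGDD.rg (toFrame W)) with hK
    have key : ∀ a b : Fin (m + 1 + 2) × Bool, TypeD.Ok a b → ∀ t, (toFrame W).X a b t ∈ K := by
      intro a b hab t
      obtain ⟨z, hz, ez⟩ := TypeD.rt_of_ok (cs := (TypeD.M (m + 1)).toCoxeterSystem) hab
      have h1 : XG (toFrame W) a b ≤ K := by
        rw [← WittRGDD.rg_eq (toFrame W) hab ez]
        exact X_le_G1 hz
      exact h1 ⟨t, rfl⟩
    have hkl : (0 : Fin (m + 1 + 2)) ≠ 1 := by simp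
    refine E_le_of_contains W (contains_D W 0 1 hkl ?_ ?_ h0)
    · intro i j hij t
      have hne : i ≠ j := fun h => by rw [h] at hij; omega
      exact ⟨key (i, true) (j, false) hne t, key (j, true) (i, false) hne.symm t⟩
    · intro t
      exact ⟨key (0, true) (1, true) hkl t, key (0, false) (1, false) hkl t⟩
  have hxy : (((0 : Fin (m + 1 + 2)), true) : Fin (m + 1 + 2) × Bool).1 ≠
      (((1 : Fin (m + 1 + 2)), true) : Fin (m + 1 + 2) × Bool).1 := by
    simp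
  obtain ⟨a, ha, ea⟩ := TypeD.rt_of_ok (cs := (TypeD.M (m + 1)).toCoxeterSystem)
    (a := ((0 : Fin (m + 1 + 2)), true)) (b := ((1 : Fin (m + 1 + 2)), true)) hxy
  have ea' : TypeD.ee (-a) = TypeC.wt (TypeC.ng ((1 : Fin (m + 1 + 2)), true)) +
      TypeC.wt (TypeC.ng ((0 : Fin (m + 1 + 2)), true)) := by
    rw [TypeD.ee_neg, ea, TypeC.wt_ng, TypeC.wt_ng]; abel
  have hzx : (((⟨2, by omega⟩ : Fin (m + 1 + 2)), true) : Fin (m + 1 + 2) × Bool).1 ≠
      (((0 : Fin (m + 1 + 2)), true) : Fin (m + 1 + 2) × Bool).1 := by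
    simp [Fin.ext_iff]
  have hzy : (((⟨2, by omega⟩ : Fin (m + 1 + 2)), true) : Fin (m + 1 + 2) × Bool).1 ≠
      (((1 : Fin (m + 1 + 2)), true) : Fin (m + 1 + 2) × Bool).1 := by
    simp [Fin.ext_iff]
  refine noTC_of_sub W hG (two_ne hp2) h3 hxy hzx hzy ?_
  refine sub_of_frame W hG hp2 hW (WittRGDD.rgd hA hp2 h0 (TypeD.M (m + 1)).toCoxeterSystem)
    (fun x _ => hle x) (fun i => WittRGDD.nn_mem hA i) hgen (x := ((0 : Fin (m + 1 + 2)), true))
    (y := ((1 : Fin (m + 1 + 2)), true)) (z := (⟨2, by omega⟩, true)) hxy ?_ ?_ ha ?_ ?_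
    (j_mem_Tor W hxy) ?_
  · simp [Fin.ext_iff]
  · simp [Fin.ext_iff]
  · exact WittRGDD.rg_eq (toFrame W) hxy ea
  · rw [WittRGDD.rg_eq (toFrame W) (a := TypeC.ng ((1 : Fin (m + 1 + 2)), true))
      (b := TypeC.ng ((0 : Fin (m + 1 + 2)), true)) hxy.symm ea']
    rfl
  · intro r hr hra hra'
    obtain ⟨c, d, hcd, er⟩ := TypeD.exists_of_isRoot _ hr
    rw [WittRGDD.rg_eq (toFrame W) hcd er]
    refine dich_X W hxy hA hcd ?_ ?_ ?_ ?_
    · rintro ⟨rfl, rfl⟩
      exact hra (TypeD.ee_injective (er.trans ea.symm))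
    · rintro ⟨rfl, rfl⟩
      exact hra (TypeD.ee_injective (by rw [er, ea]; abel))
    · rintro ⟨rfl, rfl⟩
      exact hra' (TypeD.ee_injective (by rw [er, ea']; exact add_comm _ _))
    · rintro ⟨rfl, rfl⟩
      exact hra' (TypeD.ee_injective (by rw [er, ea']; rfl))

end Types

section Main

variable {F : Type} [Field F] [Fintype F]

theorem charP_three (h3 : Fintype.card F = 3) : CharP F 3 := by
  have h4 : (3 : ℕ) = 0 ∨ ((3 : ℕ) : F) = 0 := by
    have := FiniteField.cast_card_eq_zero F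
    rw [h3] at this
    exact Or.inr this
  have h5 : ((3 : ℕ) : F) = 0 := h4.resolve_left (by norm_num)
  exact (CharP.charP_iff_prime_eq_zero Nat.prime_three).2 h5

theorem noTC_oodd3 (hF : Fintype.card F = 3) {m : ℕ} (hm : 3 ≤ m) :
    NoTC (Cfsg.POmega F (Cfsg.quadFormOdd m F)) := by
  have hC := charP_three hF
  have : Fact (Nat.Prime 3) := ⟨Nat.prime_three⟩
  have hp2 : Odd 3 := by decide
  rw [← coe_oddForm]
  have hG : Good (oddForm m F) := by
    apply good_of_finite (nondeg_oddForm m F (two_ne hp2))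
    rw [Module.finrank_fintype_fun_eq_card, Fintype.card_sum, Fintype.card_sum, Fintype.card_fin,
      Fintype.card_unit]
    omega
  obtain ⟨m, rfl⟩ : ∃ k, m = k + 3 := ⟨m - 3, by omega⟩
  refine noTC_C hG hp2 hF (wodd (m + 3) F) ?_
  refine ⟨(embOdd (m + 3) F).ngt ⟨1, -1 ^ 2, rfl⟩, ?_⟩
  change (1 : F)⁻¹ * (-1 ^ 2) ≠ 0
  simp

theorem noTC_oplus3 (hF : Fintype.card F = 3) {m : ℕ} (hm : 4 ≤ m) :
    NoTC (Cfsg.POmega F (Cfsg.quadFormPlus m F)) := by
  have hC := charP_three hF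
  have : Fact (Nat.Prime 3) := ⟨Nat.prime_three⟩
  have hp2 : Odd 3 := by decide
  rw [← coe_plusForm]
  have hG : Good (plusForm m F) := by
    apply good_of_finite (nondeg_plusForm m F)
    rw [Module.finrank_fintype_fun_eq_card, Fintype.card_sum, Fintype.card_fin]
    omega
  obtain ⟨m, rfl⟩ : ∃ k, m = k + 1 + 2 := ⟨m - 3, by omega⟩
  exact noTC_D hG hp2 hF (wplus (m + 1 + 2) F) (wplus_adm _ F)

theorem noTC_ominus3 (hF : Fintype.card F = 3) {m : ℕ} (hm : 4 ≤ m) (b c : F)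
    (hbc : ∀ z₁ z₂ : F, z₁ ^ 2 + b * z₁ * z₂ + c * z₂ ^ 2 = 0 → z₁ = 0 ∧ z₂ = 0) :
    NoTC (Cfsg.POmega F (Cfsg.quadFormMinus (m - 1) F b c)) := by
  have hC := charP_three hF
  have : Fact (Nat.Prime 3) := ⟨Nat.prime_three⟩
  have hp2 : Odd 3 := by decide
  obtain ⟨m, rfl⟩ : ∃ k, m = k + 4 := ⟨m - 4, by omega⟩
  rw [show m + 4 - 1 = m + 3 by omega, ← coe_minusForm]
  have hG : Good (minusForm (m + 3) F b c) := by
    apply good_of_finite (nondeg_minusForm (m + 3) F b c hbc)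
    rw [Module.finrank_fintype_fun_eq_card, Fintype.card_sum, Fintype.card_sum, Fintype.card_fin,
      Fintype.card_fin]
    omega
  refine noTC_C hG hp2 hF (wminus (m + 3) F b c hbc) ?_
  refine ⟨(embMinus (m + 3) F b c hbc).ngt ⟨(1, 0), -StdData.nf b c (1, 0), rfl⟩, ?_⟩
  change (1 : F)⁻¹ * (-StdData.nf b c (1, 0)) ≠ 0
  simp [StdData.nf]

end Main

end Cfsg.Agent.H846.TCOrth
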