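import Mathlib

/-!
# The alternating group of degree 6 (helper846)
-/

set_option autoImplicit false

namespace Cfsg.Agent.H846.ASix

open Subgroup Equiv

/-- the alternating group of degree 6 -/
abbrev A6 : Type := alternatingGroup (Fin 6)

theorem card : Nat.card A6 = 360 := by
  rw [nat_card_alternatingGroup]
  simp
  decide

theorem simple : IsSimpleGroup A6 := alternatingGroup.isSimpleGroup (by simp)

/-- `(0 1 2)` -/
def cP : Perm (Fin 6) := c[0, 1, 2]
/-- `(3 4 5)` -/
def dP : Perm (Fin 6) := c[3, 4, 5]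
/-- `(0 3 1 4)(2 5)` -/
def wP : Perm (Fin 6) := c[0, 3, 1, 4] * c[2, 5]

/-- `(0 1 2)` -/
def c : A6 := ⟨cP, Perm.mem_alternatingGroup.2 (by decide)⟩
/-- `(3 4 5)` -/
def d : A6 := ⟨dP, Perm.mem_alternatingGroup.2 (by decide)⟩
/-- `(0 3 1 4)(2 5)` -/
def w : A6 := ⟨wP, Perm.mem_alternatingGroup.2 (by decide)⟩

theorem w_c : w * c * w⁻¹ = d := Subtype.ext (by decide)
theorem w_d : w * d * w⁻¹ = c⁻¹ := Subtype.ext (by decide)
theorem cd : c * d = d * c := Subtype.ext (by decide)
theorem c_cube : c ^ 3 = 1 := Subtype.ext (by decide)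
theorem d_cube : d ^ 3 = 1 := Subtype.ext (by decide)
theorem c_ne : c ≠ 1 := fun h => by
  have : cP = 1 := congrArg Subtype.val h
  exact absurd this (by decide)
theorem w_order : orderOf w = 4 := by
  have h1 : w ^ 2 ^ (1 + 1) = 1 := Subtype.ext (by decide)
  have h2 : ¬ w ^ 2 ^ 1 = 1 := fun h => by
    have : wP ^ 2 ^ 1 = 1 := congrArg Subtype.val h
    exact absurd this (by decide)
  exact orderOf_eq_prime_pow h2 h1

theorem c_order : orderOf c = 3 := orderOf_eq_prime c_cube c_ne

theorem d_notMem : d ∉ zpowers c := by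
  rw [mem_zpowers_iff_mem_range_orderOf, c_order]
  simp only [Finset.mem_image, Finset.mem_range, not_exists, not_and]
  intro k hk h
  have h' : cP ^ k = dP := congrArg Subtype.val h
  revert h'
  interval_cases k <;> decide

/-- elements of 3-power order have order 3 -/
theorem cube_of_pow {x : A6} {n : ℕ} (h : x ^ 3 ^ n = 1) : x ^ 3 = 1 := by
  obtain ⟨k, hk, hx⟩ := (Nat.dvd_prime_pow Nat.prime_three).1 (orderOf_dvd_of_pow_eq_one h)
  have hd : orderOf x ∣ 360 := by
    rw [← card]; exact orderOf_dvd_natCard x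
  have hk2 : k ≤ 2 := by
    by_contra hcon
    have : (3 : ℕ) ^ 3 ∣ 360 := (pow_dvd_pow 3 (by omega : 3 ≤ k)).trans (hx ▸ hd)
    omega
  have hk1 : k ≤ 1 := by
    by_contra hcon
    have hk' : k = 2 := by omega
    subst hk'
    -- a permutation of six points has no order 9
    have h9 : orderOf (x : Perm (Fin 6)) = 9 := by
      rw [Subgroup.orderOf_coe, hx]; norm_num
    have h1 : 9 ∣ (x : Perm (Fin 6)).cycleType.lcm := by
      rw [Perm.lcm_cycleType, h9]
    have h2 : ∃ m ∈ (x : Perm (Fin 6)).cycleType, 9 ∣ m := by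
      by_contra hno
      push Not at hno
      have h3 : ∀ m ∈ (x : Perm (Fin 6)).cycleType, m ∣ 3 := by
        intro m hm
        have hm9 : m ∣ 9 := by
          rw [← h9, ← Perm.lcm_cycleType]
          exact Multiset.dvd_lcm hm
        have hm' : m ∣ 3 ^ 2 := by simpa using hm9
        obtain ⟨j, hj, rfl⟩ := (Nat.dvd_prime_pow Nat.prime_three).1 hm'
        have : j ≠ 2 := by
          rintro rfl
          exact hno _ hm (by norm_num)
        exact (pow_dvd_pow 3 (by omega : j ≤ 1)).trans (by norm_num)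
      have h4 : (x : Perm (Fin 6)).cycleType.lcm ∣ 3 := Multiset.lcm_dvd.2 h3
      rw [Perm.lcm_cycleType, h9] at h4
      omega
    obtain ⟨m, hm, h9m⟩ := h2
    have h5 : m ≤ 6 := by
      have := Perm.le_card_support_of_mem_cycleType hm
      refine this.trans ?_
      exact (Finset.card_le_univ _).trans (by simp)
    have h6 : 0 < m := by
      have := Perm.two_le_of_mem_cycleType hm
      omega
    have := Nat.le_of_dvd h6 h9m
    omega
  have : orderOf x ∣ 3 := by
    rw [hx]
    exact (pow_dvd_pow 3 hk1).trans (by norm_num)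
  exact orderOf_dvd_iff_pow_eq_one.1 this

/-- every element of order 3 is conjugate in the symmetric group to `c` or `c * d` -/
theorem exists_conj {x : A6} (h3 : x ^ 3 = 1) (h1 : x ≠ 1) :
    ∃ s : Perm (Fin 6), (x : Perm (Fin 6)) = s * cP * s⁻¹ ∨ (x : Perm (Fin 6)) = s * (cP * dP) * s⁻¹ := by
  have ho : orderOf (x : Perm (Fin 6)) = 3 := by
    rw [Subgroup.orderOf_coe]
    exact orderOf_eq_prime h3 h1
  obtain ⟨n, hn⟩ := Perm.cycleType_prime_order (σ := (x : Perm (Fin 6))) (by rw [ho]; norm_num)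
  rw [ho] at hn
  have hs := Perm.sum_cycleType_le (x : Perm (Fin 6))
  rw [hn] at hs
  simp at hs
  have hn1 : n = 0 ∨ n = 1 := by omega
  have hc : cP.cycleType = {3} := card_support_eq_three_iff.1 (by decide)
  have hd : dP.cycleType = {3} := card_support_eq_three_iff.1 (by decide)
  have hcd : (cP * dP).cycleType = {3} + {3} := by
    rw [Perm.Disjoint.cycleType_mul, hc, hd]
    rw [Perm.disjoint_iff_disjoint_support]
    decide
  rcases hn1 with rfl | rfl
  · have h : IsConj cP (x : Perm (Fin 6)) := by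
      rw [Perm.isConj_iff_cycleType_eq, hn, hc]; rfl
    obtain ⟨s, hs⟩ := isConj_iff.1 h
    exact ⟨s, Or.inl hs.symm⟩
  · have h : IsConj (cP * dP) (x : Perm (Fin 6)) := by
      rw [Perm.isConj_iff_cycleType_eq, hn, hcd]; rfl
    obtain ⟨s, hs⟩ := isConj_iff.1 h
    exact ⟨s, Or.inr hs.symm⟩

/-- an element of order 3 commutes with a conjugate outside the group it generates -/
theorem exists_partner {x : A6} (h3 : x ^ 3 = 1) (h1 : x ≠ 1) :
    ∃ g : A6, x * (g * x * g⁻¹) = (g * x * g⁻¹) * x ∧ g * x * g⁻¹ ∉ zpowers x := by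
  obtain ⟨s, hs⟩ := exists_conj h3 h1
  have key : ∀ y : Perm (Fin 6), y ^ 3 = 1 → (x : Perm (Fin 6)) = s * y * s⁻¹ →
      y * (wP * y * wP⁻¹) = (wP * y * wP⁻¹) * y → (wP * y * wP⁻¹) ≠ 1 → (wP * y * wP⁻¹) ≠ y →
      (wP * y * wP⁻¹) ≠ y * y →
      ∃ g : A6, x * (g * x * g⁻¹) = (g * x * g⁻¹) * x ∧ g * x * g⁻¹ ∉ zpowers x := by
    intro y hy3 hxy hcomm hne1 hney hneyy
    refine ⟨⟨s * wP * s⁻¹, (alternatingGroup.normal (α := Fin 6)).conj_mem _ w.2 s⟩, ?_, ?_⟩
    · apply Subtype.ext
      change (x : Perm (Fin 6)) * ((s * wP * s⁻¹) * x * (s * wP * s⁻¹)⁻¹) =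
        ((s * wP * s⁻¹) * x * (s * wP * s⁻¹)⁻¹) * x
      rw [hxy]
      have e1 : s * y * s⁻¹ * (s * wP * s⁻¹ * (s * y * s⁻¹) * (s * wP * s⁻¹)⁻¹) =
        s * (y * (wP * y * wP⁻¹)) * s⁻¹ := by group
      have e2 : s * wP * s⁻¹ * (s * y * s⁻¹) * (s * wP * s⁻¹)⁻¹ * (s * y * s⁻¹) =
        s * ((wP * y * wP⁻¹) * y) * s⁻¹ := by group
      rw [e1, e2, hcomm]
    · intro hmem
      have ho : orderOf x = 3 := orderOf_eq_prime h3 h1
      rw [mem_zpowers_iff_mem_range_orderOf, ho] at hmem
      simp only [Finset.mem_image, Finset.mem_range] at hmem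
      obtain ⟨k, hk, hxk⟩ := hmem
      have hxk' : (x : Perm (Fin 6)) ^ k = (s * wP * s⁻¹) * x * (s * wP * s⁻¹)⁻¹ :=
        congrArg Subtype.val hxk
      rw [hxy, conj_pow] at hxk'
      have e3 : (s * wP * s⁻¹) * (s * y * s⁻¹) * (s * wP * s⁻¹)⁻¹ = s * (wP * y * wP⁻¹) * s⁻¹ := by
        group
      rw [e3] at hxk'
      have e4 : y ^ k = wP * y * wP⁻¹ := by
        have := mul_right_cancel hxk'
        exact mul_left_cancel this
      interval_cases k
      · rw [pow_zero] at e4; exact hne1 e4.symm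
      · rw [pow_one] at e4; exact hney e4.symm
      · rw [pow_two] at e4; exact hneyy e4.symm
  rcases hs with hs | hs
  · exact key cP (by decide) hs (by decide) (by decide) (by decide) (by decide)
  · exact key (cP * dP) (by decide) hs (by decide) (by decide) (by decide) (by decide)

theorem card_sylow (P : Sylow 3 A6) : Nat.card P = 9 := by
  have := Fact.mk Nat.prime_three
  obtain ⟨k, hk⟩ := (IsPGroup.iff_card (p := 3)).1 P.isPGroup'
  have h1 : 3 ^ 2 ∣ Nat.card P := P.pow_dvd_card_of_pow_dvd_card (by rw [card]; norm_num)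
  have h2 : Nat.card P ∣ 360 := by rw [← card]; exact card_subgroup_dvd_card _
  rw [hk] at h1 h2 ⊢
  have h3 : 2 ≤ k := (Nat.pow_dvd_pow_iff_le_right (by norm_num)).1 h1
  have h4 : k ≤ 2 := by
    by_contra hcon
    have : (3 : ℕ) ^ 3 ∣ 360 := (pow_dvd_pow 3 (by omega : 3 ≤ k)).trans h2
    omega
  have h5 : k = 2 := le_antisymm h4 h3
  rw [h5]; norm_num

/-- the normaliser of a Sylow 3-subgroup has order divisible by 36 -/
theorem dvd_normalizer (P : Sylow 3 A6) : 36 ∣ Nat.card (normalizer ((P : Subgroup A6) : Set A6)) := by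
  have := Fact.mk Nat.prime_three
  have hpc : IsPGroup 3 (zpowers c) := IsPGroup.of_card (n := 1) (by rw [Nat.card_zpowers, c_order]; norm_num)
  have d_ne : d ≠ 1 := fun h => d_notMem (h ▸ one_mem _)
  have hpd : IsPGroup 3 (zpowers d) := IsPGroup.of_card (n := 1) (by
    rw [Nat.card_zpowers, orderOf_eq_prime d_cube d_ne]; norm_num)
  have hn : zpowers c ≤ normalizer ((zpowers d : Subgroup A6) : Set A6) := by
    rw [zpowers_le]
    rw [mem_normalizer_iff]
    have hcd : ∀ n : ℤ, c * d ^ n * c⁻¹ = d ^ n := by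
      intro n
      rw [mul_inv_eq_iff_eq_mul]
      exact (show Commute c d from cd).zpow_right n
    intro x
    constructor
    · rintro ⟨n, rfl⟩
      exact ⟨n, (hcd n).symm⟩
    · rintro ⟨n, hn⟩
      have hn' : c * x * c⁻¹ = d ^ n := hn.symm
      refine ⟨n, ?_⟩
      change d ^ n = x
      have : x = c⁻¹ * d ^ n * c := by rw [← hn']; group
      rw [this]
      conv_rhs => rw [← hcd n]
      group
  have hT0 : IsPGroup 3 (zpowers c ⊔ zpowers d : Subgroup A6) := hpc.to_sup_of_normal_right' hpd hn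
  obtain ⟨P0, hP0⟩ := hT0.exists_le_sylow
  have hcT : c ∈ (zpowers c ⊔ zpowers d : Subgroup A6) := le_sup_left (a := zpowers c) (mem_zpowers c)
  have hdT : d ∈ (zpowers c ⊔ zpowers d : Subgroup A6) := le_sup_right (a := zpowers c) (mem_zpowers d)
  have hcard : Nat.card (zpowers c ⊔ zpowers d : Subgroup A6) = 9 := by
    have h1 : Nat.card (zpowers c ⊔ zpowers d : Subgroup A6) ∣ 3 ^ 2 := by
      have := card_dvd_of_le hP0
      rwa [card_sylow] at this
    obtain ⟨k, hk, hk'⟩ := (Nat.dvd_prime_pow Nat.prime_three).1 h1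
    have h2 : 3 < Nat.card (zpowers c ⊔ zpowers d : Subgroup A6) := by
      rw [← c_order, ← Nat.card_zpowers]
      by_contra hcon
      push Not at hcon
      have := Subgroup.eq_of_le_of_card_ge (le_sup_left : zpowers c ≤ zpowers c ⊔ zpowers d) hcon
      rw [← this] at hdT
      exact d_notMem hdT
    rw [hk'] at h2 ⊢
    have h3 : k = 2 := by
      by_contra hcon
      have hk1 : k ≤ 1 := by omega
      have : 3 ^ k ≤ 3 ^ 1 := Nat.pow_le_pow_right (by norm_num) hk1
      omega
    rw [h3]; norm_num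
  have hT : (zpowers c ⊔ zpowers d : Subgroup A6) = P0 :=
    Subgroup.eq_of_le_of_card_ge hP0 (by rw [hcard]; exact (card_sylow P0).le)
  have hw : w ∈ normalizer ((P0 : Subgroup A6) : Set A6) := by
    rw [← hT]
    have hle : (zpowers c ⊔ zpowers d : Subgroup A6).map (MulAut.conj w).toMonoidHom ≤
        (zpowers c ⊔ zpowers d : Subgroup A6) := by
      rw [Subgroup.map_sup, sup_le_iff, MonoidHom.map_zpowers, MonoidHom.map_zpowers, zpowers_le,
        zpowers_le]
      constructor
      · change w * c * w⁻¹ ∈ _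
        rw [w_c]; exact hdT
      · change w * d * w⁻¹ ∈ _
        rw [w_d]; exact inv_mem hcT
    have heq := Subgroup.eq_of_le_of_card_ge hle (by
      rw [Subgroup.card_map_of_injective (MulAut.conj w).injective])
    rw [mem_normalizer_iff]
    intro x
    constructor
    · intro hx
      exact hle (Subgroup.mem_map_of_mem _ hx)
    · intro hx
      have hx' : w * x * w⁻¹ ∈ (zpowers c ⊔ zpowers d : Subgroup A6) := hx
      rw [← heq] at hx'
      obtain ⟨y, hy, hyx⟩ := Subgroup.mem_map.1 hx'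
      have : y = x := (MulAut.conj w).injective hyx
      rw [← this]; exact hy
  have h4 : 4 ∣ Nat.card (normalizer ((P0 : Subgroup A6) : Set A6)) := by
    rw [← w_order, ← Nat.card_zpowers]
    exact card_dvd_of_le ((zpowers_le (H := normalizer ((P0 : Subgroup A6) : Set A6))).2 hw)
  have h9 : 9 ∣ Nat.card (normalizer ((P0 : Subgroup A6) : Set A6)) := by
    rw [← card_sylow P0]
    exact card_dvd_of_le le_normalizer
  have h36 : 36 ∣ Nat.card (normalizer ((P0 : Subgroup A6) : Set A6)) := by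
    have : Nat.Coprime 4 9 := by decide
    exact this.mul_dvd_of_dvd_of_dvd h4 h9
  have hidx : (normalizer ((P : Subgroup A6) : Set A6)).index =
      (normalizer ((P0 : Subgroup A6) : Set A6)).index := by
    exact P.card_eq_index_normalizer.symm.trans P0.card_eq_index_normalizer
  have e1 := Subgroup.card_mul_index (normalizer ((P : Subgroup A6) : Set A6))
  have e2 := Subgroup.card_mul_index (normalizer ((P0 : Subgroup A6) : Set A6))
  rw [hidx, ← e2] at e1
  have e3 := Nat.eq_of_mul_eq_mul_right (Nat.pos_of_ne_zero (index_ne_zero_of_finite)) e1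
  rw [e3]
  exact h36

theorem exists_five : ∃ x : A6, orderOf x = 5 := by
  have h : 5 ∣ Nat.card A6 := by rw [card]; norm_num
  have := Fact.mk (by norm_num : Nat.Prime 5)
  exact exists_prime_orderOf_dvd_card' 5 h

end Cfsg.Agent.H846.ASix
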