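import Mathlib
import Cfsg.Agent.Lib.CoprimeHyperplane

/-!
# 3-local recognition of `McL`: basic tools (helper846)
-/

set_option autoImplicit false

namespace Cfsg.Agent.H846

open Subgroup

/-- elementary abelian subgroups of order 81 -/
structure IsE81 {G : Type*} [Group G] (A : Subgroup G) : Prop where
  comm : ∀ x ∈ A, ∀ y ∈ A, x * y = y * x
  cube : ∀ x ∈ A, x ^ 3 = 1
  card : Nat.card A = 81

variable {G : Type*} [Group G]

/-- the number of elements of an invariant subgroup modulo a prime -/
theorem card_modEq_fix [Finite G] {p : ℕ} (hp : p.Prime) {g : G} (hg : g ^ p = 1) (W : Subgroup G)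
    (hW : ∀ w ∈ W, g * w * g⁻¹ ∈ W) :
    Nat.card W ≡ Nat.card (W ⊓ centralizer {g} : Subgroup G) [MOD p] := by
  classical
  have := Fact.mk hp
  let _ : Fintype W := Fintype.ofFinite W
  let f : Function.End W := fun w => ⟨g * w * g⁻¹, hW w w.2⟩
  have hpow : ∀ n : ℕ, ∀ w : W, (((f ^ n : Function.End W) w : W) : G) = g ^ n * w * (g ^ n)⁻¹ := by
    intro n
    induction n with
    | zero => intro w; simp; rfl
    | succ n ih =>
      intro w
      rw [pow_succ' f, pow_succ' g]
      change g * (((f ^ n : Function.End W) w : W) : G) * g⁻¹ = _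
      rw [ih]
      group
  have hf : f ^ p ^ 1 = 1 := by
    rw [pow_one]
    funext w
    apply Subtype.ext
    rw [hpow, hg]
    simp
    rfl
  have h := Equiv.Perm.card_fixedPoints_modEq (f := f) (p := p) (n := 1) hf
  rw [Nat.card_eq_fintype_card]
  refine h.trans ?_
  rw [← Nat.card_eq_fintype_card]
  have : Nat.card (Function.fixedPoints f) = Nat.card (W ⊓ centralizer {g} : Subgroup G) := by
    refine Nat.card_congr
      { toFun := fun x => ⟨x.1.1, mem_inf.2 ⟨x.1.2, mem_centralizer_singleton_iff.2 ?_⟩⟩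
        invFun := fun x => ⟨⟨x.1, (mem_inf.1 x.2).1⟩, ?_⟩
        left_inv := fun x => rfl
        right_inv := fun x => rfl }
    · have h1 : g * x.1.1 * g⁻¹ = x.1.1 := congrArg Subtype.val x.2
      rw [mul_inv_eq_iff_eq_mul] at h1
      exact h1.symm
    · have h1 := mem_centralizer_singleton_iff.1 (mem_inf.1 x.2).2
      apply Subtype.ext
      change g * x.1 * g⁻¹ = x.1
      rw [mul_inv_eq_iff_eq_mul]
      exact h1.symm
  rw [this]

/-- a subgroup of a group of order `p ^ n` -/
theorem card_pow_of_le [Finite G] {p n : ℕ} (hp : p.Prime) {A B : Subgroup G} (hAB : A ≤ B)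
    (hB : Nat.card B = p ^ n) : ∃ k ≤ n, Nat.card A = p ^ k := by
  have h := card_dvd_of_le hAB
  rw [hB] at h
  exact (Nat.dvd_prime_pow hp).1 h

/-- an element of order five acts trivially on an invariant group of order 3, 9 or 27 -/
theorem five_trivial [Finite G] {g : G} (hg : g ^ 5 = 1) {W : Subgroup G} {k : ℕ} (hk : k ≤ 3)
    (hW : Nat.card W = 3 ^ k) (hgW : ∀ w ∈ W, g * w * g⁻¹ ∈ W) : ∀ w ∈ W, g * w = w * g := by
  have h := card_modEq_fix (by norm_num : Nat.Prime 5) hg W hgW
  obtain ⟨j, hj, hc⟩ := card_pow_of_le Nat.prime_three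
    (inf_le_left : (W ⊓ centralizer {g} : Subgroup G) ≤ W) hW
  rw [hc, hW] at h
  have hjk : j = k := by
    have h' : 3 ^ k % 5 = 3 ^ j % 5 := h
    interval_cases k <;> interval_cases j <;> simp_all
  subst hjk
  have heq : (W ⊓ centralizer {g} : Subgroup G) = W :=
    Subgroup.eq_of_le_of_card_ge inf_le_left (by rw [hc, hW])
  intro w hw
  rw [← heq] at hw
  exact (mem_centralizer_singleton_iff.1 (mem_inf.1 hw).2).symm

end Cfsg.Agent.H846
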