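import Cfsg.Agent.H846.Core7

/-!
# 3-local recognition of `McL`: the conditions on the simple group (helper846)
-/

set_option autoImplicit false

namespace Cfsg.Agent.H846

open Subgroup

/-- what the 3-local analysis gives for the simple group -/
structure Cond (K : Type*) [Group K] : Prop where
  fin : Finite K
  card6 : 3 ^ 6 ∣ Nat.card K
  card7 : ¬ 3 ^ 7 ∣ Nat.card K
  ex81 : ∃ A : Subgroup K, IsE81 A
  exp : ∀ x : K, x ^ 27 = 1 → x ^ 9 = 1
  cent : ∀ A : Subgroup K, IsE81 A → ∀ x, (∀ a ∈ A, x * a = a * x) → x ∈ A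
  nop : ∀ A : Subgroup K, IsE81 A → ∀ U : Subgroup K, ¬ 3 ∣ Nat.card U →
    (∀ a ∈ A, ∀ u ∈ U, a * u * a⁻¹ ∈ U) → U = ⊥
  ten : ∀ A : Subgroup K, IsE81 A → (XSet A).Nonempty ∧ (XSet A).ncard ∣ 20
  five : ∀ A : Subgroup K, IsE81 A → ∃ n, n ^ 5 = 1 ∧ n ≠ 1 ∧ ∀ a ∈ A, n * a * n⁻¹ ∈ A
  center : ∀ T : Subgroup K, Nat.card T = 3 ^ 6 → ∀ x ∈ T, ∀ y ∈ T, (∀ t ∈ T, t * x = x * t) →
    (∀ t ∈ T, t * y = y * t) → x ≠ 1 → y ∈ zpowers x
  cz5 : ∀ z : K, z ≠ 1 → z ^ 3 = 1 → 3 ^ 6 ∣ Nat.card (centralizer ({z} : Set K)) →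
    5 ∣ Nat.card (centralizer ({z} : Set K))
  cz2 : ∀ z : K, z ≠ 1 → z ^ 3 = 1 → 3 ^ 6 ∣ Nat.card (centralizer ({z} : Set K)) →
    ¬ 2 ^ 5 ∣ Nat.card (centralizer ({z} : Set K))

theorem IsE81.map {K H : Type*} [Group K] [Group H] {f : K →* H} (hf : Function.Injective f) {A : Subgroup K}
    (hA : IsE81 A) : IsE81 (A.map f) where
  comm := by
    rintro _ ⟨a, ha, rfl⟩ _ ⟨b, hb, rfl⟩
    rw [← map_mul, ← map_mul, hA.comm a ha b hb]
  cube := by
    rintro _ ⟨a, ha, rfl⟩
    rw [← map_pow, hA.cube a ha, map_one]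
  card := by rw [Subgroup.card_map_of_injective hf, hA.card]

theorem IsE81.of_map {K H : Type*} [Group K] [Group H] {f : K →* H} (hf : Function.Injective f) {A : Subgroup K}
    (hA : IsE81 (A.map f)) : IsE81 A where
  comm := by
    intro a ha b hb
    apply hf
    rw [map_mul, map_mul]
    exact hA.comm _ (mem_map_of_mem f ha) _ (mem_map_of_mem f hb)
  cube := by
    intro a ha
    apply hf
    rw [map_pow, map_one]
    exact hA.cube _ (mem_map_of_mem f ha)
  card := by rw [← Subgroup.card_map_of_injective hf, hA.card]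

theorem card_centralizer_congr {K H : Type*} [Group K] [Group H] (e : K ≃* H) (z : K) :
    Nat.card (centralizer ({z} : Set K)) = Nat.card (centralizer ({e z} : Set H)) := by
  refine Nat.card_congr
    { toFun := fun x => ⟨e x, ?_⟩
      invFun := fun x => ⟨e.symm x, ?_⟩
      left_inv := fun x => Subtype.ext (e.symm_apply_apply _)
      right_inv := fun x => Subtype.ext (e.apply_symm_apply _) }
  · have := mem_centralizer_singleton_iff.1 x.2
    rw [mem_centralizer_singleton_iff, ← map_mul, this, map_mul]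
  · have := mem_centralizer_singleton_iff.1 x.2
    rw [mem_centralizer_singleton_iff]
    apply e.injective
    rw [map_mul, map_mul, e.apply_symm_apply, this]

/-- transport of `XSet` -/
theorem mem_xset_congr {K H : Type*} [Group K] [Group H] (e : K ≃* H) {A : Subgroup K} {x : K}
    (hx : x ∈ XSet A) : e x ∈ XSet (A.map e.toMonoidHom) := by
  obtain ⟨hxA, hx1, T, hT, hAT, hTx⟩ := hx
  refine ⟨mem_map_of_mem _ hxA, ?_, T.map e.toMonoidHom, ?_, Subgroup.map_mono hAT, ?_⟩
  · intro h
    apply hx1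
    apply e.injective
    rw [h, map_one]
  · rw [Subgroup.card_map_of_injective e.injective, hT]
  · rintro _ ⟨t, ht, rfl⟩
    change e t * e x = e x * e t
    rw [← map_mul, ← map_mul, hTx t ht]

theorem xset_congr {K H : Type*} [Group K] [Group H] (e : K ≃* H) (A : Subgroup K) :
    XSet (A.map e.toMonoidHom) = e '' XSet A := by
  ext y
  constructor
  · intro hy
    refine ⟨e.symm y, ?_, e.apply_symm_apply y⟩
    have := mem_xset_congr e.symm hy
    have h2 : (A.map e.toMonoidHom).map e.symm.toMonoidHom = A := by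
      rw [Subgroup.map_map]
      have : e.symm.toMonoidHom.comp e.toMonoidHom = MonoidHom.id K := by
        ext x; exact e.symm_apply_apply x
      rw [this, Subgroup.map_id]
    rwa [h2] at this
  · rintro ⟨x, hx, rfl⟩
    exact mem_xset_congr e hx

theorem Cond.congr {K H : Type*} [Group K] [Group H] (e : K ≃* H) (h : Cond K) : Cond H := by
  have hfin := h.fin
  have hback : ∀ B : Subgroup H, (B.comap e.toMonoidHom).map e.toMonoidHom = B := fun B =>
    Subgroup.map_comap_eq_self_of_surjective e.surjective B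
  have hcard : ∀ B : Subgroup H, Nat.card (B.comap e.toMonoidHom) = Nat.card B := fun B => by
    conv_rhs => rw [← hback B, Subgroup.card_map_of_injective e.injective]
  have h81 : ∀ B : Subgroup H, IsE81 B → IsE81 (B.comap e.toMonoidHom) := fun B hB =>
    IsE81.of_map (f := e.toMonoidHom) e.injective (by rw [hback]; exact hB)
  have hsymm : ∀ y : H, e (e.symm y) = y := e.apply_symm_apply
  refine
    { fin := Finite.of_equiv K e.toEquiv
      card6 := by rw [← Nat.card_congr e.toEquiv]; exact h.card6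
      card7 := by rw [← Nat.card_congr e.toEquiv]; exact h.card7
      ex81 := ?_
      exp := ?_
      cent := ?_
      nop := ?_
      ten := ?_
      five := ?_
      center := ?_
      cz5 := ?_
      cz2 := ?_ }
  · obtain ⟨A, hA⟩ := h.ex81
    exact ⟨A.map e.toMonoidHom, hA.map e.injective⟩
  · intro x hx
    have h1 := h.exp (e.symm x) (by rw [← map_pow, hx, map_one])
    apply e.symm.injective
    rw [map_pow, h1, map_one]
  · intro A hA x hx
    have h1 := h.cent _ (h81 A hA) (e.symm x) (by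
      intro a ha
      apply e.injective
      rw [map_mul, map_mul, hsymm]
      exact hx _ ha)
    have h2 : e (e.symm x) ∈ A := h1
    rwa [hsymm] at h2
  · intro A hA U hU hAU
    have h1 := h.nop _ (h81 A hA) (U.comap e.toMonoidHom) (by rw [hcard]; exact hU) (by
      intro a ha u hu
      change e (a * u * a⁻¹) ∈ U
      rw [map_mul, map_mul, map_inv]
      exact hAU _ ha _ hu)
    rw [← hback U, h1, Subgroup.map_bot]
  · intro A hA
    have h1 := h.ten _ (h81 A hA)
    have h2 := xset_congr e (A.comap e.toMonoidHom)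
    rw [hback] at h2
    rw [h2]
    exact ⟨h1.1.image _, by rw [Set.ncard_image_of_injective _ e.injective]; exact h1.2⟩
  · intro A hA
    obtain ⟨n, hn5, hn1, hn⟩ := h.five _ (h81 A hA)
    refine ⟨e n, by rw [← map_pow, hn5, map_one], fun h => hn1 (e.injective (by rw [h, map_one])), ?_⟩
    intro a ha
    have h1 : e.symm a ∈ A.comap e.toMonoidHom := by
      change e (e.symm a) ∈ A
      rw [hsymm]; exact ha
    have h2 : e (n * e.symm a * n⁻¹) ∈ A := hn _ h1
    rwa [map_mul, map_mul, map_inv, hsymm] at h2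
  · intro T hT x hx y hy hxT hyT hx1
    have h1 := h.center _ ((hcard T).trans hT) (e.symm x) (by
      change e (e.symm x) ∈ T
      rw [hsymm]; exact hx) (e.symm y) (by
      change e (e.symm y) ∈ T
      rw [hsymm]; exact hy) (by
      intro t ht
      apply e.injective
      rw [map_mul, map_mul, hsymm]
      exact hxT _ ht) (by
      intro t ht
      apply e.injective
      rw [map_mul, map_mul, hsymm]
      exact hyT _ ht) (fun h => hx1 (by rw [← hsymm x, h, map_one]))
    obtain ⟨k, hk⟩ := mem_zpowers_iff.1 h1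
    refine mem_zpowers_iff.2 ⟨k, ?_⟩
    rw [← hsymm y, ← hk, map_zpow, hsymm]
  · intro z hz1 hz3 hc
    have h1 := h.cz5 (e.symm z) (fun h => hz1 (by rw [← hsymm z, h, map_one]))
      (by rw [← map_pow, hz3, map_one])
    rw [card_centralizer_congr e, hsymm] at h1
    exact h1 hc
  · intro z hz1 hz3 hc
    have h1 := h.cz2 (e.symm z) (fun h => hz1 (by rw [← hsymm z, h, map_one]))
      (by rw [← map_pow, hz3, map_one])
    rw [card_centralizer_congr e, hsymm] at h1
    exact h1 hc

/-- a 3-element `z` with centraliser of order divisible by `3^6` is central in a subgroup of order `3^6` -/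
theorem exists_sylow_of_central {G : Type*} [Group G] [Finite G] (hn : ¬ 3 ^ 7 ∣ Nat.card G) {z : G} (hz : z ^ 3 = 1)
    (hc : 3 ^ 6 ∣ Nat.card (centralizer ({z} : Set G))) :
    ∃ T : Subgroup G, Nat.card T = 3 ^ 6 ∧ z ∈ T ∧ ∀ t ∈ T, t * z = z * t := by
  have h3F := Fact.mk Nat.prime_three
  let C : Subgroup G := centralizer {z}
  have hzC : z ∈ C := mem_centralizer_singleton_iff.2 rfl
  let z' : C := ⟨z, hzC⟩
  have hzn : (zpowers z').Normal := by
    constructor
    intro n hn g
    have h1 : g * z' = z' * g := Subtype.ext (mem_centralizer_singleton_iff.1 g.2)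
    obtain ⟨k, rfl⟩ := mem_zpowers_iff.1 hn
    have h2 : g * z' ^ k * g⁻¹ = z' ^ k := by
      have := (show Commute g z' from h1).zpow_right k
      rw [this.eq, mul_assoc, mul_inv_cancel, mul_one]
    rw [h2]
    exact zpow_mem (mem_zpowers z') k
  have hzp : IsPGroup 3 (zpowers z') := by
    have h1 : orderOf z' ∣ 3 ^ 1 := orderOf_dvd_of_pow_eq_one (Subtype.ext (by rw [pow_one]; exact hz))
    obtain ⟨k, hk, hk'⟩ := (Nat.dvd_prime_pow Nat.prime_three).1 h1
    exact IsPGroup.of_card (n := k) (by rw [Nat.card_zpowers, hk'])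
  obtain ⟨P, hP⟩ := hzp.exists_le_sylow
  refine ⟨(P : Subgroup C).map C.subtype, ?_, ⟨z', hP (mem_zpowers z'), rfl⟩, ?_⟩
  · rw [Subgroup.card_map_of_injective C.subtype_injective]
    obtain ⟨k, hk⟩ := (IsPGroup.iff_card (p := 3)).1 P.isPGroup'
    have h1 : 3 ^ 6 ∣ Nat.card P := P.pow_dvd_card_of_pow_dvd_card hc
    have hk' : Nat.card (P : Subgroup C) = 3 ^ k := hk
    have h2 : Nat.card (P : Subgroup C) ∣ Nat.card G := (card_subgroup_dvd_card _).trans (card_subgroup_dvd_card C)
    rw [hk] at h1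
    rw [hk'] at h2 ⊢
    have h3 : 6 ≤ k := (Nat.pow_dvd_pow_iff_le_right (by norm_num)).1 h1
    have h4 : k ≤ 6 := by
      by_contra hcon
      exact hn ((pow_dvd_pow 3 (by omega : 7 ≤ k)).trans h2)
    rw [le_antisymm h4 h3]
  · rintro _ ⟨t, -, rfl⟩
    exact mem_centralizer_singleton_iff.1 t.2

end Cfsg.Agent.H846
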