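import Cfsg.Agent.H846.Cond

/-!
# 3-local recognition of `McL`: the simple normal subgroup satisfies `Cond` (helper846)
-/

set_option autoImplicit false

namespace Cfsg.Agent.H846

open Subgroup

variable {G : Type*} [Group G] [Finite G] {J M : Subgroup G} {π : M →* ASix.A6}

/-- `M ≤ K` -/
theorem JDat.M_le (D : JDat J M π) {S Z Q : Subgroup G} (L : Loc S Z Q) (hn : ¬ 3 ^ 7 ∣ Nat.card G)
    (hJS : J ≤ S) {K : Subgroup G} [hKn : K.Normal] (hSK : S ≤ K) : M ≤ K := by
  have hSM : S ≤ M := D.le_M L hn L.cardS hJS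
  let N : Subgroup M := K.subgroupOf M
  have hN : N.Normal := Subgroup.normal_subgroupOf
  have hsimple := ASix.simple
  have hmap : (N.map π).Normal := hN.map π D.surj
  have hJN : ∀ x : M, (x : G) ∈ J → x ∈ N := fun x hx => mem_subgroupOf.2 (hSK (hJS hx))
  rcases hmap.eq_bot_or_eq_top with h | h
  · exfalso
    have hSJ : S ≤ J := by
      intro s hs
      have h1 : π ⟨s, hSM hs⟩ ∈ N.map π := mem_map_of_mem π (mem_subgroupOf.2 (hSK hs))
      rw [h, mem_bot, D.ker] at h1
      exact h1
    have := card_dvd_of_le hSJ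
    rw [L.cardS, D.e81.card] at this
    exact absurd (Nat.le_of_dvd (by norm_num) this) (by norm_num)
  · intro x hx
    have h1 : π ⟨x, hx⟩ ∈ N.map π := by rw [h]; exact mem_top _
    obtain ⟨c, hcC, hcx⟩ := mem_map.1 h1
    have h2 : π (c⁻¹ * ⟨x, hx⟩) = 1 := by rw [map_mul, map_inv, hcx]; group
    rw [D.ker] at h2
    have h3 := mem_subgroupOf.1 (mul_mem hcC (hJN _ h2))
    rwa [mul_inv_cancel_left] at h3

/-- elements of a subgroup of order `3^6` have ninth power one -/
theorem JDat.pow_nine (D : JDat J M π) {S Z Q : Subgroup G} (L : Loc S Z Q) (hn : ¬ 3 ^ 7 ∣ Nat.card G)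
    {x : G} {k : ℕ} (hx : x ^ 3 ^ k = 1) : x ^ 9 = 1 := by
  have hP : IsPGroup 3 (zpowers x) := by
    obtain ⟨m, hm, hox⟩ := (Nat.dvd_prime_pow Nat.prime_three).1 (orderOf_dvd_of_pow_eq_one hx)
    exact IsPGroup.of_card (n := m) (by rw [Nat.card_zpowers, hox])
  obtain ⟨T, hT, hJT, hTM⟩ := D.exists_T
  obtain ⟨g, hg⟩ := le_conj_of_isPGroup hn hT hP
  have hxg : x ∈ cj g T := hg (mem_zpowers x)
  rw [mem_cj] at hxg
  set y := g⁻¹ * x * g with hy
  have hyM : y ∈ M := hTM hxg
  have hy3 : y ^ 3 ∈ J := by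
    have h1 : (π ⟨y, hyM⟩) ^ 3 = 1 := by
      apply ASix.cube_of_pow (n := k)
      rw [← map_pow]
      have : (⟨y, hyM⟩ : M) ^ 3 ^ k = 1 := by
        apply Subtype.ext
        change y ^ 3 ^ k = 1
        have e : y = g⁻¹ * x * g⁻¹⁻¹ := by rw [inv_inv]
        rw [e, conj_pow, hx]; group
      rw [this, map_one]
    rw [← map_pow, D.ker] at h1
    exact h1
  have hy9 : y ^ 9 = 1 := by
    have := D.e81.cube _ hy3
    rwa [← pow_mul] at this
  have e : x = g * y * g⁻¹ := by rw [hy]; group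
  rw [e, conj_pow, hy9]; group

theorem isE81_map_subtype {K : Subgroup G} {A : Subgroup K} (hA : IsE81 A) : IsE81 (A.map K.subtype) :=
  hA.map K.subtype_injective

omit [Finite G] in
theorem xset_map_subtype {K : Subgroup G} [Finite K] (hK : ∀ T : Subgroup G, Nat.card T = 3 ^ 6 → T ≤ K) (A : Subgroup K) :
    XSet (A.map K.subtype) = K.subtype '' XSet A := by
  ext y
  constructor
  · rintro ⟨⟨a, ha, rfl⟩, hy1, T, hT, hAT, hTy⟩
    have hTK := hK T hT
    refine ⟨a, ⟨ha, ?_, T.subgroupOf K, ?_, ?_, ?_⟩, rfl⟩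
    · rintro rfl; exact hy1 rfl
    · rw [Nat.card_congr (subgroupOfEquivOfLe hTK).toEquiv, hT]
    · intro b hb
      exact mem_subgroupOf.2 (hAT ⟨b, hb, rfl⟩)
    · intro t ht
      exact Subtype.ext (hTy _ (mem_subgroupOf.1 ht))
  · rintro ⟨a, ⟨ha, ha1, T, hT, hAT, hTa⟩, rfl⟩
    refine ⟨⟨a, ha, rfl⟩, ?_, T.map K.subtype, ?_, Subgroup.map_mono hAT, ?_⟩
    · intro h
      exact ha1 (Subtype.ext h)
    · rw [Subgroup.card_map_of_injective K.subtype_injective, hT]
    · rintro _ ⟨t, ht, rfl⟩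
      exact congrArg Subtype.val (hTa t ht)

/-- the simple normal subgroup satisfies `Cond` -/
theorem JDat.cond (D : JDat J M π) {S Z Q : Subgroup G} (L : Loc S Z Q) (hn : ¬ 3 ^ 7 ∣ Nat.card G)
    (hJS : J ≤ S) (h2 : ¬ 2 ^ 5 ∣ Nat.card (centralizer (Z : Set G)))
    {K : Subgroup G} [hKn : K.Normal] (hSK : S ≤ K) : Cond K := by
  have hMK := D.M_le L hn hJS hSK
  have h6 : 3 ^ 6 ∣ Nat.card K := by rw [← L.cardS]; exact card_dvd_of_le hSK
  have h7 : ¬ 3 ^ 7 ∣ Nat.card K := fun h => hn (h.trans (card_subgroup_dvd_card K))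
  have hTK : ∀ T : Subgroup G, Nat.card T = 3 ^ 6 → T ≤ K := by
    intro T hT
    obtain ⟨g, rfl⟩ := conj_of_card hn L.cardS hT
    rintro x ⟨s, hs, rfl⟩
    exact hKn.conj_mem s (hSK hs) g
  have hconj : ∀ A : Subgroup K, IsE81 A → ∃ g : G, A.map K.subtype = cj g J := fun A hA =>
    D.exists_conj_e81 L hn (isE81_map_subtype hA)
  -- elements central in a subgroup of order `3^6`
  have hcz : ∀ z : K, z ≠ 1 → z ^ 3 = 1 → 3 ^ 6 ∣ Nat.card (centralizer ({z} : Set K)) →
      ∃ g : G, zpowers (z : G) = cj g Z := by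
    intro z hz1 hz3 hz
    obtain ⟨T, hT, hzT, hTz⟩ := exists_sylow_of_central h7 hz3 hz
    have hT' : Nat.card (T.map K.subtype) = 3 ^ 6 := by
      rw [Subgroup.card_map_of_injective K.subtype_injective, hT]
    obtain ⟨g, -, hg⟩ := L.zpowers_eq hn hT' (x := (z : G)) ⟨z, hzT, rfl⟩
      (fun h => hz1 (Subtype.ext h)) (by
        rintro _ ⟨t, ht, rfl⟩
        exact congrArg Subtype.val (hTz t ht))
    exact ⟨g, hg⟩
  refine
    { fin := inferInstance
      card6 := h6
      card7 := h7
      ex81 := ?_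
      exp := ?_
      cent := ?_
      nop := ?_
      ten := ?_
      five := ?_
      center := ?_
      cz5 := ?_
      cz2 := ?_ }
  · refine ⟨J.subgroupOf K, IsE81.of_map K.subtype_injective ?_⟩
    rw [subgroupOf_map_subtype, inf_eq_left.2 (hJS.trans hSK)]
    exact D.e81
  · intro x hx
    have : (x : G) ^ 9 = 1 := D.pow_nine L hn (k := 3) (by
      have := congrArg Subtype.val hx
      simpa using this)
    exact Subtype.ext this
  · intro A hA x hx
    obtain ⟨g, hg⟩ := hconj A hA
    have h1 : (x : G) ∈ cj g J := by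
      rw [mem_cj]
      apply D.cent L hn
      intro j hj
      have h3 : g * j * g⁻¹ ∈ A.map K.subtype := by rw [hg]; exact mem_cj_of hj
      obtain ⟨a, ha, hae⟩ := h3
      have h4 : (x : G) * a = a * x := congrArg Subtype.val (hx a ha)
      have hae' : (a : G) = g * j * g⁻¹ := hae
      rw [hae'] at h4
      have e1 : g⁻¹ * (x : G) * g * j = g⁻¹ * ((x : G) * (g * j * g⁻¹)) * g := by group
      have e2 : j * (g⁻¹ * (x : G) * g) = g⁻¹ * ((g * j * g⁻¹) * (x : G)) * g := by group
      rw [e1, e2, h4]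
    rw [← hg] at h1
    obtain ⟨a, ha, hae⟩ := h1
    have : a = x := Subtype.ext hae
    rwa [← this]
  · intro A hA U hU hAU
    obtain ⟨g, hg⟩ := hconj A hA
    have h1 := D.no_prime L hn (U := cj g⁻¹ (U.map K.subtype)) (by
      rw [card_cj, Subgroup.card_map_of_injective K.subtype_injective]; exact hU) (by
      intro j hj u hu
      rw [mem_cj] at hu ⊢
      obtain ⟨u', hu', hue⟩ := hu
      have h3 : g * j * g⁻¹ ∈ A.map K.subtype := by rw [hg]; exact mem_cj_of hj
      obtain ⟨a, ha, hae⟩ := h3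
      refine ⟨a * u' * a⁻¹, hAU a ha u' hu', ?_⟩
      change (a : G) * u' * (a : G)⁻¹ = _
      have hae' : (a : G) = g * j * g⁻¹ := hae
      have hue' : (u' : G) = g⁻¹⁻¹ * u * g⁻¹ := hue
      rw [hae', hue']; group)
    have h3 : Nat.card U = 1 := by
      rw [← Subgroup.card_map_of_injective K.subtype_injective, ← card_cj g⁻¹, h1, Subgroup.card_bot]
    exact Subgroup.card_eq_one.1 h3
  · intro A hA
    obtain ⟨g, hg⟩ := hconj A hA
    have h1 := xset_map_subtype hTK A
    have h3 : XSet (cj g J) = (fun x => g * x * g⁻¹) '' XSet J := by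
      ext y
      constructor
      · intro hy
        refine ⟨g⁻¹ * y * g, ?_, by group⟩
        have := XSet.conj (n := g⁻¹) hy
        rw [cj_cj, inv_mul_cancel, cj_one, inv_inv] at this
        exact this
      · rintro ⟨x, hx, rfl⟩
        exact XSet.conj hx
    have hinj : Function.Injective (fun x : G => g * x * g⁻¹) := by
      intro a b hab
      exact mul_left_cancel (mul_right_cancel hab)
    have h4 : (XSet A).ncard = (XSet J).ncard := by
      rw [← Set.ncard_image_of_injective (XSet A) K.subtype_injective, ← h1, hg, h3,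
        Set.ncard_image_of_injective _ hinj]
    refine ⟨?_, by rw [h4]; exact D.ncard_xset L hn⟩
    have h5 : (XSet (A.map K.subtype)).Nonempty := by
      rw [hg, h3]
      exact (D.xset_nonempty L hn).image _
    rw [h1] at h5
    exact h5.of_image
  · intro A hA
    obtain ⟨g, hg⟩ := hconj A hA
    obtain ⟨m, hm, hm5, hm1⟩ := D.exists_five
    refine ⟨⟨g * m * g⁻¹, hKn.conj_mem m (hMK hm) g⟩, ?_, ?_, ?_⟩
    · apply Subtype.ext
      change (g * m * g⁻¹) ^ 5 = 1
      rw [conj_pow, hm5]; group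
    · intro h
      apply hm1
      have h1 : g * m * g⁻¹ = 1 := congrArg Subtype.val h
      have : m = g⁻¹ * (g * m * g⁻¹) * g := by group
      rw [this, h1]; group
    · intro a ha
      have h1 : (a : G) ∈ cj g J := by rw [← hg]; exact ⟨a, ha, rfl⟩
      rw [mem_cj] at h1
      have h3 := mem_cj_of (g := g) (D.conj_mem hm h1)
      rw [← hg] at h3
      obtain ⟨b, hb, hbe⟩ := h3
      have : b = ⟨g * m * g⁻¹, hKn.conj_mem m (hMK hm) g⟩ * a * ⟨g * m * g⁻¹, hKn.conj_mem m (hMK hm) g⟩⁻¹ := by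
        apply Subtype.ext
        have hbe' : (b : G) = g * (m * (g⁻¹ * a * g) * m⁻¹) * g⁻¹ := hbe
        rw [hbe']
        simp only [Subgroup.coe_mul, Subgroup.coe_inv]
        group
      rwa [← this]
  · intro T hT x hxT y hyT hx hy hx1
    have hT' : Nat.card (T.map K.subtype) = 3 ^ 6 := by
      rw [Subgroup.card_map_of_injective K.subtype_injective, hT]
    obtain ⟨g, hgT, hg⟩ := L.zpowers_eq hn hT' (x := (x : G)) ⟨x, hxT, rfl⟩
      (fun h => hx1 (Subtype.ext h)) (by
        rintro _ ⟨t, ht, rfl⟩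
        exact congrArg Subtype.val (hx t ht))
    have h1 : (y : G) ∈ cj g Z := by
      rw [(L.cj g).memZ, ← hgT]
      refine ⟨⟨y, hyT, rfl⟩, ?_⟩
      rintro _ ⟨t, ht, rfl⟩
      exact (congrArg Subtype.val (hy t ht)).symm
    rw [← hg] at h1
    obtain ⟨k, hk⟩ := mem_zpowers_iff.1 h1
    exact mem_zpowers_iff.2 ⟨k, Subtype.ext hk⟩
  · intro z hz1 hz3 hz
    obtain ⟨g, hg⟩ := hcz z hz1 hz3 hz
    obtain ⟨h, h5, h1, hzc, hN⟩ := (L.cj g).five
    have hhK : h ∈ K := hN K hKn (hTK _ (L.cj g).cardS)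
    have hc : (⟨h, hhK⟩ : K) ∈ centralizer ({z} : Set K) := by
      rw [mem_centralizer_singleton_iff]
      apply Subtype.ext
      have : (z : G) ∈ cj g Z := by rw [← hg]; exact mem_zpowers _
      exact hzc _ this
    have ho : orderOf (⟨⟨h, hhK⟩, hc⟩ : centralizer ({z} : Set K)) = 5 := by
      refine orderOf_eq_prime (hp := ⟨by norm_num⟩) (Subtype.ext (Subtype.ext h5)) ?_
      intro he
      exact h1 (congrArg (fun u : centralizer ({z} : Set K) => ((u : K) : G)) he)
    rw [← ho]
    exact orderOf_dvd_natCard _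
  · intro z hz1 hz3 hz h32
    obtain ⟨g, hg⟩ := hcz z hz1 hz3 hz
    apply h2
    -- embed the centraliser
    have hinj : Nat.card (centralizer ({z} : Set K)) ∣ Nat.card (centralizer (Z : Set G)) := by
      let f : centralizer ({z} : Set K) →* centralizer (Z : Set G) :=
        { toFun := fun x => ⟨g⁻¹ * ((x : K) : G) * g, by
            rw [mem_centralizer_iff]
            intro w hw
            have h1 : g * w * g⁻¹ ∈ zpowers (z : G) := by rw [hg]; exact mem_cj_of hw
            obtain ⟨k, hk⟩ := mem_zpowers_iff.1 h1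
            have h3 : ((x : K) : G) * z = z * (x : K) :=
              congrArg Subtype.val (mem_centralizer_singleton_iff.1 x.2)
            have h4 : ((x : K) : G) * (g * w * g⁻¹) = (g * w * g⁻¹) * (x : K) := by
              rw [← hk]
              exact ((show Commute ((x : K) : G) (z : G) from h3).zpow_right k).eq
            have e1 : w * (g⁻¹ * ((x : K) : G) * g) = g⁻¹ * ((g * w * g⁻¹) * (x : K)) * g := by group
            have e2 : g⁻¹ * ((x : K) : G) * g * w = g⁻¹ * (((x : K) : G) * (g * w * g⁻¹)) * g := by group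
            rw [e1, e2, h4]⟩
          map_one' := Subtype.ext (by simp)
          map_mul' := fun a b => Subtype.ext (by
            simp only [Subgroup.coe_mul]; group) }
      have hf : Function.Injective f := by
        intro a b hab
        have h1 : g⁻¹ * ((a : K) : G) * g = g⁻¹ * ((b : K) : G) * g := congrArg Subtype.val hab
        have h3 := mul_left_cancel (mul_right_cancel h1)
        exact Subtype.ext (Subtype.ext h3)
      have h1 : Nat.card f.range = Nat.card (centralizer ({z} : Set K)) :=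
        (Nat.card_congr (MonoidHom.ofInjective hf).toEquiv).symm
      rw [← h1]
      exact card_subgroup_dvd_card _
    exact h32.trans hinj

end Cfsg.Agent.H846
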