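import Cfsg.Agent.H846.Basic
import Cfsg.Agent.H846.ASix

/-!
# 3-local recognition of `McL`: the local analysis (helper846)

`Loc S Z Q` : `S` of order `3^6`, `Z = Z(S)` of order 3, `Q ≤ S` of order `3^5` with commutators in `Z`,
normalised by `N(Z)`, containing its centraliser, whose abelian subgroups have order at most 27.
`JDat J M π` : `J` elementary abelian of order 81, `M / J ≅ A_6` via `π`, `M` normal in `N(J)` and
containing the 3-elements of `N(J)`.
-/

set_option autoImplicit false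

namespace Cfsg.Agent.H846

open Subgroup

variable {G : Type*} [Group G]

/-- local data at the centre of a Sylow 3-subgroup -/
structure Loc (S Z Q : Subgroup G) : Prop where
  cardS : Nat.card S = 3 ^ 6
  cardZ : Nat.card Z = 3
  memZ : ∀ x, x ∈ Z ↔ x ∈ S ∧ ∀ y ∈ S, x * y = y * x
  QS : Q ≤ S
  cardQ : Nat.card Q = 3 ^ 5
  abQ : ∀ A : Subgroup G, A ≤ Q → (∀ x ∈ A, ∀ y ∈ A, x * y = y * x) → Nat.card A ≤ 27
  commQ : ∀ x ∈ Q, ∀ y ∈ Q, x * y * x⁻¹ * y⁻¹ ∈ Z
  nor : ∀ n, (∀ z ∈ Z, n * z * n⁻¹ ∈ Z) → ∀ q ∈ Q, n * q * n⁻¹ ∈ Q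
  cenQ : ∀ x, (∀ q ∈ Q, x * q = q * x) → x ∈ Q
  five : ∃ h, h ^ 5 = 1 ∧ h ≠ 1 ∧ (∀ z ∈ Z, h * z = z * h) ∧ ∀ N : Subgroup G, N.Normal → S ≤ N → h ∈ N

/-- data at the elementary abelian group of order 81 -/
structure JDat (J M : Subgroup G) (π : M →* ASix.A6) : Prop where
  e81 : IsE81 J
  JM : J ≤ M
  surj : Function.Surjective π
  ker : ∀ m : M, π m = 1 ↔ (m : G) ∈ J
  norm : ∀ n, (∀ j ∈ J, n * j * n⁻¹ ∈ J) → ∀ m ∈ M, n * m * n⁻¹ ∈ M
  three : ∀ x, (∀ j ∈ J, x * j * x⁻¹ ∈ J) → (∃ k : ℕ, x ^ 3 ^ k = 1) → x ∈ M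

/-- the image of a subgroup under conjugation -/
abbrev cj (g : G) (H : Subgroup G) : Subgroup G := H.map (MulAut.conj g).toMonoidHom

theorem mem_cj {g : G} {H : Subgroup G} {x : G} : x ∈ cj g H ↔ g⁻¹ * x * g ∈ H := by
  constructor
  · rintro ⟨y, hy, rfl⟩
    change g⁻¹ * (g * y * g⁻¹) * g ∈ H
    have : g⁻¹ * (g * y * g⁻¹) * g = y := by group
    rw [this]; exact hy
  · intro h
    refine ⟨g⁻¹ * x * g, h, ?_⟩
    change g * (g⁻¹ * x * g) * g⁻¹ = x
    group

theorem mem_cj_of {g : G} {H : Subgroup G} {x : G} (h : x ∈ H) : g * x * g⁻¹ ∈ cj g H := by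
  rw [mem_cj]
  have : g⁻¹ * (g * x * g⁻¹) * g = x := by group
  rw [this]; exact h

theorem card_cj (g : G) (H : Subgroup G) : Nat.card (cj g H) = Nat.card H :=
  Subgroup.card_map_of_injective (MulAut.conj g).injective

theorem cj_le_cj (g : G) {H K : Subgroup G} (h : H ≤ K) : cj g H ≤ cj g K := Subgroup.map_mono h

theorem cj_cj (g h : G) (H : Subgroup G) : cj g (cj h H) = cj (g * h) H := by
  ext x
  rw [mem_cj, mem_cj, mem_cj]
  have : h⁻¹ * (g⁻¹ * x * g) * h = (g * h)⁻¹ * x * (g * h) := by group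
  rw [this]

theorem cj_one (H : Subgroup G) : cj 1 H = H := by
  ext x
  rw [mem_cj]; simp

/-- `IsE81` is invariant under conjugation -/
theorem IsE81.cj {A : Subgroup G} (hA : IsE81 A) (g : G) : IsE81 (cj g A) where
  comm := by
    intro x hx y hy
    rw [mem_cj] at hx hy
    have h := hA.comm _ hx _ hy
    have h1 : g⁻¹ * x * g * (g⁻¹ * y * g) = g⁻¹ * (x * y) * g := by group
    have h2 : g⁻¹ * y * g * (g⁻¹ * x * g) = g⁻¹ * (y * x) * g := by group
    rw [h1, h2] at h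
    exact mul_left_cancel (mul_right_cancel h)
  cube := by
    intro x hx
    rw [mem_cj] at hx
    have h := hA.cube _ hx
    have h1 : (g⁻¹ * x * g) ^ 3 = g⁻¹ * x ^ 3 * g := by
      have := conj_pow (i := 3) (a := g⁻¹) (b := x)
      simpa using this
    rw [h1] at h
    have : x ^ 3 = g * (g⁻¹ * x ^ 3 * g) * g⁻¹ := by group
    rw [this, h]; group
  card := by rw [card_cj, hA.card]

/-- `Loc` is invariant under conjugation -/
theorem Loc.cj {S Z Q : Subgroup G} (L : Loc S Z Q) (g : G) : Loc (cj g S) (cj g Z) (cj g Q) where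
  cardS := by rw [card_cj, L.cardS]
  cardZ := by rw [card_cj, L.cardZ]
  memZ := by
    intro x
    rw [mem_cj, L.memZ, mem_cj]
    refine and_congr_right fun _ => ?_
    constructor
    · intro h y hy
      rw [mem_cj] at hy
      have := h _ hy
      have h1 : g⁻¹ * x * g * (g⁻¹ * y * g) = g⁻¹ * (x * y) * g := by group
      have h2 : g⁻¹ * y * g * (g⁻¹ * x * g) = g⁻¹ * (y * x) * g := by group
      rw [h1, h2] at this
      exact mul_left_cancel (mul_right_cancel this)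
    · intro h y hy
      have := h _ (mem_cj_of hy)
      have h1 : g⁻¹ * x * g * y = g⁻¹ * (x * (g * y * g⁻¹)) * g := by group
      have h2 : y * (g⁻¹ * x * g) = g⁻¹ * ((g * y * g⁻¹) * x) * g := by group
      rw [h1, h2, this]
  QS := cj_le_cj g L.QS
  cardQ := by rw [card_cj, L.cardQ]
  abQ := by
    intro A hA hc
    have h1 := L.abQ (H846.cj g⁻¹ A) (by
      have := cj_le_cj g⁻¹ hA
      rwa [cj_cj, inv_mul_cancel, cj_one] at this) (by
      intro x hx y hy
      rw [mem_cj] at hx hy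
      have h := hc _ hx _ hy
      have h1 : g⁻¹⁻¹ * x * g⁻¹ * (g⁻¹⁻¹ * y * g⁻¹) = g * (x * y) * g⁻¹ := by group
      have h2 : g⁻¹⁻¹ * y * g⁻¹ * (g⁻¹⁻¹ * x * g⁻¹) = g * (y * x) * g⁻¹ := by group
      rw [h1, h2] at h
      exact mul_left_cancel (mul_right_cancel h))
    rwa [card_cj] at h1
  commQ := by
    intro x hx y hy
    rw [mem_cj] at hx hy ⊢
    have := L.commQ _ hx _ hy
    have h1 : g⁻¹ * x * g * (g⁻¹ * y * g) * (g⁻¹ * x * g)⁻¹ * (g⁻¹ * y * g)⁻¹ =
      g⁻¹ * (x * y * x⁻¹ * y⁻¹) * g := by group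
    rwa [h1] at this
  nor := by
    intro n hn q hq
    rw [mem_cj] at hq ⊢
    have := L.nor (g⁻¹ * n * g) (fun z hz => by
      have h1 := hn _ (mem_cj_of hz)
      rw [mem_cj] at h1
      have h2 : g⁻¹ * n * g * z * (g⁻¹ * n * g)⁻¹ = g⁻¹ * (n * (g * z * g⁻¹) * n⁻¹) * g := by group
      rwa [h2]) _ hq
    have h2 : g⁻¹ * n * g * (g⁻¹ * q * g) * (g⁻¹ * n * g)⁻¹ = g⁻¹ * (n * q * n⁻¹) * g := by group
    rwa [h2] at this
  cenQ := by
    intro x hx
    rw [mem_cj]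
    apply L.cenQ
    intro q hq
    have := hx _ (mem_cj_of hq)
    have h1 : g⁻¹ * x * g * q = g⁻¹ * (x * (g * q * g⁻¹)) * g := by group
    have h2 : q * (g⁻¹ * x * g) = g⁻¹ * ((g * q * g⁻¹) * x) * g := by group
    rw [h1, h2, this]
  five := by
    obtain ⟨h, h5, h1, hz, hN⟩ := L.five
    refine ⟨g * h * g⁻¹, ?_, ?_, ?_, ?_⟩
    · rw [conj_pow, h5]; group
    · intro hc
      apply h1
      have : h = g⁻¹ * (g * h * g⁻¹) * g := by group
      rw [this, hc]; group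
    · intro z hz'
      rw [mem_cj] at hz'
      have := hz _ hz'
      have e1 : g * h * g⁻¹ * z = g * (h * (g⁻¹ * z * g)) * g⁻¹ := by group
      have e2 : z * (g * h * g⁻¹) = g * ((g⁻¹ * z * g) * h) * g⁻¹ := by group
      rw [e1, e2, this]
    · intro N hNn hSN
      apply hNn.conj_mem
      apply hN N hNn
      intro s hs
      have := hSN (mem_cj_of (g := g) hs)
      have h2 := hNn.conj_mem _ this g⁻¹
      have e : g⁻¹ * (g * s * g⁻¹) * g⁻¹⁻¹ = s := by group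
      rwa [e] at h2

end Cfsg.Agent.H846
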