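import Cfsg.Agent.H846.Core

/-!
# 3-local recognition of `McL`: the subgroup `J`, first facts (helper846)
-/

set_option autoImplicit false

namespace Cfsg.Agent.H846

open Subgroup

variable {G : Type*} [Group G]

theorem Loc.Z_le_S {S Z Q : Subgroup G} (L : Loc S Z Q) : Z ≤ S := fun x hx => ((L.memZ x).1 hx).1

theorem Loc.comm_S {S Z Q : Subgroup G} (L : Loc S Z Q) {z s : G} (hz : z ∈ Z) (hs : s ∈ S) :
    z * s = s * z := ((L.memZ z).1 hz).2 s hs

theorem Loc.Z_le_Q {S Z Q : Subgroup G} (L : Loc S Z Q) : Z ≤ Q := fun _ hz =>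
  L.cenQ _ fun _ hq => L.comm_S hz (L.QS hq)

/-- two subgroups of order `3^6` are conjugate -/
theorem conj_of_card [Finite G] (hn : ¬ 3 ^ 7 ∣ Nat.card G) {S T : Subgroup G}
    (hS : Nat.card S = 3 ^ 6) (hT : Nat.card T = 3 ^ 6) : ∃ g : G, T = cj g S := by
  have := Fact.mk Nat.prime_three
  have hf : (Nat.card G).factorization 3 = 6 := by
    have h0 : Nat.card G ≠ 0 := Nat.card_pos.ne'
    apply le_antisymm
    · by_contra hcon
      push Not at hcon
      exact hn ((Nat.prime_three.pow_dvd_iff_le_factorization h0).2 hcon)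
    · rw [← Nat.prime_three.pow_dvd_iff_le_factorization h0, ← hS]
      exact card_subgroup_dvd_card S
  let S' : Sylow 3 G := Sylow.ofCard S (by rw [hS, hf])
  let T' : Sylow 3 G := Sylow.ofCard T (by rw [hT, hf])
  obtain ⟨g, hg⟩ := MulAction.exists_smul_eq G S' T'
  refine ⟨g, ?_⟩
  have : ((g • S' : Sylow 3 G) : Subgroup G) = T := by rw [hg]; rfl
  rw [← this]
  rfl

/-- a 3-subgroup is contained in a conjugate of `S` -/
theorem le_conj_of_isPGroup [Finite G] (hn : ¬ 3 ^ 7 ∣ Nat.card G) {S A : Subgroup G}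
    (hS : Nat.card S = 3 ^ 6) (hA : IsPGroup 3 A) : ∃ g : G, A ≤ cj g S := by
  have := Fact.mk Nat.prime_three
  obtain ⟨P, hP⟩ := hA.exists_le_sylow
  have hc : Nat.card P = 3 ^ 6 := by
    rw [P.card_eq_multiplicity]
    have h0 : Nat.card G ≠ 0 := Nat.card_pos.ne'
    congr 1
    apply le_antisymm
    · by_contra hcon
      push Not at hcon
      exact hn ((Nat.prime_three.pow_dvd_iff_le_factorization h0).2 hcon)
    · rw [← Nat.prime_three.pow_dvd_iff_le_factorization h0, ← hS]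
      exact card_subgroup_dvd_card S
  obtain ⟨g, hg⟩ := conj_of_card hn hS hc
  exact ⟨g, by rw [← hg]; exact hP⟩

theorem IsE81.isPGroup {A : Subgroup G} (hA : IsE81 A) : IsPGroup 3 A := fun a =>
  ⟨1, Subtype.ext (by simpa using hA.cube a a.2)⟩

variable {J M : Subgroup G} {π : M →* ASix.A6}

theorem JDat.conj_mem (D : JDat J M π) {m : G} (hm : m ∈ M) {j : G} (hj : j ∈ J) : m * j * m⁻¹ ∈ J := by
  have h := (D.ker (⟨m, hm⟩ * ⟨j, D.JM hj⟩ * ⟨m, hm⟩⁻¹)).1 (by
    rw [map_mul, map_mul, map_inv, (D.ker ⟨j, D.JM hj⟩).2 hj]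
    group)
  exact h

theorem JDat.card_M [Finite G] (D : JDat J M π) : Nat.card M = 3 ^ 6 * 40 := by
  have h1 : π.ker = J.subgroupOf M := by
    ext m
    rw [MonoidHom.mem_ker, D.ker, mem_subgroupOf]
  have h2 : Nat.card π.ker = 81 := by
    rw [h1, Nat.card_congr (subgroupOfEquivOfLe D.JM).toEquiv, D.e81.card]
  have h3 : π.ker.index = 360 := by
    rw [Subgroup.index_ker, MonoidHom.range_eq_top.2 D.surj, Subgroup.card_top, ASix.card]
  have h4 := Subgroup.card_mul_index π.ker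
  rw [h2, h3] at h4
  rw [← h4]
  norm_num

theorem normal_J (D : JDat J M π) : (J.subgroupOf M).Normal := by
  constructor
  intro j hj m
  rw [mem_subgroupOf] at hj ⊢
  exact D.conj_mem m.2 hj

/-- a subgroup of order `3^6` between `J` and `M` -/
theorem JDat.exists_T [Finite G] (D : JDat J M π) : ∃ T : Subgroup G, Nat.card T = 3 ^ 6 ∧ J ≤ T ∧ T ≤ M := by
  have := Fact.mk Nat.prime_three
  have hp : IsPGroup 3 (J.subgroupOf M) := D.e81.isPGroup.of_equiv (subgroupOfEquivOfLe D.JM).symm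
  obtain ⟨P, hP⟩ := hp.exists_le_sylow
  refine ⟨(P : Subgroup M).map M.subtype, ?_, ?_, ?_⟩
  · rw [Subgroup.card_map_of_injective M.subtype_injective]
    have hM := D.card_M
    obtain ⟨k, hk⟩ := (IsPGroup.iff_card (p := 3)).1 P.isPGroup'
    have h1 : 3 ^ 6 ∣ Nat.card P := P.pow_dvd_card_of_pow_dvd_card (by rw [hM]; exact dvd_mul_right _ _)
    have h2 : Nat.card P ∣ 3 ^ 6 * 40 := by rw [← hM]; exact card_subgroup_dvd_card _
    have hk' : Nat.card (P : Subgroup M) = 3 ^ k := hk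
    rw [hk] at h1 h2
    rw [hk']
    have h3 : 6 ≤ k := (Nat.pow_dvd_pow_iff_le_right (by norm_num)).1 h1
    have h4 : k ≤ 6 := by
      by_contra hcon
      have : (3 : ℕ) ^ 7 ∣ 3 ^ 6 * 40 := (pow_dvd_pow 3 (by omega : 7 ≤ k)).trans h2
      revert this
      norm_num
    rw [le_antisymm h4 h3]
  · intro j hj
    exact ⟨⟨j, D.JM hj⟩, hP (mem_subgroupOf.2 hj), rfl⟩
  · rintro x ⟨y, -, rfl⟩
    exact y.2

/-- `C_M(J) = J` -/
theorem JDat.cent_M [Finite G] (D : JDat J M π) {S Z Q : Subgroup G} (L : Loc S Z Q)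
    (hn : ¬ 3 ^ 7 ∣ Nat.card G) {m : G} (hm : m ∈ M) (hc : ∀ j ∈ J, m * j = j * m) : m ∈ J := by
  -- the image of the centraliser is a normal subgroup of `A_6`
  by_contra hmJ
  let C : Subgroup M := (centralizer (J : Set G)).subgroupOf M
  have hCmem : ∀ x : M, x ∈ C ↔ ∀ j ∈ J, (x : G) * j = j * x := by
    intro x
    rw [mem_subgroupOf, mem_centralizer_iff]
    constructor
    · intro h j hj; exact (h j hj).symm
    · intro h j hj; exact (h j hj).symm
  have hCn : C.Normal := by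
    constructor
    intro c hc' x
    rw [hCmem] at hc' ⊢
    intro j hj
    have h1 : (x : G)⁻¹ * j * x ∈ J := by
      have := D.conj_mem (inv_mem x.2) hj
      simpa using this
    have h2 := hc' _ h1
    have e1 : ((x * c * x⁻¹ : M) : G) * j = x * (c * ((x : G)⁻¹ * j * x)) * (x : G)⁻¹ := by
      simp only [Subgroup.coe_mul, Subgroup.coe_inv]; group
    have e2 : j * ((x * c * x⁻¹ : M) : G) = x * (((x : G)⁻¹ * j * x) * c) * (x : G)⁻¹ := by
      simp only [Subgroup.coe_mul, Subgroup.coe_inv]; group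
    rw [e1, e2, h2]
  have hsimple := ASix.simple
  have hmap : (C.map π).Normal := hCn.map π D.surj
  rcases hmap.eq_bot_or_eq_top with h | h
  · have h1 : π ⟨m, hm⟩ ∈ C.map π := mem_map_of_mem π ((hCmem _).2 hc)
    rw [h, mem_bot, D.ker] at h1
    exact hmJ h1
  · -- everything centralises `J`
    have hall : ∀ x ∈ M, ∀ j ∈ J, x * j = j * x := by
      intro x hx
      have h1 : π ⟨x, hx⟩ ∈ C.map π := by rw [h]; exact mem_top _
      obtain ⟨c, hcC, hcx⟩ := mem_map.1 h1
      have h2 : π (c⁻¹ * ⟨x, hx⟩) = 1 := by rw [map_mul, map_inv, hcx]; group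
      rw [D.ker] at h2
      have h3 : (c : G)⁻¹ * x ∈ J := h2
      rw [hCmem] at hcC
      intro j hj
      have e : x = c * ((c : G)⁻¹ * x) := by group
      have h4 := D.e81.comm _ h3 _ hj
      calc x * j = c * (((c : G)⁻¹ * x) * j) := by group
        _ = c * (j * ((c : G)⁻¹ * x)) := by rw [h4]
        _ = (c * j) * ((c : G)⁻¹ * x) := by group
        _ = (j * c) * ((c : G)⁻¹ * x) := by rw [hcC j hj]
        _ = j * x := by group
    obtain ⟨T, hT, hJT, hTM⟩ := D.exists_T
    obtain ⟨g, rfl⟩ := conj_of_card hn L.cardS hT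
    have L' := L.cj g
    have hJZ : J ≤ cj g Z := fun j hj => (L'.memZ j).2 ⟨hJT hj, fun y hy => (hall y (hTM hy) j hj).symm⟩
    have := card_dvd_of_le hJZ
    rw [D.e81.card, L'.cardZ] at this
    omega

/-- elements of order 5 of `M` fix no element of `J` -/
theorem JDat.five_fix [Finite G] (D : JDat J M π) {S Z Q : Subgroup G} (L : Loc S Z Q)
    (hn : ¬ 3 ^ 7 ∣ Nat.card G) {m : G} (hm : m ∈ M) (h5 : m ^ 5 = 1) (h1 : m ≠ 1) {j : G} (hj : j ∈ J)
    (hc : m * j = j * m) : j = 1 := by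
  have hmod := card_modEq_fix (by norm_num : Nat.Prime 5) h5 J (fun j hj => D.conj_mem hm hj)
  obtain ⟨k, hk, hck⟩ := card_pow_of_le (n := 4) Nat.prime_three
    (inf_le_left : (J ⊓ centralizer {m} : Subgroup G) ≤ J) (by rw [D.e81.card]; norm_num)
  rw [D.e81.card, hck] at hmod
  have hmod' : 81 % 5 = 3 ^ k % 5 := hmod
  have hk' : k = 0 ∨ k = 4 := by
    interval_cases k <;> simp_all
  rcases hk' with rfl | rfl
  · rw [pow_zero, Subgroup.card_eq_one] at hck
    have : j ∈ (J ⊓ centralizer {m} : Subgroup G) :=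
      mem_inf.2 ⟨hj, mem_centralizer_singleton_iff.2 hc.symm⟩
    rw [hck, mem_bot] at this
    exact this
  · exfalso
    have heq : (J ⊓ centralizer {m} : Subgroup G) = J :=
      Subgroup.eq_of_le_of_card_ge inf_le_left (by rw [hck, D.e81.card]; norm_num)
    have hmJ : m ∈ J := D.cent_M L hn hm (fun j hj => by
      rw [← heq] at hj
      exact (mem_centralizer_singleton_iff.1 (mem_inf.1 hj).2).symm)
    have h3 := D.e81.cube m hmJ
    apply h1
    calc m = (m ^ 3) ^ 2 * (m ^ 5)⁻¹ := by group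
      _ = 1 := by rw [h3, h5]; group

/-- `M` contains an element of order 5 -/
theorem JDat.exists_five [Finite G] (D : JDat J M π) : ∃ m ∈ M, m ^ 5 = 1 ∧ m ≠ 1 := by
  have := Fact.mk (by norm_num : Nat.Prime 5)
  have h : 5 ∣ Nat.card M := by rw [D.card_M]; norm_num
  obtain ⟨x, hx⟩ := exists_prime_orderOf_dvd_card' 5 h
  refine ⟨x, x.2, ?_, ?_⟩
  · have : x ^ 5 = 1 := by rw [← hx]; exact pow_orderOf_eq_one x
    exact congrArg Subtype.val this
  · intro hc
    have : x = 1 := Subtype.ext hc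
    rw [this, orderOf_one] at hx
    omega

end Cfsg.Agent.H846
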