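import Mathlib

/-!
# An abelian group of order 81 has at most 40 subgroups of order 27 (helper846)
-/

set_option autoImplicit false

namespace Cfsg.Agent.H846.Hyper

open Subgroup

theorem exists_hom {J : Type*} [CommGroup J] [Finite J] (hJ : Nat.card J = 81) (B : Subgroup J)
    (hB : Nat.card B = 27) : ∃ φ : J →* ℂˣ, φ.ker = B ∧ φ ^ 3 = 1 := by
  have h1 := Subgroup.card_eq_card_quotient_mul_card_subgroup B
  rw [hJ, hB] at h1
  have h3 : Nat.card (J ⧸ B) = 3 := by omega
  have : Nontrivial (J ⧸ B) := Finite.one_lt_card_iff_nontrivial.1 (by rw [h3]; norm_num)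
  obtain ⟨a, ha⟩ := exists_ne (1 : J ⧸ B)
  obtain ⟨ψ, hψ⟩ := CommGroup.exists_apply_ne_one_of_hasEnoughRootsOfUnity (J ⧸ B) ℂ ha
  have hker : ψ.ker = ⊥ := by
    have hp : Fact (Nat.card (J ⧸ B)).Prime := ⟨by rw [h3]; norm_num⟩
    rcases Subgroup.eq_bot_or_eq_top_of_prime_card ψ.ker with h | h
    · exact h
    · exfalso
      apply hψ
      have : a ∈ ψ.ker := by rw [h]; exact mem_top _
      exact this
  refine ⟨ψ.comp (QuotientGroup.mk' B), ?_, ?_⟩
  · ext x
    rw [MonoidHom.mem_ker, MonoidHom.comp_apply]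
    rw [← MonoidHom.mem_ker, hker, mem_bot, QuotientGroup.mk'_apply, QuotientGroup.eq_one_iff]
  · ext x
    have : ((x : J ⧸ B)) ^ 3 = 1 := by rw [← h3]; exact pow_card_eq_one'
    have h2 : (ψ.comp (QuotientGroup.mk' B) x) ^ 3 = 1 := by
      rw [MonoidHom.comp_apply, ← map_pow, QuotientGroup.mk'_apply, this, map_one]
    rw [MonoidHom.pow_apply, h2]
    rfl

theorem card_le {J : Type*} [CommGroup J] [Finite J] (hJ : Nat.card J = 81) :
    Nat.card {B : Subgroup J // Nat.card B = 27} ≤ 40 := by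
  classical
  have hfin : Finite (J →* ℂˣ) := by
    apply Nat.finite_of_card_ne_zero
    rw [CommGroup.card_monoidHom_of_hasEnoughRootsOfUnity, hJ]
    norm_num
  have hcard : Nat.card (J →* ℂˣ) = 81 := by
    rw [CommGroup.card_monoidHom_of_hasEnoughRootsOfUnity, hJ]
  choose φ hφ hφ3 using fun B : {B : Subgroup J // Nat.card B = 27} => exists_hom hJ B.1 B.2
  have hne : ∀ B, φ B ≠ 1 := by
    intro B h
    have h1 := hφ B
    rw [h] at h1
    have h2 : (1 : J →* ℂˣ).ker = ⊤ := by ext; simp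
    rw [h2] at h1
    have h3 := B.2
    rw [← h1, Subgroup.card_top, hJ] at h3
    omega
  have hinv : ∀ B, (φ B)⁻¹ ≠ 1 := by
    intro B h
    apply hne B
    ext x
    have h1 := DFunLike.congr_fun h x
    rw [MonoidHom.inv_apply, MonoidHom.one_apply, inv_eq_one] at h1
    rw [h1]; rfl
  let F : {B : Subgroup J // Nat.card B = 27} ⊕ {B : Subgroup J // Nat.card B = 27} →
      {ψ : J →* ℂˣ // ψ ≠ 1} := Sum.elim (fun B => ⟨φ B, hne B⟩) (fun B => ⟨(φ B)⁻¹, hinv B⟩)
  have hkinv : ∀ B, ((φ B)⁻¹).ker = B.1 := by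
    intro B
    rw [← hφ B]
    ext x
    rw [MonoidHom.mem_ker, MonoidHom.mem_ker, MonoidHom.inv_apply, inv_eq_one]
  have hmix : ∀ B C, φ B ≠ (φ C)⁻¹ := by
    intro B C h
    have h1 : B = C := by
      apply Subtype.ext
      rw [← hφ B, h, hkinv C]
    subst h1
    apply hne B
    ext x
    have h2 := DFunLike.congr_fun h x
    rw [MonoidHom.inv_apply] at h2
    have h3 := DFunLike.congr_fun (hφ3 B) x
    rw [MonoidHom.pow_apply, MonoidHom.one_apply, pow_succ, pow_two] at h3
    have h4 : φ B x * φ B x = 1 := by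
      nth_rewrite 2 [h2]
      exact mul_inv_cancel _
    rw [h4, one_mul] at h3
    rw [h3]; rfl
  have hF : Function.Injective F := by
    intro a b hab
    rcases a with B | B <;> rcases b with C | C
    · have h : φ B = φ C := congrArg Subtype.val hab
      have : B = C := Subtype.ext (by rw [← hφ B, h, hφ C])
      rw [this]
    · exact absurd (congrArg Subtype.val hab) (hmix B C)
    · exact absurd (congrArg Subtype.val hab).symm (hmix C B)
    · have h : (φ B)⁻¹ = (φ C)⁻¹ := congrArg Subtype.val hab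
      have h' : φ B = φ C := inv_injective h
      have : B = C := Subtype.ext (by rw [← hφ B, h', hφ C])
      rw [this]
  have h1 := Nat.card_le_card_of_injective F hF
  rw [Nat.card_sum] at h1
  have h2 : Nat.card {ψ : J →* ℂˣ // ψ ≠ 1} = 80 := by
    let _ : Fintype (J →* ℂˣ) := Fintype.ofFinite _
    rw [Nat.card_eq_fintype_card, Fintype.card_subtype_compl, Fintype.card_subtype_eq,
      ← Nat.card_eq_fintype_card, hcard]
  omega

end Cfsg.Agent.H846.Hyper
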