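import Cfsg.Agent.H846.Basic
import Cfsg.Agent.H846.Hyper

/-!
# Hyperplanes of an elementary abelian group of order 81 (helper846)
-/

set_option autoImplicit false

namespace Cfsg.Agent.H846

open Subgroup

variable {G : Type*} [Group G] [Finite G]

/-- an element of odd order normalising `A ≤ J`, `|J : A| = 3`, acts trivially on `J / A` -/
theorem trivial_on_quot {J A : Subgroup G} (hJ : IsE81 J) (hAJ : A ≤ J) (hA : Nat.card A = 27)
    {x : G} (hxJ : ∀ j ∈ J, x * j * x⁻¹ ∈ J) (hxA : ∀ a ∈ A, x * a * x⁻¹ ∈ A) {n : ℕ}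
    (hodd : x ^ (2 * n + 1) = 1) : ∀ j ∈ J, x * j * x⁻¹ * j⁻¹ ∈ A := by
  let _ : CommGroup J := { (inferInstance : Group J) with
    mul_comm := fun a b => Subtype.ext (hJ.comm a a.2 b b.2) }
  obtain ⟨φ, hφ, hφ3⟩ := Hyper.exists_hom (J := J) hJ.card (A.subgroupOf J) (by
    rw [Nat.card_congr (subgroupOfEquivOfLe hAJ).toEquiv, hA])
  have hker : ∀ j : J, φ j = 1 ↔ (j : G) ∈ A := by
    intro j
    rw [← MonoidHom.mem_ker, hφ, mem_subgroupOf]
  let s : J →* J :=
    { toFun := fun j => ⟨x * j * x⁻¹, hxJ j j.2⟩
      map_one' := Subtype.ext (by simp)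
      map_mul' := fun a b => Subtype.ext (by
        change x * (a * b : G) * x⁻¹ = x * a * x⁻¹ * (x * b * x⁻¹)
        group) }
  have hs : ∀ j : J, ((s j : J) : G) = x * j * x⁻¹ := fun j => rfl
  have hcube : ∀ j : J, φ j ^ 3 = 1 := fun j => by
    have := DFunLike.congr_fun hφ3 j
    rwa [MonoidHom.pow_apply, MonoidHom.one_apply] at this
  -- `s` preserves and reflects membership in `A`
  have hsA : ∀ j : J, (j : G) ∈ A ↔ ((s j : J) : G) ∈ A := by
    intro j
    constructor
    · intro h; exact hxA _ h
    · intro h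
      have hmap : A.map (MulAut.conj x).toMonoidHom = A := by
        apply Subgroup.eq_of_le_of_card_ge
        · rintro y ⟨a, ha, rfl⟩
          exact hxA a ha
        · rw [Subgroup.card_map_of_injective (MulAut.conj x).injective]
      rw [← hmap] at h
      obtain ⟨a, ha, hae⟩ := h
      have : a = j := (MulAut.conj x).injective hae
      rw [← this]; exact ha
  have hpm : ∀ j : J, φ (s j) = φ j ∨ φ (s j) = (φ j)⁻¹ := by
    intro j
    by_cases hj : (j : G) ∈ A
    · left
      rw [(hker j).2 hj, (hker _).2 ((hsA j).1 hj)]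
    · have h1 : φ j ≠ 1 := fun h => hj ((hker j).1 h)
      have h2 : φ (s j) ≠ 1 := fun h => hj ((hsA j).2 ((hker _).1 h))
      have key : ∀ u v : ℂˣ, u ^ 3 = 1 → v ^ 3 = 1 → u ≠ 1 → v ≠ 1 → u = v ∨ u = v⁻¹ := by
        intro u v hu hv hu1 hv1
        have hu' : (u : ℂ) ^ 3 = 1 := by rw [← Units.val_pow_eq_pow_val, hu, Units.val_one]
        have hv' : (v : ℂ) ^ 3 = 1 := by rw [← Units.val_pow_eq_pow_val, hv, Units.val_one]
        have hu2 : (u : ℂ) ≠ 1 := fun h => hu1 (Units.ext h)
        have hv2 : (v : ℂ) ≠ 1 := fun h => hv1 (Units.ext h)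
        have eu : (u : ℂ) ^ 2 + u + 1 = 0 := by
          have : ((u : ℂ) - 1) * ((u : ℂ) ^ 2 + u + 1) = 0 := by linear_combination hu'
          rcases mul_eq_zero.1 this with h | h
          · exact absurd (sub_eq_zero.1 h) hu2
          · exact h
        have ev : (v : ℂ) ^ 2 + v + 1 = 0 := by
          have : ((v : ℂ) - 1) * ((v : ℂ) ^ 2 + v + 1) = 0 := by linear_combination hv'
          rcases mul_eq_zero.1 this with h | h
          · exact absurd (sub_eq_zero.1 h) hv2
          · exact h
        have e : ((u : ℂ) - v) * (u * v - 1) = 0 := by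
          have e1 : (u : ℂ) * v * (u - v) - (u - v) = 0 := by
            have hu3 : (u : ℂ) = -(u : ℂ) ^ 2 - 1 := by linear_combination eu
            have : ((u : ℂ) - v) * (u + v + 1) = 0 := by linear_combination eu - ev
            rcases mul_eq_zero.1 this with h | h
            · rw [h]; ring
            · have hv3 : (v : ℂ) = -1 - u := by linear_combination h
              rw [hv3]
              linear_combination (-(2 * (u : ℂ) + 1)) * eu
          linear_combination e1
        rcases mul_eq_zero.1 e with h | h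
        · left; exact Units.ext (sub_eq_zero.1 h)
        · right
          rw [eq_inv_iff_mul_eq_one]
          exact Units.ext (by simpa using sub_eq_zero.1 h)
      exact key _ _ (hcube _) (hcube _) h2 h1
  by_cases hall : ∀ j : J, φ (s j) = φ j
  · intro j hj
    have h1 := hall ⟨j, hj⟩
    have h2 : φ (s ⟨j, hj⟩ * (⟨j, hj⟩ : J)⁻¹) = 1 := by rw [map_mul, map_inv, h1, mul_inv_cancel]
    rw [hker] at h2
    exact h2
  · exfalso
    push Not at hall
    obtain ⟨j0, hj0⟩ := hall
    have hj0' : φ (s j0) = (φ j0)⁻¹ := (hpm j0).resolve_left hj0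
    have hinv : ∀ j : J, φ (s j) = (φ j)⁻¹ := by
      intro k
      by_contra hk
      have hk' : φ (s k) = φ k := (hpm k).resolve_right hk
      rcases hpm (j0 * k) with h | h
      · rw [map_mul, map_mul, map_mul, hk'] at h
        exact hj0 (mul_right_cancel h)
      · rw [map_mul, map_mul, map_mul, hj0', mul_inv] at h
        exact hk (mul_left_cancel h)
    have hpow : ∀ m : ℕ, ∀ j : J, φ ((s^[2 * m + 1]) j) = (φ j)⁻¹ := by
      intro m
      induction m with
      | zero => intro j; simpa using hinv j
      | succ m ih =>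
        intro j
        have : 2 * (m + 1) + 1 = (2 * m + 1) + 2 := by ring
        rw [this, Function.iterate_add_apply, ih]
        change (φ (s (s j)))⁻¹ = _
        rw [hinv, hinv, inv_inv]
    have hit : ∀ m : ℕ, ∀ j : J, (((s^[m]) j : J) : G) = x ^ m * j * (x ^ m)⁻¹ := by
      intro m
      induction m with
      | zero => intro j; simp
      | succ m ih =>
        intro j
        rw [Function.iterate_succ_apply', hs, ih, pow_succ']
        group
    have hone : ∀ j : J, φ j = 1 := by
      intro j
      have h1 : (s^[2 * n + 1]) j = j := Subtype.ext (by rw [hit, hodd]; simp)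
      have h2 := hpow n j
      rw [h1] at h2
      have h3 : φ j * φ j = 1 := by
        nth_rewrite 1 [h2]
        exact inv_mul_cancel _
      have h4 := hcube j
      rw [pow_succ, pow_two, h3, one_mul] at h4
      exact h4
    have hJA : J ≤ A := fun j hj => (hker ⟨j, hj⟩).1 (hone _)
    have := card_dvd_of_le hJA
    rw [hJ.card, hA] at this
    omega

/-- the number of subgroups of order 27 of an elementary abelian subgroup of order 81 -/
theorem card_hyper_le {J : Subgroup G} (hJ : IsE81 J) :
    Nat.card {B : Subgroup G // B ≤ J ∧ Nat.card B = 27} ≤ 40 := by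
  let _ : CommGroup J := { (inferInstance : Group J) with
    mul_comm := fun a b => Subtype.ext (hJ.comm a a.2 b b.2) }
  refine le_trans (Nat.card_le_card_of_injective
    (fun B : {B : Subgroup G // B ≤ J ∧ Nat.card B = 27} =>
      (⟨B.1.subgroupOf J, by
        rw [Nat.card_congr (subgroupOfEquivOfLe B.2.1).toEquiv, B.2.2]⟩ :
        {B : Subgroup J // Nat.card B = 27})) ?_) (Hyper.card_le (J := J) hJ.card)
  intro B C h
  have h1 : B.1.subgroupOf J = C.1.subgroupOf J := congrArg Subtype.val h
  apply Subtype.ext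
  have h2 := congrArg (Subgroup.map J.subtype) h1
  rw [subgroupOf_map_subtype, subgroupOf_map_subtype, inf_eq_left.2 B.2.1, inf_eq_left.2 C.2.1] at h2
  exact h2

end Cfsg.Agent.H846
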