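import Cfsg.Agent.H846.Core2
import Cfsg.Agent.H846.Hyper2
import Cfsg.Agent.Characters.CNBasic

/-!
# 3-local recognition of `McL`: `J` normalises no nontrivial `3'`-subgroup (helper846)
-/

set_option autoImplicit false

namespace Cfsg.Agent.H846

open Subgroup

variable {G : Type*} [Group G] [Finite G] {J M : Subgroup G} {π : M →* ASix.A6}

/-- 3-subgroups of `M` lie in subgroups of order `3^6` containing `J` -/
theorem JDat.exists_T_of (D : JDat J M π) {P : Subgroup G} (hP : IsPGroup 3 P) (hPM : P ≤ M) :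
    ∃ T : Subgroup G, Nat.card T = 3 ^ 6 ∧ J ≤ T ∧ P ≤ T ∧ T ≤ M := by
  have := Fact.mk Nat.prime_three
  have hp : IsPGroup 3 (J.subgroupOf M) := D.e81.isPGroup.of_equiv (subgroupOfEquivOfLe D.JM).symm
  have hP' : IsPGroup 3 (P.subgroupOf M) := hP.of_equiv (subgroupOfEquivOfLe hPM).symm
  have := normal_J D
  obtain ⟨R, hR⟩ := (hP'.to_sup_of_normal_right hp).exists_le_sylow
  refine ⟨(R : Subgroup M).map M.subtype, ?_, ?_, ?_, ?_⟩
  · rw [Subgroup.card_map_of_injective M.subtype_injective]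
    have hM := D.card_M
    obtain ⟨k, hk⟩ := (IsPGroup.iff_card (p := 3)).1 R.isPGroup'
    have h1 : 3 ^ 6 ∣ Nat.card R := R.pow_dvd_card_of_pow_dvd_card (by rw [hM]; exact dvd_mul_right _ _)
    have h2 : Nat.card R ∣ 3 ^ 6 * 40 := by rw [← hM]; exact card_subgroup_dvd_card _
    have hk' : Nat.card (R : Subgroup M) = 3 ^ k := hk
    rw [hk] at h1 h2
    rw [hk']
    have h3 : 6 ≤ k := (Nat.pow_dvd_pow_iff_le_right (by norm_num)).1 h1
    have h4 : k ≤ 6 := by
      by_contra hcon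
      have : (3 : ℕ) ^ 7 ∣ 3 ^ 6 * 40 := (pow_dvd_pow 3 (by omega : 7 ≤ k)).trans h2
      revert this
      norm_num
    rw [le_antisymm h4 h3]
  · intro j hj
    exact ⟨⟨j, D.JM hj⟩, hR (le_sup_right (a := P.subgroupOf M) (mem_subgroupOf.2 hj)), rfl⟩
  · intro j hj
    exact ⟨⟨j, hPM hj⟩, hR (le_sup_left (a := P.subgroupOf M) (mem_subgroupOf.2 hj)), rfl⟩
  · rintro x ⟨y, -, rfl⟩
    exact y.2

/-- commutators of a subgroup of order `3^6` between `J` and `M` are in `J` -/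
theorem JDat.comm_T (D : JDat J M π) {T : Subgroup G} (hT : Nat.card T = 3 ^ 6) (hJT : J ≤ T) (hTM : T ≤ M)
    {a b : G} (ha : a ∈ T) (hb : b ∈ T) : a * b * a⁻¹ * b⁻¹ ∈ J := by
  have := Fact.mk Nat.prime_three
  have hn : (J.subgroupOf T).Normal := by
    constructor
    intro j hj m
    rw [mem_subgroupOf] at hj ⊢
    exact D.conj_mem (hTM m.2) hj
  have h1 := Subgroup.card_eq_card_quotient_mul_card_subgroup (J.subgroupOf T)
  rw [Nat.card_congr (subgroupOfEquivOfLe hJT).toEquiv, D.e81.card, hT] at h1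
  have h9 : Nat.card (T ⧸ J.subgroupOf T) = 3 ^ 2 := by omega
  have hcomm := IsPGroup.commutative_of_card_eq_prime_sq h9
  have h2 : ((⟨a, ha⟩ * ⟨b, hb⟩ * (⟨a, ha⟩ : T)⁻¹ * (⟨b, hb⟩ : T)⁻¹ : T) : T ⧸ J.subgroupOf T) = 1 := by
    rw [QuotientGroup.mk_mul, QuotientGroup.mk_mul, QuotientGroup.mk_mul, QuotientGroup.mk_inv,
      QuotientGroup.mk_inv]
    rw [hcomm ((⟨a, ha⟩ : T) : T ⧸ J.subgroupOf T) _]
    group
  rw [QuotientGroup.eq_one_iff, mem_subgroupOf] at h2
  exact h2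

theorem odd_exp {x : G} {k : ℕ} (h : x ^ 3 ^ k = 1) : ∃ n, x ^ (2 * n + 1) = 1 := by
  obtain ⟨n, hn⟩ := (Odd.pow (by decide : Odd 3) : Odd (3 ^ k))
  exact ⟨n, by rw [← hn, h]⟩

/-- every hyperplane of `J` contains the centre of a Sylow 3-subgroup of `M` -/
theorem JDat.exists_center_le (D : JDat J M π) {S Z Q : Subgroup G} (L : Loc S Z Q)
    (hn : ¬ 3 ^ 7 ∣ Nat.card G) {A : Subgroup G} (hAJ : A ≤ J) (hA : Nat.card A = 27) :
    ∃ g : G, J ≤ cj g S ∧ cj g S ≤ M ∧ cj g Z ≤ A := by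
  have h3F := Fact.mk Nat.prime_three
  by_contra hcon
  push Not at hcon
  -- 3-elements of `M` normalising `A` lie in `J`
  have claim3 : ∀ x ∈ M, (∀ a ∈ A, x * a * x⁻¹ ∈ A) → ∀ k : ℕ, x ^ 3 ^ k = 1 → x ∈ J := by
    intro x hxM hxA k hxk
    by_contra hxJ
    have hP : IsPGroup 3 (zpowers x) := by
      obtain ⟨m, hm, hox⟩ := (Nat.dvd_prime_pow Nat.prime_three).1 (orderOf_dvd_of_pow_eq_one hxk)
      exact IsPGroup.of_card (n := m) (by rw [Nat.card_zpowers, hox])
    obtain ⟨T, hT, hJT, hPT, hTM⟩ := D.exists_T_of hP (by rwa [zpowers_le])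
    obtain ⟨g, rfl⟩ := conj_of_card hn L.cardS hT
    have L' := L.cj g
    have hxT : x ∈ cj g S := hPT (mem_zpowers x)
    obtain ⟨n, hxn⟩ := odd_exp hxk
    have hq := trivial_on_quot D.e81 hAJ hA (fun j hj => D.conj_mem hxM hj) hxA hxn
    let Dx : Subgroup G :=
      { carrier := {y | ∃ j ∈ J, y = x * j * x⁻¹ * j⁻¹}
        one_mem' := ⟨1, one_mem _, by group⟩
        mul_mem' := by
          rintro a b ⟨j, hj, rfl⟩ ⟨k, hk, rfl⟩
          refine ⟨j * k, mul_mem hj hk, ?_⟩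
          have h1 := D.conj_mem hxM hk
          have h2 := D.e81.comm _ (inv_mem hj) _ (mul_mem h1 (inv_mem hk))
          calc x * j * x⁻¹ * j⁻¹ * (x * k * x⁻¹ * k⁻¹)
              = x * j * x⁻¹ * (j⁻¹ * (x * k * x⁻¹ * k⁻¹)) := by group
            _ = x * j * x⁻¹ * ((x * k * x⁻¹ * k⁻¹) * j⁻¹) := by rw [h2]
            _ = x * (j * k) * x⁻¹ * (j * k)⁻¹ := by group
        inv_mem' := by
          rintro a ⟨j, hj, rfl⟩
          refine ⟨j⁻¹, inv_mem hj, ?_⟩
          have h1 := D.conj_mem hxM (inv_mem hj)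
          have h2 := D.e81.comm _ hj _ h1
          calc (x * j * x⁻¹ * j⁻¹)⁻¹ = j * (x * j⁻¹ * x⁻¹) := by group
            _ = (x * j⁻¹ * x⁻¹) * j := by rw [h2]
            _ = x * j⁻¹ * x⁻¹ * j⁻¹⁻¹ := by group }
    have hDx : ∀ y, y ∈ Dx ↔ ∃ j ∈ J, y = x * j * x⁻¹ * j⁻¹ := fun y => Iff.rfl
    have hDA : Dx ≤ A := by
      rintro y ⟨j, hj, rfl⟩
      exact hq j hj
    have hDp : IsPGroup 3 Dx := D.e81.isPGroup.to_le (hDA.trans hAJ)
    have hD1 : Dx ≠ ⊥ := by
      intro h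
      apply hxJ
      apply D.cent_M L hn hxM
      intro j hj
      have : x * j * x⁻¹ * j⁻¹ ∈ Dx := ⟨j, hj, rfl⟩
      rw [h, mem_bot, mul_inv_eq_one, mul_inv_eq_iff_eq_mul] at this
      exact this
    have hTp : IsPGroup 3 (cj g S) := IsPGroup.of_card L'.cardS
    obtain ⟨w, hwD, hw1, hwT⟩ := Cfsg.Agent.Characters.CNBasic.exists_mem_center_of_normal (cj g S) hTp Dx
      hDp hD1 (by
        rintro t ht y ⟨j, hj, rfl⟩
        have hj' := D.conj_mem (hTM ht) hj
        refine ⟨t * j * t⁻¹, hj', ?_⟩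
        -- `t x t⁻¹ = u x`, `u ∈ J`
        have hu : t * x * t⁻¹ * x⁻¹ ∈ J := D.comm_T hT hJT hTM ht hxT
        have hv : x * (t * j * t⁻¹) * x⁻¹ ∈ J := D.conj_mem hxM hj'
        have hc := D.e81.comm _ hu _ hv
        have e1 : t * (x * j * x⁻¹ * j⁻¹) * t⁻¹ =
          (t * x * t⁻¹ * x⁻¹) * (x * (t * j * t⁻¹) * x⁻¹) * (t * x * t⁻¹ * x⁻¹)⁻¹ * (t * j * t⁻¹)⁻¹ := by
          group
        rw [e1, hc]; group)
    have hwZ : w ∈ cj g Z := (L'.memZ w).2 ⟨(hDA.trans hAJ).trans hJT hwD, fun y hy => (hwT y hy).symm⟩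
    have hZ : zpowers w = cj g Z := by
      apply Subgroup.eq_of_le_of_card_ge ((zpowers_le (H := cj g Z)).2 hwZ)
      rw [L'.cardZ]
      have h1 : Nat.card (zpowers w) ∣ 3 := by
        rw [← L'.cardZ]; exact card_dvd_of_le ((zpowers_le (H := cj g Z)).2 hwZ)
      rcases (Nat.dvd_prime Nat.prime_three).1 h1 with h | h
      · exfalso
        apply hw1
        rw [Subgroup.card_eq_one, zpowers_eq_bot] at h
        exact h
      · exact h.ge
    apply hcon g hJT hTM
    rw [← hZ, zpowers_le]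
    exact hDA hwD
  -- elements of order 5 of `M` do not normalise `A`
  have claim5 : ∀ x ∈ M, (∀ a ∈ A, x * a * x⁻¹ ∈ A) → x ^ 5 = 1 → x = 1 := by
    intro x hxM hxA hx5
    by_contra hx1
    have h1 := five_trivial hx5 (k := 3) le_rfl (by rw [hA]; norm_num) hxA
    obtain ⟨a, ha, ha1⟩ : ∃ a ∈ A, a ≠ 1 := by
      have : A ≠ ⊥ := by
        rintro rfl
        rw [Subgroup.card_bot] at hA
        omega
      by_contra hno
      push Not at hno
      exact this ((Subgroup.eq_bot_iff_forall A).2 hno)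
    exact ha1 (D.five_fix L hn hxM hx5 hx1 (hAJ ha) (h1 a ha))
  -- the count
  let N : Subgroup M := (normalizer (A : Set G)).subgroupOf M
  have hNmem : ∀ x : M, x ∈ N → ∀ a ∈ A, (x : G) * a * (x : G)⁻¹ ∈ A := by
    intro x hx a ha
    rw [mem_subgroupOf] at hx
    exact (mem_normalizer_iff.1 hx a).1 ha
  have hM := D.card_M
  have hN5 : ¬ 5 ∣ Nat.card N := by
    intro h
    have := Fact.mk (by norm_num : Nat.Prime 5)
    obtain ⟨x, hx⟩ := exists_prime_orderOf_dvd_card' 5 h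
    have hx5 : ((x : M) : G) ^ 5 = 1 := by
      have : x ^ 5 = 1 := by rw [← hx]; exact pow_orderOf_eq_one x
      exact congrArg (fun y : N => ((y : M) : G)) this
    have := claim5 ((x : M) : G) (x : M).2 (hNmem x x.2) hx5
    have : x = 1 := Subtype.ext (Subtype.ext this)
    rw [this, orderOf_one] at hx
    omega
  have hN3 : ¬ 3 ^ 5 ∣ Nat.card N := by
    intro h
    let P : Sylow 3 N := default
    have hPJ : ((P : Subgroup N).map N.subtype).map M.subtype ≤ J := by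
      rintro y ⟨x, ⟨x', hx', rfl⟩, rfl⟩
      obtain ⟨k, hk⟩ := P.isPGroup' ⟨x', hx'⟩
      refine claim3 _ (x' : M).2 (hNmem x' x'.2) k ?_
      have := congrArg (fun y : P => (((y : N) : M) : G)) hk
      simpa using this
    have h1 : 3 ^ 5 ∣ Nat.card P := P.pow_dvd_card_of_pow_dvd_card h
    have h2 := card_dvd_of_le hPJ
    rw [Subgroup.card_map_of_injective M.subtype_injective,
      Subgroup.card_map_of_injective N.subtype_injective, D.e81.card] at h2
    have h3 := Nat.le_of_dvd (by norm_num) (h1.trans h2)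
    norm_num at h3
  have hNdvd : Nat.card N ∣ 81 * 8 := by
    have h1 : Nat.card N ∣ 3 ^ 6 * 40 := by rw [← hM]; exact card_subgroup_dvd_card N
    have hc5 : Nat.Coprime (Nat.card N) 5 :=
      ((Nat.Prime.coprime_iff_not_dvd (by norm_num)).2 hN5).symm
    have h2 : Nat.card N ∣ 3 ^ 6 * 8 := by
      have : 3 ^ 6 * 40 = 3 ^ 6 * 8 * 5 := by norm_num
      rw [this] at h1
      exact hc5.dvd_of_dvd_mul_right h1
    obtain ⟨⟨a, ha⟩, ⟨b, hb⟩, hab⟩ : ∃ a : {a // a ∣ 3 ^ 6}, ∃ b : {b // b ∣ 8}, a.1 * b.1 = Nat.card N := by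
      obtain ⟨a, b, ha, hb, hab⟩ := (Nat.dvd_mul).1 h2
      exact ⟨⟨a, ha⟩, ⟨b, hb⟩, hab⟩
    obtain ⟨i, hi, rfl⟩ := (Nat.dvd_prime_pow Nat.prime_three).1 ha
    have hi4 : i ≤ 4 := by
      by_contra hcon
      apply hN3
      rw [← hab]
      exact (pow_dvd_pow 3 (by omega : 5 ≤ i)).trans (dvd_mul_right _ _)
    rw [← hab]
    exact Nat.mul_dvd_mul (by
      have := pow_dvd_pow 3 hi4
      simpa using this) hb
  have hindex : N.index ≤ 40 := by
    rw [Subgroup.index]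
    refine le_trans (Nat.card_le_card_of_injective
      (fun q : M ⧸ N => Quotient.liftOn' q
        (fun m : M => (⟨cj (m : G) A, by
          constructor
          · rintro y ⟨a, ha, rfl⟩
            exact D.conj_mem m.2 (hAJ ha)
          · rw [card_cj, hA]⟩ : {B : Subgroup G // B ≤ J ∧ Nat.card B = 27})) ?_) ?_) (card_hyper_le D.e81)
    · intro a b hab
      rw [QuotientGroup.leftRel_apply] at hab
      apply Subtype.ext
      change cj (a : G) A = cj (b : G) A
      have h1 := hNmem _ hab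
      apply (Subgroup.eq_of_le_of_card_ge _ _).symm
      · intro y hy
        rw [mem_cj] at hy ⊢
        have := h1 _ hy
        simp only [Subgroup.coe_mul, Subgroup.coe_inv] at this
        have e : (a : G)⁻¹ * b * ((b : G)⁻¹ * y * b) * ((a : G)⁻¹ * b)⁻¹ = (a : G)⁻¹ * y * a := by group
        rwa [e] at this
      · rw [card_cj, card_cj]
    · intro q r
      refine Quotient.inductionOn₂' q r ?_
      intro a b h
      have h1 : cj (a : G) A = cj (b : G) A := congrArg Subtype.val h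
      apply Quotient.sound'
      rw [QuotientGroup.leftRel_apply, mem_subgroupOf, mem_normalizer_iff]
      intro y
      constructor
      · intro hy
        have h2 : (b : G) * y * (b : G)⁻¹ ∈ cj (b : G) A := mem_cj_of hy
        rw [← h1, mem_cj] at h2
        simp only [Subgroup.coe_mul, Subgroup.coe_inv]
        have e : (a : G)⁻¹ * b * y * ((a : G)⁻¹ * b)⁻¹ = (a : G)⁻¹ * (b * y * (b : G)⁻¹) * a := by group
        rwa [e]
      · intro hy
        simp only [Subgroup.coe_mul, Subgroup.coe_inv] at hy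
        have h2 := mem_cj_of (g := (a : G)) hy
        rw [h1, mem_cj] at h2
        have e : (b : G)⁻¹ * (a * ((a : G)⁻¹ * b * y * ((a : G)⁻¹ * b)⁻¹) * (a : G)⁻¹) * b = y := by group
        rwa [e] at h2
  have h1 := Subgroup.card_mul_index N
  rw [hM] at h1
  have h2 : Nat.card N ≤ 81 * 8 := Nat.le_of_dvd (by norm_num) hNdvd
  have h3 : Nat.card N * N.index ≤ (81 * 8) * 40 := Nat.mul_le_mul h2 hindex
  rw [h1] at h3
  norm_num at h3

end Cfsg.Agent.H846
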