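import Cfsg.Agent.H846.Core3
import Cfsg.Agent.Lib.CoprimeHyperplane

/-!
# 3-local recognition of `McL`: `J` normalises no nontrivial `3'`-subgroup (helper846)
-/

set_option autoImplicit false

namespace Cfsg.Agent.H846

open Subgroup

variable {G : Type*} [Group G] [Finite G] {J M : Subgroup G} {π : M →* ASix.A6}

omit [Finite G] in
theorem relIndex_mul_card' (H K : Subgroup G) (h : H ≤ K) : H.relIndex K * Nat.card H = Nat.card K := by
  have h1 := Subgroup.card_mul_index (H.subgroupOf K)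
  rw [Nat.card_congr (subgroupOfEquivOfLe h).toEquiv] at h1
  rw [Subgroup.relIndex, mul_comm]
  exact h1

omit [Finite G] in
theorem eq_one_of_coprime {p : ℕ} (hp : p.Prime) {x : G} {k : ℕ} (hx : x ^ p ^ k = 1) {U : Subgroup G} [Finite U]
    (hU : ¬ p ∣ Nat.card U) (hxU : x ∈ U) : x = 1 := by
  have h1 : orderOf x ∣ p ^ k := orderOf_dvd_of_pow_eq_one hx
  have h2 : orderOf x ∣ Nat.card U := by
    have := orderOf_dvd_natCard (⟨x, hxU⟩ : U)
    rwa [Subgroup.orderOf_mk] at this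
  rw [← orderOf_eq_one_iff]
  have hc : Nat.Coprime (p ^ k) (Nat.card U) := Nat.Coprime.pow_left _ ((Nat.Prime.coprime_iff_not_dvd hp).2 hU)
  exact Nat.eq_one_of_dvd_coprimes hc h1 h2

omit [Finite G] in
/-- `W ≤ Q` abelian of order 27 is its own centraliser in `Q` -/
theorem Loc.self_cent {S Z Q : Subgroup G} (L : Loc S Z Q) {W : Subgroup G} (hWQ : W ≤ Q)
    (hW : ∀ x ∈ W, ∀ y ∈ W, x * y = y * x) (hc : Nat.card W = 27) {q : G} (hq : q ∈ Q)
    (hqW : ∀ w ∈ W, q * w = w * q) : q ∈ W := by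
  have hQf : Finite Q := Nat.finite_of_card_ne_zero (by rw [L.cardQ]; norm_num)
  let V : Subgroup G := closure ((W : Set G) ∪ {q})
  have hVQ : V ≤ Q := by
    rw [closure_le]
    rintro x (hx | hx)
    · exact hWQ hx
    · rw [Set.mem_singleton_iff] at hx; rw [hx]; exact hq
  have hVc : ∀ x ∈ V, ∀ y ∈ V, x * y = y * x := by
    intro x hx y hy
    have := Subgroup.closure_induction₂ (p := fun x y _ _ => x * y = y * x) (k := (W : Set G) ∪ {q})
      (fun x y hx hy => by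
        rcases hx with hx | hx <;> rcases hy with hy | hy
        · exact hW x hx y hy
        · rw [Set.mem_singleton_iff] at hy; rw [hy]; exact (hqW x hx).symm
        · rw [Set.mem_singleton_iff] at hx; rw [hx]; exact hqW y hy
        · rw [Set.mem_singleton_iff] at hx hy; rw [hx, hy])
      (fun x _ => by simp) (fun x _ => by simp)
      (fun x y z _ _ _ h1 h2 => by rw [mul_assoc, h2, ← mul_assoc, h1, mul_assoc])
      (fun x y z _ _ _ h1 h2 => by rw [← mul_assoc, h1, mul_assoc, h2, mul_assoc])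
      (fun x y _ _ h => (Commute.inv_left (show Commute x y from h)).eq)
      (fun x y _ _ h => (Commute.inv_right (show Commute x y from h)).eq) hx hy
    exact this
  have hWV : W ≤ V := fun x hx => subset_closure (Or.inl hx)
  have hVf : Finite V := Finite.of_injective (Subgroup.inclusion hVQ) (Subgroup.inclusion_injective hVQ)
  have h1 := L.abQ V hVQ hVc
  have h2 : W = V := Subgroup.eq_of_le_of_card_ge hWV (by rw [hc]; exact h1)
  rw [h2]
  exact subset_closure (Or.inr rfl)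

omit [Finite G] in
/-- an element of order prime to 3 centralising `Z` and an abelian subgroup of order 27 of `Q` lies in `Q` -/
theorem Loc.mem_Q {S Z Q : Subgroup G} (L : Loc S Z Q) {W : Subgroup G} (hWQ : W ≤ Q)
    (hW : ∀ x ∈ W, ∀ y ∈ W, x * y = y * x) (hc : Nat.card W = 27) {x : G} (hx3 : ¬ 3 ∣ orderOf x)
    (hxZ : ∀ z ∈ Z, x * z = z * x) (hxW : ∀ w ∈ W, x * w = w * x) : x ∈ Q := by
  have hnor : ∀ q ∈ Q, x * q * x⁻¹ ∈ Q := L.nor x (fun z hz => by
    rw [hxZ z hz, mul_assoc, mul_inv_cancel, mul_one]; exact hz)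
  have hδ : ∀ q ∈ Q, q⁻¹ * (x * q * x⁻¹) ∈ W := by
    intro q hq
    apply L.self_cent hWQ hW hc (mul_mem (inv_mem hq) (hnor q hq))
    intro w hw
    have hzz := L.commQ q hq w (hWQ hw)
    have h1 : x * (q * w * q⁻¹ * w⁻¹) * x⁻¹ = q * w * q⁻¹ * w⁻¹ := by
      rw [hxZ _ hzz, mul_assoc, mul_inv_cancel, mul_one]
    have h2 : x * w * x⁻¹ = w := by rw [hxW w hw, mul_assoc, mul_inv_cancel, mul_one]
    have h3 : (x * q * x⁻¹) * w * (x * q * x⁻¹)⁻¹ * w⁻¹ = q * w * q⁻¹ * w⁻¹ := by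
      calc (x * q * x⁻¹) * w * (x * q * x⁻¹)⁻¹ * w⁻¹ = (x * q * x⁻¹) * (x * w * x⁻¹) * (x * q * x⁻¹)⁻¹ * (x * w * x⁻¹)⁻¹ := by
            rw [h2]
        _ = x * (q * w * q⁻¹ * w⁻¹) * x⁻¹ := by group
        _ = _ := h1
    have h4 : (x * q * x⁻¹) * w * (x * q * x⁻¹)⁻¹ = q * w * q⁻¹ := mul_right_cancel h3
    rw [mul_inv_eq_iff_eq_mul] at h4
    calc q⁻¹ * (x * q * x⁻¹) * w = q⁻¹ * ((x * q * x⁻¹) * w) := by group
      _ = q⁻¹ * (q * w * q⁻¹ * (x * q * x⁻¹)) := by rw [h4]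
      _ = w * (q⁻¹ * (x * q * x⁻¹)) := by group
  apply L.cenQ
  intro q hq
  have hd := hδ q hq
  set d := q⁻¹ * (x * q * x⁻¹) with hdd
  have hstep : x * q * x⁻¹ = q * d := by rw [hdd]; group
  have hxd : x * d * x⁻¹ = d := by rw [hxW d hd, mul_assoc, mul_inv_cancel, mul_one]
  have hpow : ∀ n : ℕ, x ^ n * q * (x ^ n)⁻¹ = q * d ^ n := by
    intro n
    induction n with
    | zero => simp
    | succ n ih =>
      have hxdn : x * d ^ n * x⁻¹ = d ^ n := by
        have := conj_pow (i := n) (a := x) (b := d)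
        rw [← this, hxd]
      rw [pow_succ' x]
      calc x * x ^ n * q * (x * x ^ n)⁻¹ = x * (x ^ n * q * (x ^ n)⁻¹) * x⁻¹ := by group
        _ = x * (q * d ^ n) * x⁻¹ := by rw [ih]
        _ = (x * q * x⁻¹) * (x * d ^ n * x⁻¹) := by group
        _ = q * d * d ^ n := by rw [hstep, hxdn]
        _ = q * d ^ (n + 1) := by rw [pow_succ' d, mul_assoc]
  have h1 := hpow (orderOf x)
  rw [pow_orderOf_eq_one, one_mul, inv_one, mul_one] at h1
  have h2 : d ^ orderOf x = 1 := by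
    have := mul_left_cancel (a := q) (b := 1) (c := d ^ orderOf x) (by rw [mul_one]; exact h1)
    exact this.symm
  have hd3 : orderOf d ∣ 3 ^ 5 := by
    have := orderOf_dvd_natCard (⟨d, hWQ hd⟩ : Q)
    rwa [Subgroup.orderOf_mk, L.cardQ] at this
  have hd1 : d = 1 := by
    rw [← orderOf_eq_one_iff]
    have hc : Nat.Coprime (3 ^ 5) (orderOf x) :=
      Nat.Coprime.pow_left _ ((Nat.Prime.coprime_iff_not_dvd Nat.prime_three).2 hx3)
    exact Nat.eq_one_of_dvd_coprimes hc hd3 (orderOf_dvd_of_pow_eq_one h2)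
  rw [hd1, mul_one, mul_inv_eq_iff_eq_mul] at hstep
  exact hstep

/-- `|J ∩ Q| = 27` -/
theorem Loc.card_inf {S Z Q : Subgroup G} (L : Loc S Z Q) {A : Subgroup G} (hA : IsE81 A) (hAS : A ≤ S) :
    Nat.card (A ⊓ Q : Subgroup G) = 27 := by
  have h1 : Nat.card (A ⊓ Q : Subgroup G) ≤ 27 :=
    L.abQ _ inf_le_right (fun x hx y hy => hA.comm x (mem_inf.1 hx).1 y (mem_inf.1 hy).1)
  obtain ⟨k, hk, hc⟩ := card_pow_of_le (n := 4) Nat.prime_three
    (inf_le_left : (A ⊓ Q : Subgroup G) ≤ A) (by rw [hA.card]; norm_num)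
  have hqn : ∀ s ∈ S, ∀ q ∈ Q, s * q * s⁻¹ ∈ Q := fun s hs => L.nor s (fun z hz => by
    rw [← L.comm_S hz hs, mul_assoc, mul_inv_cancel, mul_one]; exact hz)
  -- index of `Q` in `S` is 3, so `A ∩ Q` has index at most 3 in `A`
  have h2 : (Q.relIndex S) = 3 := by
    have := relIndex_mul_card' Q S L.QS
    rw [L.cardQ, L.cardS] at this
    omega
  have h3 : Q.relIndex A ≤ 3 := by
    rw [← h2]
    apply Subgroup.relIndex_le_of_le_right hAS
    rw [h2]; norm_num
  have h4 : (A ⊓ Q).relIndex A = Q.relIndex A := Subgroup.inf_relIndex_left _ _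
  have h5 := relIndex_mul_card' (A ⊓ Q) A inf_le_left
  rw [h4, hA.card, hc] at h5
  rw [hc] at h1 ⊢
  have h6 : 81 ≤ 3 * 3 ^ k := by
    rw [← h5]; exact Nat.mul_le_mul_right _ h3
  have h7 : k = 3 := by
    interval_cases k <;> omega
  rw [h7]
  norm_num

/-- 3'-subgroups normalised by `A` and centralised by `Z` are trivial -/
theorem Loc.p_prime {S Z Q : Subgroup G} (L : Loc S Z Q) {A : Subgroup G} (hA : IsE81 A) (hAS : A ≤ S)
    {U : Subgroup G} (hU : ¬ 3 ∣ Nat.card U) (hAU : ∀ a ∈ A, ∀ u ∈ U, a * u * a⁻¹ ∈ U) {x : G} (hxU : x ∈ U)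
    (hxZ : ∀ z ∈ Z, x * z = z * x) : x = 1 := by
  have hnor : ∀ q ∈ Q, x * q * x⁻¹ ∈ Q := L.nor x (fun z hz => by
    rw [hxZ z hz, mul_assoc, mul_inv_cancel, mul_one]; exact hz)
  have hQ1 : ∀ y ∈ Q, y ∈ U → y = 1 := by
    intro y hy hyU
    refine eq_one_of_coprime Nat.prime_three (k := 5) ?_ hU hyU
    have := pow_card_eq_one' (x := (⟨y, hy⟩ : Q))
    rw [L.cardQ] at this
    exact congrArg Subtype.val this
  have hxW : ∀ w ∈ A ⊓ Q, x * w = w * x := by
    intro w hw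
    obtain ⟨hwA, hwQ⟩ := mem_inf.1 hw
    have h1 : x * w * x⁻¹ * w⁻¹ = 1 := by
      apply hQ1
      · exact mul_mem (hnor w hwQ) (inv_mem hwQ)
      · have h2 := hAU w hwA x⁻¹ (inv_mem hxU)
        have e : x * w * x⁻¹ * w⁻¹ = x * (w * x⁻¹ * w⁻¹) := by group
        rw [e]
        exact mul_mem hxU h2
    rw [mul_inv_eq_one, mul_inv_eq_iff_eq_mul] at h1
    exact h1
  apply hQ1 x _ hxU
  refine L.mem_Q (W := A ⊓ Q) inf_le_right
    (fun x hx y hy => hA.comm x (mem_inf.1 hx).1 y (mem_inf.1 hy).1) (L.card_inf hA hAS) ?_ hxZ hxW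
  intro h3
  apply hU
  have : orderOf x ∣ Nat.card U := by
    have := orderOf_dvd_natCard (⟨x, hxU⟩ : U)
    rwa [Subgroup.orderOf_mk] at this
  exact h3.trans this

/-- **(P)**: `J` normalises no nontrivial 3'-subgroup -/
theorem JDat.no_prime (D : JDat J M π) {S Z Q : Subgroup G} (L : Loc S Z Q)
    (hn : ¬ 3 ^ 7 ∣ Nat.card G) {U : Subgroup G} (hU : ¬ 3 ∣ Nat.card U)
    (hJU : ∀ j ∈ J, ∀ u ∈ U, j * u * j⁻¹ ∈ U) : U = ⊥ := by
  have := Fact.mk Nat.prime_three
  have hEA : Cfsg.IsElementaryAbelian 3 J :=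
    ⟨⟨⟨fun a b => Subtype.ext (D.e81.comm a a.2 b b.2)⟩⟩, D.e81.cube⟩
  have hJ1 : J ≠ ⊥ := by
    rintro rfl
    have := D.e81.card
    rw [Subgroup.card_bot] at this
    omega
  have hJN : J ≤ normalizer (U : Set G) := by
    intro j hj
    rw [mem_normalizer_iff]
    intro u
    constructor
    · exact hJU j hj u
    · intro h
      have := hJU j⁻¹ (inv_mem hj) _ h
      have e : j⁻¹ * (j * u * j⁻¹) * j⁻¹⁻¹ = u := by group
      rwa [e] at this
  rw [← Lib.CoprimeHyperplane.iSup_centralizer_hyperplane hEA hJ1 hU hJN]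
  rw [eq_bot_iff]
  refine iSup_le ?_
  rintro ⟨B, hBJ, hB⟩
  intro x hx
  obtain ⟨hxU, hxB⟩ := mem_inf.1 hx
  have hB27 : Nat.card B = 27 := by
    have := relIndex_mul_card' B J hBJ
    rw [hB, D.e81.card] at this
    omega
  obtain ⟨g, hJg, hgM, hZB⟩ := D.exists_center_le L hn hBJ hB27
  rw [mem_bot]
  refine (L.cj g).p_prime D.e81 hJg hU hJU hxU ?_
  intro z hz
  rw [mem_centralizer_iff] at hxB
  exact (hxB z (hZB hz)).symm

end Cfsg.Agent.H846
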