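import Cfsg.Agent.H846.Core4

/-!
# 3-local recognition of `McL`: `C(J) = J`, uniqueness of `J` (helper846)
-/

set_option autoImplicit false

namespace Cfsg.Agent.H846

open Subgroup

variable {G : Type*} [Group G] [Finite G] {J M : Subgroup G} {π : M →* ASix.A6}

/-- `C_G(J) = J` -/
theorem JDat.cent (D : JDat J M π) {S Z Q : Subgroup G} (L : Loc S Z Q)
    (hn : ¬ 3 ^ 7 ∣ Nat.card G) {x : G} (hx : ∀ j ∈ J, x * j = j * x) : x ∈ J := by
  have := Fact.mk Nat.prime_three
  let C : Subgroup G := centralizer (J : Set G)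
  have hCmem : ∀ y, y ∈ C ↔ ∀ j ∈ J, y * j = j * y := by
    intro y
    rw [mem_centralizer_iff]
    exact ⟨fun h j hj => (h j hj).symm, fun h j hj => (h j hj).symm⟩
  have hJC : J ≤ C := fun j hj => (hCmem j).2 fun k hk => D.e81.comm j hj k hk
  -- 3-elements of `C` lie in `J`
  have h3 : ∀ y ∈ C, (∃ k : ℕ, y ^ 3 ^ k = 1) → y ∈ J := by
    intro y hy hk
    have hyc := (hCmem y).1 hy
    have hyM : y ∈ M := D.three y (fun j hj => by
      rw [hyc j hj, mul_assoc, mul_inv_cancel, mul_one]; exact hj) hk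
    exact D.cent_M L hn hyM hyc
  let N : Subgroup C := J.subgroupOf C
  have hNn : N.Normal := by
    constructor
    intro j hj c
    rw [mem_subgroupOf] at hj ⊢
    have := (hCmem _).1 c.2 _ hj
    simp only [Subgroup.coe_mul, Subgroup.coe_inv]
    rw [this, mul_assoc, mul_inv_cancel, mul_one]
    exact hj
  have hNc : Nat.card N = 3 ^ 4 := by
    rw [Nat.card_congr (subgroupOfEquivOfLe hJC).toEquiv, D.e81.card]; norm_num
  have hNp : IsPGroup 3 N := IsPGroup.of_card hNc
  have hNS : ∃ P : Sylow 3 C, (P : Subgroup C) = N := by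
    obtain ⟨P, hP⟩ := hNp.exists_le_sylow
    refine ⟨P, le_antisymm ?_ hP⟩
    intro y hy
    rw [mem_subgroupOf]
    obtain ⟨k, hk⟩ := P.isPGroup' ⟨y, hy⟩
    exact h3 y y.2 ⟨k, congrArg (fun z : P => ((z : C) : G)) hk⟩
  obtain ⟨P, hP⟩ := hNS
  have hidx : ¬ 3 ∣ N.index := by
    rw [← hP]
    exact P.not_dvd_index
  have hcop : Nat.Coprime (Nat.card N) N.index := by
    rw [hNc]
    exact Nat.Coprime.pow_left _ ((Nat.Prime.coprime_iff_not_dvd Nat.prime_three).2 hidx)
  obtain ⟨H, hH⟩ := Subgroup.exists_right_complement'_of_coprime hcop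
  have hHc : Nat.card H = N.index := by
    have h1 := hH.card_mul
    have h2 := Subgroup.card_mul_index N
    rw [← h2] at h1
    exact Nat.eq_of_mul_eq_mul_left Nat.card_pos h1
  have hU : ¬ 3 ∣ Nat.card (H.map C.subtype) := by
    rw [Subgroup.card_map_of_injective C.subtype_injective, hHc]
    exact hidx
  have hUb := D.no_prime L hn hU (by
    rintro j hj u ⟨u', hu', rfl⟩
    have h1 := (hCmem _).1 u'.2 j hj
    have h2 : j * (C.subtype u') * j⁻¹ = C.subtype u' := by
      rw [mul_inv_eq_iff_eq_mul]; exact h1.symm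
    rw [h2]
    exact ⟨u', hu', rfl⟩)
  have hHb : H = ⊥ := by
    rw [eq_bot_iff]
    intro y hy
    have : C.subtype y ∈ H.map C.subtype := ⟨y, hy, rfl⟩
    rw [hUb, mem_bot] at this
    rw [mem_bot]
    exact Subtype.ext this
  have hN1 : N.index = 1 := by rw [← hHc, hHb, Subgroup.card_bot]
  have hNt : N = ⊤ := Subgroup.index_eq_one.1 hN1
  have hxC : x ∈ C := (hCmem x).2 hx
  have : (⟨x, hxC⟩ : C) ∈ N := by rw [hNt]; exact mem_top _
  rwa [mem_subgroupOf] at this

/-- `J` is the only elementary abelian subgroup of order 81 of a Sylow 3-subgroup of `M` -/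
theorem JDat.unique_T (D : JDat J M π) {S Z Q : Subgroup G} (L : Loc S Z Q)
    (hn : ¬ 3 ^ 7 ∣ Nat.card G) {T : Subgroup G} (hT : Nat.card T = 3 ^ 6) (hJT : J ≤ T) (hTM : T ≤ M)
    {A : Subgroup G} (hA : IsE81 A) (hAT : A ≤ T) : A = J := by
  have h3F := Fact.mk Nat.prime_three
  by_contra hne
  have hAJ : ¬ A ≤ J := fun h => hne (Subgroup.eq_of_le_of_card_ge h (by rw [hA.card, D.e81.card]))
  obtain ⟨a, haA, haJ⟩ := Set.not_subset.1 hAJ
  have haA : a ∈ A := haA
  have haJ : a ∉ J := haJ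
  set B : Subgroup G := A ⊓ J with hB
  have hBA : ∀ b ∈ B, ∀ y ∈ A, b * y = y * b := fun b hb y hy => hA.comm b (mem_inf.1 hb).1 y hy
  have hBJ : ∀ b ∈ B, ∀ y ∈ J, b * y = y * b := fun b hb y hy => D.e81.comm b (mem_inf.1 hb).2 y hy
  obtain ⟨k, hk, hck⟩ := card_pow_of_le (n := 4) Nat.prime_three
    (inf_le_left : B ≤ A) (by rw [hA.card]; norm_num)
  have hJT9 : J.relIndex T = 9 := by
    have := relIndex_mul_card' J T hJT
    rw [D.e81.card, hT] at this
    omega
  have hrelA : J.relIndex A * Nat.card B = 81 := by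
    have h4 : B.relIndex A = J.relIndex A := Subgroup.inf_relIndex_left _ _
    have h5 := relIndex_mul_card' B A inf_le_left
    rw [h4, hA.card] at h5
    exact h5
  have hk3 : k ≤ 3 := by
    by_contra hcon
    have : k = 4 := by omega
    rw [this] at hck
    have h1 : B = A := Subgroup.eq_of_le_of_card_ge inf_le_left (by rw [hck, hA.card]; norm_num)
    apply hAJ
    rw [← h1]
    exact inf_le_right
  -- `|B| = 27`
  have hB27 : k = 3 := by
    by_contra hcon
    have hk2 : k ≤ 2 := by omega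
    let C : Subgroup G := T ⊓ centralizer (B : Set G)
    have hJC : J ≤ C := le_inf hJT fun j hj => mem_centralizer_iff.2 fun b hb => hBJ b hb j hj
    have hAC : A ≤ C := le_inf hAT fun j hj => mem_centralizer_iff.2 fun b hb => hBA b hb j hj
    obtain ⟨i, hi, hci⟩ := card_pow_of_le Nat.prime_three (inf_le_left : C ≤ T) hT
    have hi6 : i = 6 := by
      by_contra hi6
      have hi5 : i ≤ 5 := by omega
      have h1 := relIndex_mul_card' J C hJC
      rw [hci, D.e81.card] at h1
      have h2 : J.relIndex C ≤ 3 := by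
        have : 3 ^ i ≤ 3 ^ 5 := Nat.pow_le_pow_right (by norm_num) hi5
        norm_num at this
        omega
      have h3 : J.relIndex A ≤ 3 := by
        refine le_trans (Subgroup.relIndex_le_of_le_right hAC ?_) h2
        intro h0
        rw [h0] at h1
        have : 0 < 3 ^ i := by positivity
        omega
      rw [hck] at hrelA
      have h4 : (3 : ℕ) ^ k ≤ 3 ^ 2 := Nat.pow_le_pow_right (by norm_num) hk2
      have h5 : J.relIndex A * 3 ^ k ≤ 3 * 3 ^ 2 := Nat.mul_le_mul h3 h4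
      rw [hrelA] at h5
      norm_num at h5
    have hCT : C = T := Subgroup.eq_of_le_of_card_ge inf_le_left (by rw [hci, hT, hi6])
    obtain ⟨g, rfl⟩ := conj_of_card hn L.cardS hT
    have hBZ : B ≤ cj g Z := by
      intro b hb
      refine ((L.cj g).memZ b).2 ⟨hJT (mem_inf.1 hb).2, fun y hy => ?_⟩
      rw [← hCT] at hy
      exact mem_centralizer_iff.1 (mem_inf.1 hy).2 b hb
    have h1 := card_dvd_of_le hBZ
    rw [(L.cj g).cardZ] at h1
    -- `|B| ≥ 9`
    have h2 : J.relIndex A ≤ 9 := by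
      rw [← hJT9]
      exact Subgroup.relIndex_le_of_le_right hAT (by rw [hJT9]; norm_num)
    have h3 : Nat.card B ≤ 3 := Nat.le_of_dvd (by norm_num) h1
    have h4 : J.relIndex A * Nat.card B ≤ 9 * 3 := Nat.mul_le_mul h2 h3
    rw [hrelA] at h4
    norm_num at h4
  rw [hB27] at hck
  -- a partner
  have haM : a ∈ M := hTM (hAT haA)
  set x : ASix.A6 := π ⟨a, haM⟩ with hx
  have hx3 : x ^ 3 = 1 := by
    rw [hx, ← map_pow]
    have : (⟨a, haM⟩ : M) ^ 3 = 1 := Subtype.ext (hA.cube a haA)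
    rw [this, map_one]
  have hx1 : x ≠ 1 := fun h => haJ ((D.ker _).1 h)
  obtain ⟨g, hg, hgx⟩ := ASix.exists_partner hx3 hx1
  obtain ⟨m, hm⟩ := D.surj g
  set y : ASix.A6 := g * x * g⁻¹ with hy
  have hy3 : y ^ 3 = 1 := by rw [hy, conj_pow, hx3]; group
  have hym : π (m * ⟨a, haM⟩ * m⁻¹) = y := by rw [map_mul, map_mul, map_inv, hm]
  let V : Subgroup ASix.A6 := closure {x, y}
  have hVx : x ∈ V := subset_closure (by simp)
  have hVy : y ∈ V := subset_closure (by simp)
  have hVp : IsPGroup 3 V := by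
    have hcomm : ∀ u ∈ ({x, y} : Set ASix.A6), ∀ v ∈ ({x, y} : Set ASix.A6), u * v = v * u := by
      intro u hu v hv
      simp only [Set.mem_insert_iff, Set.mem_singleton_iff] at hu hv
      rcases hu with rfl | rfl <;> rcases hv with rfl | rfl
      · rfl
      · exact hg
      · exact hg.symm
      · rfl
    let _ : CommGroup V := Subgroup.closureCommGroupOfComm hcomm
    intro v
    refine ⟨1, ?_⟩
    have hker : V ≤ ((powMonoidHom 3 : V →* V).ker).map V.subtype := by
      rw [closure_le]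
      intro u hu
      have huV : u ∈ V := subset_closure hu
      refine ⟨⟨u, huV⟩, ?_, rfl⟩
      rw [SetLike.mem_coe, MonoidHom.mem_ker]
      simp only [Set.mem_insert_iff, Set.mem_singleton_iff] at hu
      change (⟨u, huV⟩ : V) ^ 3 = 1
      apply Subtype.ext
      change u ^ 3 = 1
      rcases hu with rfl | rfl
      · exact hx3
      · exact hy3
    obtain ⟨w, hw, hwv⟩ := hker v.2
    rw [SetLike.mem_coe, MonoidHom.mem_ker] at hw
    have : w = v := Subtype.ext hwv
    rw [this] at hw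
    rw [pow_one]
    exact hw
  have hVc : Nat.card V = 9 := by
    obtain ⟨i, hi⟩ := (IsPGroup.iff_card (p := 3)).1 hVp
    have h1 : Nat.card V ∣ 360 := by rw [← ASix.card]; exact card_subgroup_dvd_card _
    have hi2 : i ≤ 2 := by
      by_contra hcon
      rw [hi] at h1
      have : (3 : ℕ) ^ 3 ∣ 360 := (pow_dvd_pow 3 (by omega : 3 ≤ i)).trans h1
      omega
    have hzc : Nat.card (zpowers x) = 3 := by
      rw [Nat.card_zpowers]; exact orderOf_eq_prime hx3 hx1
    have h2 : 3 < Nat.card V := by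
      by_contra hcon
      push Not at hcon
      have : zpowers x = V := Subgroup.eq_of_le_of_card_ge (by rw [zpowers_le]; exact hVx)
        (by rw [hzc]; exact hcon)
      exact hgx (by rw [this]; exact hVy)
    rw [hi] at h2 ⊢
    interval_cases i <;> simp_all
  let R : Subgroup M := V.comap π
  have hkerp : IsPGroup 3 π.ker := by
    intro u
    refine ⟨1, Subtype.ext (Subtype.ext ?_)⟩
    have := D.e81.cube _ ((D.ker u.1).1 (MonoidHom.mem_ker.1 u.2))
    simpa using this
  have hRc : Nat.card R = 3 ^ 6 := by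
    have h1 : R.index = V.index := Subgroup.index_comap_of_surjective V D.surj
    have h2 := Subgroup.card_mul_index V
    have h3 := Subgroup.card_mul_index R
    rw [D.card_M, h1] at h3
    rw [hVc, ASix.card] at h2
    have h4 : V.index = 40 := by omega
    rw [h4] at h3
    exact Nat.eq_of_mul_eq_mul_right (by norm_num) h3
  have hT2c : Nat.card (R.map M.subtype) = 3 ^ 6 := by
    rw [Subgroup.card_map_of_injective M.subtype_injective, hRc]
  obtain ⟨g2, hg2⟩ := conj_of_card hn L.cardS hT2c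
  have L2 := L.cj g2
  have hJR : J ≤ cj g2 S := by
    rw [← hg2]
    intro j hj
    refine ⟨⟨j, D.JM hj⟩, ?_, rfl⟩
    rw [SetLike.mem_coe, mem_comap, (D.ker _).2 hj]
    exact one_mem _
  -- `B ∩ mBm⁻¹` is centralised by `R`
  have hBB : B ⊓ cj (m : G) B ≤ cj g2 Z := by
    intro b hb
    obtain ⟨hb1, hb2⟩ := mem_inf.1 hb
    have hbJ : b ∈ J := (mem_inf.1 hb1).2
    refine (L2.memZ b).2 ⟨hJR hbJ, ?_⟩
    rw [← hg2]
    rintro _ ⟨r, hr, rfl⟩
    have hr' : π r ∈ V := hr
    let K : Subgroup M := (centralizer {b}).subgroupOf M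
    have hK : ∀ u : M, u ∈ K ↔ b * (u : G) = u * b := by
      intro u
      rw [mem_subgroupOf, mem_centralizer_singleton_iff]
      exact ⟨fun h => h.symm, fun h => h.symm⟩
    have haK : (⟨a, haM⟩ : M) ∈ K := (hK _).2 (hBA b hb1 a haA)
    have hmK : m * ⟨a, haM⟩ * m⁻¹ ∈ K := by
      rw [hK]
      rw [mem_cj] at hb2
      have h1 := hBA _ hb2 a haA
      simp only [Subgroup.coe_mul, Subgroup.coe_inv]
      have e1 : b * ((m : G) * a * (m : G)⁻¹) = m * (((m : G)⁻¹ * b * m) * a) * (m : G)⁻¹ := by group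
      have e2 : (m : G) * a * (m : G)⁻¹ * b = m * (a * ((m : G)⁻¹ * b * m)) * (m : G)⁻¹ := by group
      rw [e1, e2, h1]
    have hVK : V ≤ K.map π := by
      rw [closure_le]
      intro u hu
      simp only [Set.mem_insert_iff, Set.mem_singleton_iff] at hu
      rcases hu with rfl | rfl
      · exact ⟨_, haK, hx.symm⟩
      · exact ⟨_, hmK, hym⟩
    obtain ⟨c, hcK, hc⟩ := hVK hr'
    have h1 : π (c⁻¹ * r) = 1 := by rw [map_mul, map_inv, hc]; group
    rw [D.ker] at h1
    have h2 : c⁻¹ * r ∈ K := (hK _).2 (hBJ b hb1 _ h1)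
    have h3 : r ∈ K := by
      have := mul_mem hcK h2
      rwa [mul_inv_cancel_left] at this
    exact (hK r).1 h3
  -- but it has order at least 9
  have hBJle : B ≤ J := inf_le_right
  have hBJ' : cj (m : G) B ≤ J := by
    rintro u ⟨b, hb, rfl⟩
    exact D.conj_mem m.2 (hBJle hb)
  have hrel : ∀ W : Subgroup G, W ≤ J → Nat.card W = 27 → W.relIndex J = 3 := by
    intro W hW hWc
    have := relIndex_mul_card' W J hW
    rw [hWc, D.e81.card] at this
    omega
  have hB27' : Nat.card B = 27 := by rw [hck]; norm_num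
  have h5 := Subgroup.relIndex_inf_le (H := B) (K := cj (m : G) B) (L := J)
  rw [hrel B hBJle hB27', hrel _ hBJ' (by rw [card_cj, hB27'])] at h5
  have h6 := relIndex_mul_card' (B ⊓ cj (m : G) B) J (inf_le_left.trans hBJle)
  rw [D.e81.card] at h6
  have h7 : Nat.card (B ⊓ cj (m : G) B : Subgroup G) ≤ 3 := by
    have := card_dvd_of_le hBB
    rw [L2.cardZ] at this
    exact Nat.le_of_dvd (by norm_num) this
  have h8 : (B ⊓ cj (m : G) B).relIndex J * Nat.card (B ⊓ cj (m : G) B : Subgroup G) ≤ (3 * 3) * 3 :=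
    Nat.mul_le_mul h5 h7
  rw [h6] at h8
  norm_num at h8

theorem cj_inv_le {g : G} {H K : Subgroup G} (h : H ≤ cj g K) : cj g⁻¹ H ≤ K := by
  have := cj_le_cj g⁻¹ h
  rwa [cj_cj, inv_mul_cancel, cj_one] at this

theorem cj_inv_eq {g : G} {H K : Subgroup G} (h : cj g⁻¹ H = K) : H = cj g K := by
  rw [← h, cj_cj, mul_inv_cancel, cj_one]

/-- all elementary abelian subgroups of order 81 are conjugate -/
theorem JDat.exists_conj_e81 (D : JDat J M π) {S Z Q : Subgroup G} (L : Loc S Z Q)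
    (hn : ¬ 3 ^ 7 ∣ Nat.card G) {A : Subgroup G} (hA : IsE81 A) : ∃ g : G, A = cj g J := by
  obtain ⟨T, hT, hJT, hTM⟩ := D.exists_T
  obtain ⟨g, hg⟩ := le_conj_of_isPGroup hn hT hA.isPGroup
  exact ⟨g, cj_inv_eq (D.unique_T L hn hT hJT hTM (hA.cj g⁻¹) (cj_inv_le hg))⟩

/-- subgroups of order `3^6` containing `J` lie in `M` -/
theorem JDat.le_M (D : JDat J M π) {S Z Q : Subgroup G} (L : Loc S Z Q)
    (hn : ¬ 3 ^ 7 ∣ Nat.card G) {T : Subgroup G} (hT : Nat.card T = 3 ^ 6) (hJT : J ≤ T) : T ≤ M := by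
  obtain ⟨T₀, hT₀, hJT₀, hTM₀⟩ := D.exists_T
  obtain ⟨g, rfl⟩ := conj_of_card hn hT₀ hT
  have h1 : J = cj g J :=
    cj_inv_eq (D.unique_T L hn hT₀ hJT₀ hTM₀ (D.e81.cj g⁻¹) (cj_inv_le hJT))
  rintro x ⟨t, ht, rfl⟩
  refine D.norm g (fun j hj => ?_) t (hTM₀ ht)
  rw [h1]
  exact mem_cj_of hj

end Cfsg.Agent.H846
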