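import Cfsg.Agent.H846.Core5

/-!
# 3-local recognition of `McL`: the central elements of `J` (helper846)
-/

set_option autoImplicit false

namespace Cfsg.Agent.H846

open Subgroup

variable {G : Type*} [Group G] [Finite G] {J M : Subgroup G} {π : M →* ASix.A6}

/-- the nontrivial elements of `A` that are central in some subgroup of order `3^6` containing `A` -/
def XSet (A : Subgroup G) : Set G :=
  {x | x ∈ A ∧ x ≠ 1 ∧ ∃ T : Subgroup G, Nat.card T = 3 ^ 6 ∧ A ≤ T ∧ ∀ t ∈ T, t * x = x * t}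

omit [Finite G] in
theorem XSet.conj {A : Subgroup G} {n : G} {x : G} (hx : x ∈ XSet A) :
    n * x * n⁻¹ ∈ XSet (cj n A) := by
  obtain ⟨hxA, hx1, T, hT, hAT, hTx⟩ := hx
  refine ⟨mem_cj_of hxA, ?_, cj n T, by rw [card_cj, hT], cj_le_cj n hAT, ?_⟩
  · intro h
    apply hx1
    have : x = n⁻¹ * (n * x * n⁻¹) * n := by group
    rw [this, h]; group
  · intro t ht
    rw [mem_cj] at ht
    have h1 := hTx _ ht
    have e1 : t * (n * x * n⁻¹) = n * ((n⁻¹ * t * n) * x) * n⁻¹ := by group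
    have e2 : n * x * n⁻¹ * t = n * (x * (n⁻¹ * t * n)) * n⁻¹ := by group
    rw [e1, e2, h1]

theorem cj_eq_of_normalizes {A : Subgroup G} {n : G} (hn : ∀ a ∈ A, n * a * n⁻¹ ∈ A) : cj n A = A := by
  apply Subgroup.eq_of_le_of_card_ge
  · rintro x ⟨a, ha, rfl⟩
    exact hn a ha
  · rw [card_cj]

theorem XSet.conj_mem {A : Subgroup G} {n : G} (hn : ∀ a ∈ A, n * a * n⁻¹ ∈ A) {x : G} (hx : x ∈ XSet A) :
    n * x * n⁻¹ ∈ XSet A := by
  have := XSet.conj (n := n) hx
  rwa [cj_eq_of_normalizes hn] at this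

/-- a nontrivial element central in a subgroup of order `3^6` generates a conjugate of `Z` -/
theorem Loc.zpowers_eq {S Z Q : Subgroup G} (L : Loc S Z Q) (hn : ¬ 3 ^ 7 ∣ Nat.card G) {T : Subgroup G}
    (hT : Nat.card T = 3 ^ 6) {x : G} (hxT : x ∈ T) (hx1 : x ≠ 1) (hc : ∀ t ∈ T, t * x = x * t) :
    ∃ g : G, T = H846.cj g S ∧ zpowers x = H846.cj g Z := by
  obtain ⟨g, rfl⟩ := conj_of_card hn L.cardS hT
  refine ⟨g, rfl, ?_⟩
  have L' := L.cj g
  have hwZ : x ∈ H846.cj g Z := (L'.memZ x).2 ⟨hxT, fun y hy => (hc y hy).symm⟩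
  apply Subgroup.eq_of_le_of_card_ge ((zpowers_le (H := H846.cj g Z)).2 hwZ)
  rw [L'.cardZ]
  have h1 : Nat.card (zpowers x) ∣ 3 := by
    rw [← L'.cardZ]; exact card_dvd_of_le ((zpowers_le (H := H846.cj g Z)).2 hwZ)
  rcases (Nat.dvd_prime Nat.prime_three).1 h1 with h | h
  · exfalso
    apply hx1
    rw [Subgroup.card_eq_one, zpowers_eq_bot] at h
    exact h
  · exact h.ge

/-- `X` is nonempty -/
theorem JDat.xset_nonempty (D : JDat J M π) {S Z Q : Subgroup G} (L : Loc S Z Q)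
    (hn : ¬ 3 ^ 7 ∣ Nat.card G) : (XSet J).Nonempty := by
  obtain ⟨T, hT, hJT, hTM⟩ := D.exists_T
  obtain ⟨g, rfl⟩ := conj_of_card hn L.cardS hT
  have L' := L.cj g
  have hne : cj g Z ≠ ⊥ := by
    intro h
    have := L'.cardZ
    rw [h, Subgroup.card_bot] at this
    omega
  obtain ⟨z, hz, hz1⟩ : ∃ z ∈ cj g Z, z ≠ 1 := by
    by_contra hno
    push Not at hno
    exact hne ((Subgroup.eq_bot_iff_forall _).2 hno)
  obtain ⟨hzS, hzc⟩ := (L'.memZ z).1 hz
  exact ⟨z, D.cent L hn fun j hj => hzc j (hJT hj), hz1, _, hT, hJT, fun t ht => (hzc t ht).symm⟩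

/-- the number of elements of `X` divides 20 -/
theorem JDat.ncard_xset (D : JDat J M π) {S Z Q : Subgroup G} (L : Loc S Z Q)
    (hn : ¬ 3 ^ 7 ∣ Nat.card G) : (XSet J).ncard ∣ 20 := by
  classical
  have h3F := Fact.mk Nat.prime_three
  obtain ⟨x₀, hx₀⟩ := D.xset_nonempty L hn
  -- subgroups generated by elements of `X`
  let Θ : Set (Subgroup G) := {W | ∃ x ∈ XSet J, W = zpowers x}
  have hord : ∀ x ∈ XSet J, orderOf x = 3 := by
    rintro x ⟨hxJ, hx1, -⟩
    exact orderOf_eq_prime (D.e81.cube x hxJ) hx1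
  have hmemX : ∀ x ∈ XSet J, ∀ y ∈ zpowers x, y ≠ 1 → y ∈ XSet J := by
    rintro x ⟨hxJ, hx1, T, hT, hJT, hTx⟩ y hy hy1
    refine ⟨(zpowers_le (H := J)).2 hxJ hy, hy1, T, hT, hJT, ?_⟩
    intro t ht
    obtain ⟨k, rfl⟩ := mem_zpowers_iff.1 hy
    exact ((show Commute t x from hTx t ht).zpow_right k).eq
  have hgen : ∀ x ∈ XSet J, ∀ y ∈ zpowers x, y ≠ 1 → zpowers y = zpowers x := by
    intro x hx y hy hy1
    apply Subgroup.eq_of_le_of_card_ge (zpowers_le.2 hy)
    rw [Nat.card_zpowers, Nat.card_zpowers, hord x hx, hord y (hmemX x hx y hy hy1)]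
  -- `|X| = 2 |Θ|`
  have hXΘ : (XSet J).ncard = Θ.ncard * 2 := by
    let f : XSet J → Θ := fun x => ⟨zpowers (x : G), x, x.2, rfl⟩
    have h1 : Nat.card (XSet J) = Nat.card (Σ W : Θ, {x : XSet J // f x = W}) :=
      Nat.card_congr (Equiv.sigmaFiberEquiv f).symm
    have h2 : ∀ W : Θ, Nat.card {x : XSet J // f x = W} = 2 := by
      rintro ⟨W, x, hx, rfl⟩
      have e : {y : XSet J // f y = ⟨zpowers x, x, hx, rfl⟩} ≃ {y : G // y ∈ (zpowers x : Subgroup G) ∧ y ≠ 1} :=
        { toFun := fun y => ⟨y.1.1, by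
            have : zpowers (y.1 : G) = zpowers x := congrArg Subtype.val y.2
            exact this.le (mem_zpowers (y.1 : G)), y.1.2.2.1⟩
          invFun := fun y => ⟨⟨y.1, hmemX x hx y.1 y.2.1 y.2.2⟩, Subtype.ext (hgen x hx y.1 y.2.1 y.2.2)⟩
          left_inv := fun y => rfl
          right_inv := fun y => rfl }
      rw [Nat.card_congr e]
      have h3 : Nat.card (zpowers x) = 3 := by rw [Nat.card_zpowers]; exact hord x hx
      have h4 : ({y : G | y ∈ (zpowers x : Subgroup G) ∧ y ≠ 1}) = ((zpowers x : Subgroup G) : Set G) \ {1} := by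
        ext y; simp
      have h5 : Nat.card {y : G // y ∈ (zpowers x : Subgroup G) ∧ y ≠ 1} =
        (((zpowers x : Subgroup G) : Set G) \ {1}).ncard := by rw [← h4]; rfl
      rw [h5, Set.ncard_sdiff_singleton_of_mem (one_mem _)]
      have h6 : ((zpowers x : Subgroup G) : Set G).ncard = 3 := h3
      rw [h6]
    have h3 : Nat.card (Σ W : Θ, {x : XSet J // f x = W}) = Nat.card Θ * 2 := by
      have : Fintype Θ := Fintype.ofFinite _
      rw [Nat.card_sigma]
      simp only [h2]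
      simp
    calc (XSet J).ncard = Nat.card (XSet J) := rfl
      _ = Nat.card Θ * 2 := by rw [h1, h3]
      _ = Θ.ncard * 2 := rfl
  -- `Θ` is an orbit of `M`
  let W₀ : Subgroup G := zpowers x₀
  have hΘ : Θ = {W | ∃ m ∈ M, W = cj m W₀} := by
    ext W
    constructor
    · rintro ⟨x, hx, rfl⟩
      obtain ⟨hxJ, hx1, T, hT, hJT, hTx⟩ := hx
      obtain ⟨hx₀J, hx₀1, T₀, hT₀, hJT₀, hTx₀⟩ := hx₀
      have hTM := D.le_M L hn hT hJT
      have hTM₀ := D.le_M L hn hT₀ hJT₀
      -- conjugate in `M`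
      have hMn : ¬ 3 ^ 7 ∣ Nat.card M := fun h => hn (h.trans (card_subgroup_dvd_card M))
      obtain ⟨m, hm⟩ := conj_of_card hMn (S := T₀.subgroupOf M) (T := T.subgroupOf M)
        (by rw [Nat.card_congr (subgroupOfEquivOfLe hTM₀).toEquiv, hT₀])
        (by rw [Nat.card_congr (subgroupOfEquivOfLe hTM).toEquiv, hT])
      have hm' : T = cj (m : G) T₀ := by
        have h1 := congrArg (Subgroup.map M.subtype) hm
        rw [subgroupOf_map_subtype, inf_eq_left.2 hTM] at h1
        rw [h1]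
        ext y
        constructor
        · rintro ⟨_, ⟨t, ht, rfl⟩, rfl⟩
          exact ⟨t, mem_subgroupOf.1 ht, rfl⟩
        · rintro ⟨t, ht, rfl⟩
          exact ⟨m * ⟨t, hTM₀ ht⟩ * m⁻¹, ⟨⟨t, hTM₀ ht⟩, mem_subgroupOf.2 ht, rfl⟩, rfl⟩
      refine ⟨m, m.2, ?_⟩
      -- both are the centre of `T`
      obtain ⟨g, hg, hgx⟩ := L.zpowers_eq hn hT (hJT hxJ) hx1 hTx
      have hx0' : (m : G) * x₀ * (m : G)⁻¹ ∈ cj g Z := by
        rw [(L.cj g).memZ, ← hg, hm']
        refine ⟨mem_cj_of (hJT₀ hx₀J), fun y hy => ?_⟩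
        rw [mem_cj] at hy
        have h1 := hTx₀ _ hy
        have e1 : y * (m * x₀ * (m : G)⁻¹) = m * (((m : G)⁻¹ * y * m) * x₀) * (m : G)⁻¹ := by group
        have e2 : m * x₀ * (m : G)⁻¹ * y = m * (x₀ * ((m : G)⁻¹ * y * m)) * (m : G)⁻¹ := by group
        rw [e1, e2, h1]
      rw [hgx]
      symm
      apply Subgroup.eq_of_le_of_card_ge
      · rintro y ⟨w, hw, rfl⟩
        obtain ⟨k, rfl⟩ := mem_zpowers_iff.1 hw
        have : (MulAut.conj (m : G)).toMonoidHom (x₀ ^ k) = ((m : G) * x₀ * (m : G)⁻¹) ^ k := by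
          rw [map_zpow]; rfl
        rw [this]
        exact zpow_mem hx0' k
      · rw [(L.cj g).cardZ, card_cj, Nat.card_zpowers, orderOf_eq_prime (D.e81.cube x₀ hx₀J) hx₀1]
    · rintro ⟨m, hm, rfl⟩
      refine ⟨m * x₀ * m⁻¹, XSet.conj_mem (fun j hj => D.conj_mem hm hj) hx₀, ?_⟩
      change (zpowers x₀).map (MulAut.conj m).toMonoidHom = _
      rw [MonoidHom.map_zpowers]
      rfl
  -- orbit-stabiliser
  let N : Subgroup M :=
    { carrier := {m | ∀ w ∈ W₀, (m : G) * w * (m : G)⁻¹ ∈ W₀}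
      one_mem' := fun w hw => by simpa using hw
      mul_mem' := by
        intro a b ha hb w hw
        have := ha _ (hb w hw)
        have e : (a : G) * (b * w * (b : G)⁻¹) * (a : G)⁻¹ = ((a * b : M) : G) * w * ((a * b : M) : G)⁻¹ := by
          simp only [Subgroup.coe_mul]; group
        rwa [e] at this
      inv_mem' := by
        intro a ha w hw
        have h1 : cj (a : G) W₀ = W₀ := cj_eq_of_normalizes ha
        rw [← h1, mem_cj] at hw
        simpa using hw }
  have hNmem : ∀ m : M, m ∈ N ↔ cj (m : G) W₀ = W₀ := by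
    intro m
    constructor
    · intro h; exact cj_eq_of_normalizes h
    · intro h w hw
      have := mem_cj_of (g := (m : G)) hw
      rwa [h] at this
  have hΘc : Θ.ncard = N.index := by
    rw [hΘ, Subgroup.index]
    change Nat.card {W : Subgroup G | ∃ m ∈ M, W = cj m W₀} = _
    refine (Nat.card_congr (Equiv.ofBijective (fun q : M ⧸ N => Quotient.liftOn' q
        (fun m : M => (⟨cj (m : G) W₀, m, m.2, rfl⟩ : {W : Subgroup G | ∃ m ∈ M, W = cj m W₀})) ?_) ⟨?_, ?_⟩)).symm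
    · intro a b hab
      rw [QuotientGroup.leftRel_apply] at hab
      apply Subtype.ext
      change cj (a : G) W₀ = cj (b : G) W₀
      have h1 := (hNmem _).1 hab
      have h2 := congrArg (cj (a : G)) h1
      rw [cj_cj] at h2
      rw [← h2]
      congr 1
      simp only [Subgroup.coe_mul, Subgroup.coe_inv]
      group
    · intro q r
      refine Quotient.inductionOn₂' q r ?_
      intro a b h
      have h1 : cj (a : G) W₀ = cj (b : G) W₀ := congrArg Subtype.val h
      apply Quotient.sound'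
      rw [QuotientGroup.leftRel_apply, hNmem]
      have h2 := congrArg (cj (a : G)⁻¹) h1
      rw [cj_cj, cj_cj, inv_mul_cancel, cj_one] at h2
      exact h2.symm
    · rintro ⟨W, m, hm, rfl⟩
      exact ⟨Quotient.mk'' ⟨m, hm⟩, rfl⟩
  -- the normaliser of `T₀` in `M`
  have hN36 : 3 ^ 4 * 36 ∣ Nat.card N := by
    obtain ⟨hx₀J, hx₀1, T₀, hT₀, hJT₀, hTx₀⟩ := hx₀
    have hTM₀ := D.le_M L hn hT₀ hJT₀
    -- the image of `T₀` in `A_6`
    let P₁ : Subgroup ASix.A6 := (T₀.subgroupOf M).map π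
    have hkerle : π.ker ≤ T₀.subgroupOf M := by
      intro u hu
      rw [mem_subgroupOf]
      exact hJT₀ ((D.ker u).1 (MonoidHom.mem_ker.1 hu))
    have hPp : IsPGroup 3 P₁ := by
      have : IsPGroup 3 (T₀.subgroupOf M) := IsPGroup.of_card (n := 6)
        (by rw [Nat.card_congr (subgroupOfEquivOfLe hTM₀).toEquiv, hT₀])
      exact this.map π
    obtain ⟨P, hP⟩ := hPp.exists_le_sylow
    have hP₁ : (P : Subgroup ASix.A6) = P₁ := by
      have h1 : P₁.comap π = T₀.subgroupOf M := by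
        rw [Subgroup.comap_map_eq, sup_eq_left.2 hkerle]
      have h2 : P₁.index = (T₀.subgroupOf M).index := by
        rw [← h1, Subgroup.index_comap_of_surjective _ D.surj]
      have h3 := Subgroup.card_mul_index (T₀.subgroupOf M)
      rw [Nat.card_congr (subgroupOfEquivOfLe hTM₀).toEquiv, hT₀, D.card_M] at h3
      have h4 : (T₀.subgroupOf M).index = 40 := Nat.eq_of_mul_eq_mul_left (by norm_num) h3
      have h5 := Subgroup.card_mul_index P₁
      rw [h2, h4, ASix.card] at h5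
      have h6 : Nat.card P₁ = 9 := by omega
      exact (Subgroup.eq_of_le_of_card_ge hP (by
        change Nat.card P ≤ _
        rw [ASix.card_sylow P, h6])).symm
    have h36 := ASix.dvd_normalizer P
    rw [hP₁] at h36
    -- preimage of the normaliser
    have hle : (normalizer (P₁ : Set ASix.A6)).comap π ≤ N := by
      intro u hu
      rw [mem_comap, mem_normalizer_iff] at hu
      rw [hNmem]
      -- `u` normalises `T₀`
      have h1 : cj (u : G) T₀ = T₀ := by
        apply cj_eq_of_normalizes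
        intro t ht
        have h2 : π ⟨t, hTM₀ ht⟩ ∈ P₁ := ⟨⟨t, hTM₀ ht⟩, mem_subgroupOf.2 ht, rfl⟩
        have h3 := (hu _).1 h2
        rw [← map_inv, ← map_mul, ← map_mul] at h3
        obtain ⟨t', ht', htt⟩ := h3
        have h4 : π (t'⁻¹ * (u * ⟨t, hTM₀ ht⟩ * u⁻¹)) = 1 := by
          rw [map_mul, map_inv, htt]; group
        rw [D.ker] at h4
        have h5 := mul_mem (mem_subgroupOf.1 ht') (hJT₀ h4)
        have e : (t' : G) * ((t'⁻¹ * (u * ⟨t, hTM₀ ht⟩ * u⁻¹) : M) : G) = (u : G) * t * (u : G)⁻¹ := by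
          simp only [Subgroup.coe_mul, Subgroup.coe_inv]; group
        rwa [e] at h5
      obtain ⟨g, hg, hgx⟩ := L.zpowers_eq hn hT₀ (hJT₀ hx₀J) hx₀1 hTx₀
      change cj (u : G) (zpowers x₀) = zpowers x₀
      apply cj_eq_of_normalizes
      intro w hw
      rw [hgx] at hw ⊢
      rw [(L.cj g).memZ, ← hg] at hw ⊢
      obtain ⟨hw1, hw2⟩ := hw
      refine ⟨?_, fun y hy => ?_⟩
      · rw [← h1]; exact mem_cj_of hw1
      · rw [← h1, mem_cj] at hy
        have h3 := hw2 _ hy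
        have e1 : (u : G) * w * (u : G)⁻¹ * y = u * (w * ((u : G)⁻¹ * y * u)) * (u : G)⁻¹ := by group
        have e2 : y * ((u : G) * w * (u : G)⁻¹) = u * (((u : G)⁻¹ * y * u) * w) * (u : G)⁻¹ := by group
        rw [e1, e2, h3]
    refine dvd_trans ?_ (card_dvd_of_le hle)
    have h1 := Subgroup.card_mul_index ((normalizer (P₁ : Set ASix.A6)).comap π)
    rw [Subgroup.index_comap_of_surjective _ D.surj, D.card_M] at h1
    have h2 := Subgroup.card_mul_index (normalizer (P₁ : Set ASix.A6))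
    rw [ASix.card] at h2
    have h3 : 3 ^ 4 * Nat.card (normalizer (P₁ : Set ASix.A6)) =
      Nat.card ((normalizer (P₁ : Set ASix.A6)).comap π) := by
      have hpos : 0 < (normalizer (P₁ : Set ASix.A6)).index :=
        Nat.pos_of_ne_zero (by intro h; rw [h] at h2; omega)
      apply Nat.eq_of_mul_eq_mul_right hpos
      rw [h1, mul_assoc, h2]
      norm_num
    rw [← h3]
    exact Nat.mul_dvd_mul_left _ h36
  have h1 := Subgroup.card_mul_index N
  rw [D.card_M] at h1
  obtain ⟨c, hc⟩ := hN36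
  rw [hc] at h1
  have h2 : c * N.index = 10 := by
    have h3 : 3 ^ 4 * 36 * (c * N.index) = 3 ^ 4 * 36 * 10 := by
      rw [← mul_assoc, h1]; norm_num
    exact Nat.eq_of_mul_eq_mul_left (by norm_num) h3
  rw [hXΘ, hΘc]
  have h3 : N.index ∣ 10 := ⟨c, by rw [← h2, mul_comm]⟩
  have := Nat.mul_dvd_mul_right h3 2
  exact this

end Cfsg.Agent.H846
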