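import Cfsg.Agent.H846.Core6

/-!
# 3-local recognition of `McL`: the simple normal subgroup (helper846)
-/

set_option autoImplicit false

namespace Cfsg.Agent.H846

open Subgroup

variable {G : Type*} [Group G] [Finite G] {J M : Subgroup G} {π : M →* ASix.A6}

/-- the centre is in a subgroup normalised by `S` that meets `S` nontrivially -/
theorem Loc.Z_le_of_normalized {S Z Q : Subgroup G} (L : Loc S Z Q) {N : Subgroup G}
    (hN : ∀ s ∈ S, ∀ n ∈ N, s * n * s⁻¹ ∈ N) (hNS : N ⊓ S ≠ ⊥) : Z ≤ N := by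
  have h3F := Fact.mk Nat.prime_three
  have hSp : IsPGroup 3 S := IsPGroup.of_card L.cardS
  obtain ⟨w, hw, hw1, hwS⟩ := Cfsg.Agent.Characters.CNBasic.exists_mem_center_of_normal S hSp (N ⊓ S)
    (hSp.to_le inf_le_right) hNS (by
      rintro t ht d hd
      exact mem_inf.2 ⟨hN t ht d (mem_inf.1 hd).1, mul_mem (mul_mem ht (mem_inf.1 hd).2) (inv_mem ht)⟩)
  have hwZ : w ∈ Z := (L.memZ w).2 ⟨(mem_inf.1 hw).2, fun y hy => (hwS y hy).symm⟩
  have hz : zpowers w = Z := by
    apply Subgroup.eq_of_le_of_card_ge (zpowers_le.2 hwZ)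
    rw [L.cardZ]
    have h1 : Nat.card (zpowers w) ∣ 3 := by
      rw [← L.cardZ]; exact card_dvd_of_le (zpowers_le.2 hwZ)
    rcases (Nat.dvd_prime Nat.prime_three).1 h1 with h | h
    · exfalso
      apply hw1
      rw [Subgroup.card_eq_one, zpowers_eq_bot] at h
      exact h
    · exact h.ge
  rw [← hz, zpowers_le]
  exact (mem_inf.1 hw).1

/-- a subgroup of order divisible by 3 normalised by `S` meets `S` nontrivially -/
theorem inf_ne_bot {S N : Subgroup G} (hS : Nat.card S = 3 ^ 6) (hn : ¬ 3 ^ 7 ∣ Nat.card G)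
    (hN : ∀ s ∈ S, ∀ n ∈ N, s * n * s⁻¹ ∈ N) (h3 : 3 ∣ Nat.card N) : N ⊓ S ≠ ⊥ := by
  have h3F := Fact.mk Nat.prime_three
  intro hbot
  -- `N S` would have order divisible by `3^7`
  have hSN : S ≤ normalizer (N : Set G) := by
    intro s hs
    rw [mem_normalizer_iff]
    intro n
    constructor
    · exact hN s hs n
    · intro h
      have := hN s⁻¹ (inv_mem hs) _ h
      have e : s⁻¹ * (s * n * s⁻¹) * s⁻¹⁻¹ = n := by group
      rwa [e] at this
  let R : Subgroup G := normalizer (N : Set G)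
  have hNR : N ≤ R := le_normalizer
  let N' : Subgroup R := N.subgroupOf R
  let S' : Subgroup R := S.subgroupOf R
  have hN'n : N'.Normal := Subgroup.normal_in_normalizer
  have hcN : Nat.card N' = Nat.card N := Nat.card_congr (subgroupOfEquivOfLe hNR).toEquiv
  have hcS : Nat.card S' = 3 ^ 6 := by
    rw [Nat.card_congr (subgroupOfEquivOfLe hSN).toEquiv, hS]
  have hinj : Function.Injective ((QuotientGroup.mk' N').comp S'.subtype) := by
    rw [injective_iff_map_eq_one]
    intro s hs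
    have h1 : ((s : R) : R ⧸ N') = 1 := hs
    rw [QuotientGroup.eq_one_iff, mem_subgroupOf] at h1
    have h2 : ((s : R) : G) ∈ N ⊓ S := mem_inf.2 ⟨h1, mem_subgroupOf.1 s.2⟩
    rw [hbot, mem_bot] at h2
    exact Subtype.ext (Subtype.ext h2)
  have h1 : 3 ^ 6 ∣ Nat.card (R ⧸ N') := by
    rw [← hcS]
    have h2 : Nat.card (((QuotientGroup.mk' N').comp S'.subtype).range) = Nat.card S' :=
      (Nat.card_congr (MonoidHom.ofInjective hinj).toEquiv).symm
    rw [← h2]
    exact card_subgroup_dvd_card _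
  have h2 := Subgroup.card_eq_card_quotient_mul_card_subgroup N'
  apply hn
  have h4 : 3 ^ 7 ∣ Nat.card R := by
    rw [h2, hcN]
    have : (3 : ℕ) ^ 7 = 3 ^ 6 * 3 := by norm_num
    rw [this]
    exact Nat.mul_dvd_mul h1 h3
  exact h4.trans (card_subgroup_dvd_card R)

/-- elements of order 5 centralising `Z` fix exactly `Z` in `Q` -/
theorem Loc.five_fix {S Z Q : Subgroup G} (L : Loc S Z Q) {h : G} (h5 : h ^ 5 = 1) (h1 : h ≠ 1)
    (hz : ∀ z ∈ Z, h * z = z * h) {q : G} (hq : q ∈ Q) (hc : h * q = q * h) : q ∈ Z := by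
  have hnor : ∀ q ∈ Q, h * q * h⁻¹ ∈ Q := L.nor h (fun z hz' => by
    rw [hz z hz', mul_assoc, mul_inv_cancel, mul_one]; exact hz')
  have hmod := card_modEq_fix (by norm_num : Nat.Prime 5) h5 Q hnor
  obtain ⟨k, hk, hck⟩ := card_pow_of_le (n := 5) Nat.prime_three
    (inf_le_left : (Q ⊓ centralizer {h} : Subgroup G) ≤ Q) L.cardQ
  rw [L.cardQ, hck] at hmod
  have hmod' : 3 ^ 5 % 5 = 3 ^ k % 5 := hmod
  have hk' : k = 1 ∨ k = 5 := by
    interval_cases k <;> simp_all
  have hZle : Z ≤ Q ⊓ centralizer {h} := fun z hz' =>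
    mem_inf.2 ⟨L.Z_le_Q hz', mem_centralizer_singleton_iff.2 (hz z hz').symm⟩
  rcases hk' with rfl | rfl
  · have : Z = Q ⊓ centralizer {h} := Subgroup.eq_of_le_of_card_ge hZle (by rw [hck, L.cardZ]; norm_num)
    rw [this]
    exact mem_inf.2 ⟨hq, mem_centralizer_singleton_iff.2 hc.symm⟩
  · exfalso
    have heq : (Q ⊓ centralizer {h} : Subgroup G) = Q :=
      Subgroup.eq_of_le_of_card_ge inf_le_left (by rw [hck, L.cardQ])
    have hmQ : h ∈ Q := L.cenQ h (fun j hj => by
      rw [← heq] at hj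
      exact (mem_centralizer_singleton_iff.1 (mem_inf.1 hj).2).symm)
    have h3 : orderOf h ∣ 3 ^ 5 := by
      have := orderOf_dvd_natCard (⟨h, hmQ⟩ : Q)
      rwa [Subgroup.orderOf_mk, L.cardQ] at this
    have h4 : orderOf h = 1 := Nat.eq_one_of_dvd_coprimes (by norm_num : Nat.Coprime (3 ^ 5) 5) h3
      (orderOf_dvd_of_pow_eq_one h5)
    exact h1 (orderOf_eq_one_iff.1 h4)

/-- **(N1)** a normal subgroup of order divisible by 3 contains `S` -/
theorem JDat.S_le (D : JDat J M π) {S Z Q : Subgroup G} (L : Loc S Z Q)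
    (hn : ¬ 3 ^ 7 ∣ Nat.card G) (hJS : J ≤ S) {N : Subgroup G} [hNn : N.Normal] (h3 : 3 ∣ Nat.card N) : S ≤ N := by
  have hnorm : ∀ s ∈ S, ∀ n ∈ N, s * n * s⁻¹ ∈ N := fun s _ n hn => hNn.conj_mem n hn s
  have hZN : Z ≤ N := L.Z_le_of_normalized hnorm (inf_ne_bot L.cardS hn hnorm h3)
  have hZJ : Z ≤ J := fun z hz => D.cent L hn fun j hj => L.comm_S hz (hJS hj)
  have hZne : Nat.card Z = 3 := L.cardZ
  -- `J ≤ N`
  have hJN : J ≤ N := by
    obtain ⟨m, hm, hm5, hm1⟩ := D.exists_five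
    have hmod := card_modEq_fix (by norm_num : Nat.Prime 5) hm5 (J ⊓ N) (fun w hw =>
      mem_inf.2 ⟨D.conj_mem hm (mem_inf.1 hw).1, hNn.conj_mem w (mem_inf.1 hw).2 m⟩)
    have hfix : (J ⊓ N) ⊓ centralizer {m} = ⊥ := by
      rw [eq_bot_iff]
      intro w hw
      obtain ⟨hw1, hw2⟩ := mem_inf.1 hw
      exact D.five_fix L hn hm hm5 hm1 (mem_inf.1 hw1).1 (mem_centralizer_singleton_iff.1 hw2).symm
    rw [hfix, Subgroup.card_bot] at hmod
    obtain ⟨k, hk, hck⟩ := card_pow_of_le (n := 4) Nat.prime_three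
      (inf_le_left : (J ⊓ N : Subgroup G) ≤ J) (by rw [D.e81.card]; norm_num)
    rw [hck] at hmod
    have hmod' : 3 ^ k % 5 = 1 % 5 := hmod
    have hk1 : 1 ≤ k := by
      by_contra hcon
      have : k = 0 := by omega
      rw [this, pow_zero] at hck
      have h1 := card_dvd_of_le (le_inf hZJ hZN)
      rw [hck, hZne] at h1
      omega
    have hk4 : k = 4 := by
      interval_cases k <;> simp_all
    have : (J ⊓ N : Subgroup G) = J :=
      Subgroup.eq_of_le_of_card_ge inf_le_left (by rw [hck, hk4, D.e81.card]; norm_num)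
    rw [← this]; exact inf_le_right
  -- `Q ≤ N`
  have hQN : Q ≤ N := by
    obtain ⟨h, h5, h1, hz, -⟩ := L.five
    have hnor : ∀ q ∈ Q, h * q * h⁻¹ ∈ Q := L.nor h (fun z hz' => by
      rw [hz z hz', mul_assoc, mul_inv_cancel, mul_one]; exact hz')
    have hmod := card_modEq_fix (by norm_num : Nat.Prime 5) h5 (Q ⊓ N) (fun w hw =>
      mem_inf.2 ⟨hnor w (mem_inf.1 hw).1, hNn.conj_mem w (mem_inf.1 hw).2 h⟩)
    have hfix : (Q ⊓ N) ⊓ centralizer {h} = Z := by
      apply le_antisymm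
      · intro w hw
        obtain ⟨hw1, hw2⟩ := mem_inf.1 hw
        exact L.five_fix h5 h1 hz (mem_inf.1 hw1).1 (mem_centralizer_singleton_iff.1 hw2).symm
      · intro z hz'
        exact mem_inf.2 ⟨mem_inf.2 ⟨L.Z_le_Q hz', hZN hz'⟩, mem_centralizer_singleton_iff.2 (hz z hz').symm⟩
    rw [hfix, hZne] at hmod
    obtain ⟨k, hk, hck⟩ := card_pow_of_le (n := 5) Nat.prime_three
      (inf_le_left : (Q ⊓ N : Subgroup G) ≤ Q) L.cardQ
    have hJQ := L.card_inf D.e81 hJS
    have h27 : 27 ≤ Nat.card (Q ⊓ N : Subgroup G) := by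
      rw [← hJQ]
      exact Nat.le_of_dvd Nat.card_pos (card_dvd_of_le (le_inf inf_le_right (inf_le_left.trans hJN)))
    rw [hck] at hmod h27
    have hmod' : 3 ^ k % 5 = 3 % 5 := hmod
    have hk5 : k = 5 := by
      interval_cases k <;> simp_all
    have : (Q ⊓ N : Subgroup G) = Q :=
      Subgroup.eq_of_le_of_card_ge inf_le_left (by rw [hck, hk5, L.cardQ])
    rw [← this]; exact inf_le_right
  -- `S = J Q`
  have hSle : S ≤ N ⊓ S := by
    obtain ⟨k, hk, hck⟩ := card_pow_of_le (n := 6) Nat.prime_three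
      (inf_le_right : (N ⊓ S : Subgroup G) ≤ S) L.cardS
    have h1 : Q.relIndex J = 3 := by
      have h4 : (J ⊓ Q).relIndex J = Q.relIndex J := Subgroup.inf_relIndex_left _ _
      have h5 := relIndex_mul_card' (J ⊓ Q) J inf_le_left
      rw [h4, D.e81.card, L.card_inf D.e81 hJS] at h5
      omega
    have hJle : J ≤ N ⊓ S := le_inf hJN hJS
    have hQle : Q ≤ N ⊓ S := le_inf hQN L.QS
    have h2 := relIndex_mul_card' Q (N ⊓ S) hQle
    rw [L.cardQ, hck] at h2
    have h3 : 3 ≤ Q.relIndex (N ⊓ S) := by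
      rw [← h1]
      refine Subgroup.relIndex_le_of_le_right hJle ?_
      intro h0
      rw [h0] at h2
      have : 0 < 3 ^ k := by positivity
      omega
    have hk6 : k = 6 := by
      have h4 : 3 * 3 ^ 5 ≤ 3 ^ k := by rw [← h2]; exact Nat.mul_le_mul_right _ h3
      have h5 : 3 ^ 6 ≤ 3 ^ k := by rw [← pow_succ'] at h4; exact h4
      have := (Nat.pow_le_pow_iff_right (by norm_num)).1 h5
      omega
    exact (Subgroup.eq_of_le_of_card_ge inf_le_right (by rw [hck, hk6, L.cardS])).ge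
  exact hSle.trans inf_le_left

/-- normal subgroups of `G` -/
theorem JDat.three_dvd (D : JDat J M π) {S Z Q : Subgroup G} (L : Loc S Z Q)
    (hn : ¬ 3 ^ 7 ∣ Nat.card G) {N : Subgroup G} (hN : ∀ j ∈ J, ∀ n ∈ N, j * n * j⁻¹ ∈ N) (hNb : N ≠ ⊥) :
    3 ∣ Nat.card N := by
  by_contra h
  exact hNb (D.no_prime L hn h hN)

/-- there is a simple normal subgroup with trivial centraliser -/
theorem JDat.exists_simple (D : JDat J M π) {S Z Q : Subgroup G} (L : Loc S Z Q)
    (hn : ¬ 3 ^ 7 ∣ Nat.card G) (hJS : J ≤ S) : ∃ K : Subgroup G, K.Normal ∧ IsSimpleGroup K ∧ S ≤ K ∧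
      ∀ x, (∀ k ∈ K, x * k = k * x) → x = 1 := by
  have h3F := Fact.mk Nat.prime_three
  have hSne : S ≠ ⊥ := by
    intro h
    have := L.cardS
    rw [h, Subgroup.card_bot] at this
    norm_num at this
  have hTne : (⊤ : Subgroup G) ≠ ⊥ := by
    intro h
    apply hSne
    rw [eq_bot_iff, ← h]
    exact le_top
  obtain ⟨K, ⟨hKn, hKb⟩, hmin⟩ := WellFounded.has_min (wellFounded_lt : WellFounded (α := Subgroup G) (· < ·))
    {N : Subgroup G | N.Normal ∧ N ≠ ⊥} ⟨⊤, inferInstance, hTne⟩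
  have hK3 : 3 ∣ Nat.card K := D.three_dvd L hn (fun j _ n hn => hKn.conj_mem n hn j) hKb
  have hSK : S ≤ K := D.S_le L hn hJS hK3
  refine ⟨K, hKn, ?_, hSK, ?_⟩
  · -- simplicity
    have hKnt : Nontrivial K := by
      rw [Subgroup.nontrivial_iff_ne_bot]; exact hKb
    -- a nontrivial subgroup normalised by `K` contains `Z`
    have hZ : ∀ N : Subgroup G, N ≤ K → (∀ k ∈ K, ∀ n ∈ N, k * n * k⁻¹ ∈ N) → N ≠ ⊥ → Z ≤ N := by
      intro N hNK hN hNb
      have h3 : 3 ∣ Nat.card N := D.three_dvd L hn (fun j hj n hn => hN j (hSK (hJS hj)) n hn) hNb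
      exact L.Z_le_of_normalized (fun s hs => hN s (hSK hs)) (inf_ne_bot L.cardS hn (fun s hs => hN s (hSK hs)) h3)
    -- minimal one
    obtain ⟨N, ⟨hNK, hN, hNb⟩, hNmin⟩ := WellFounded.has_min
      (wellFounded_lt : WellFounded (α := Subgroup G) (· < ·))
      {N : Subgroup G | N ≤ K ∧ (∀ k ∈ K, ∀ n ∈ N, k * n * k⁻¹ ∈ N) ∧ N ≠ ⊥}
      ⟨K, le_rfl, fun k hk n hn => mul_mem (mul_mem hk hn) (inv_mem hk), hKb⟩
    have hZb : Z ≠ ⊥ := by
      intro h
      have := L.cardZ
      rw [h, Subgroup.card_bot] at this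
      omega
    have hNG : ∀ g : G, cj g N = N := by
      intro g
      have hgK : cj g N ≤ K := by
        rintro x ⟨n, hn, rfl⟩
        exact hKn.conj_mem n (hNK hn) g
      have hgN : ∀ k ∈ K, ∀ n ∈ cj g N, k * n * k⁻¹ ∈ cj g N := by
        intro k hk n hn
        rw [mem_cj] at hn ⊢
        have h1 : g⁻¹ * k * g ∈ K := by simpa using hKn.conj_mem k hk g⁻¹
        have h2 := hN _ h1 _ hn
        have e : g⁻¹ * k * g * (g⁻¹ * n * g) * (g⁻¹ * k * g)⁻¹ = g⁻¹ * (k * n * k⁻¹) * g := by group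
        rwa [e] at h2
      have hgb : cj g N ≠ ⊥ := by
        intro h
        apply hNb
        rw [← Subgroup.card_eq_one, ← card_cj g, h, Subgroup.card_bot]
      have h1 := hZ _ hgK hgN hgb
      have h2 := hZ N hNK hN hNb
      have h3 : N ⊓ cj g N ∈ {N : Subgroup G | N ≤ K ∧ (∀ k ∈ K, ∀ n ∈ N, k * n * k⁻¹ ∈ N) ∧ N ≠ ⊥} := by
        refine ⟨inf_le_left.trans hNK, ?_, ?_⟩
        · intro k hk n hn
          exact mem_inf.2 ⟨hN k hk n (mem_inf.1 hn).1, hgN k hk n (mem_inf.1 hn).2⟩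
        · intro h
          apply hZb
          rw [eq_bot_iff, ← h]
          exact le_inf h2 h1
      have h4 := hNmin _ h3
      have h5 : N ⊓ cj g N = N := by
        by_contra hne
        exact h4 (lt_of_le_of_ne inf_le_left hne)
      symm
      apply Subgroup.eq_of_le_of_card_ge
      · exact h5.symm.le.trans inf_le_right
      · rw [card_cj]
    have hNK' : N = K := by
      have hNn : N.Normal := by
        constructor
        intro n hn g
        have := mem_cj_of (g := g) hn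
        rwa [hNG g] at this
      by_contra hne
      exact hmin N ⟨hNn, hNb⟩ (lt_of_le_of_ne hNK hne)
    refine { eq_bot_or_eq_top_of_normal := ?_ }
    intro H hH
    by_cases hHb : H = ⊥
    · left; exact hHb
    · right
      have h1 : H.map K.subtype ∈ {N : Subgroup G | N ≤ K ∧ (∀ k ∈ K, ∀ n ∈ N, k * n * k⁻¹ ∈ N) ∧ N ≠ ⊥} := by
        refine ⟨Subgroup.map_subtype_le H, ?_, ?_⟩
        · rintro k hk _ ⟨n, hn, rfl⟩
          exact ⟨⟨k, hk⟩ * n * ⟨k, hk⟩⁻¹, hH.conj_mem n hn _, rfl⟩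
        · intro h
          apply hHb
          rw [Subgroup.map_eq_bot_iff_of_injective _ K.subtype_injective] at h
          exact h
      have h2 := hNmin _ h1
      rw [hNK'] at h2
      have h3 : H.map K.subtype = K := by
        by_contra hne
        exact h2 (lt_of_le_of_ne (Subgroup.map_subtype_le H) hne)
      rw [eq_top_iff]
      intro k _
      have h4 : (k : G) ∈ H.map K.subtype := by rw [h3]; exact k.2
      obtain ⟨k', hk', he⟩ := h4
      have : k' = k := Subtype.ext he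
      rwa [← this]
  · intro x hx
    by_contra hx1
    let C : Subgroup G := centralizer (K : Set G)
    have hCn : C.Normal := Subgroup.normal_centralizer
    have hxC : x ∈ C := mem_centralizer_iff.2 fun k hk => (hx k hk).symm
    have hCb : C ≠ ⊥ := by
      intro h
      rw [h, mem_bot] at hxC
      exact hx1 hxC
    have h3 : 3 ∣ Nat.card C := D.three_dvd L hn (fun j _ n hn => hCn.conj_mem n hn j) hCb
    have hSC : S ≤ C := D.S_le L hn hJS h3
    have hSZ : S ≤ Z := by
      intro s hs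
      refine (L.memZ s).2 ⟨hs, fun y hy => ?_⟩
      exact (mem_centralizer_iff.1 (hSC hs) y (hSK hy)).symm
    have := card_dvd_of_le hSZ
    rw [L.cardS, L.cardZ] at this
    exact absurd this (by norm_num)

end Cfsg.Agent.H846
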