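import Cfsg.Agent.H846.TwoPart3
import Cfsg.Agent.H846.Core7
import Cfsg.Agent.Transfer.Extraspecial

/-!
# 3-local recognition of `McL`: from the hypotheses to the local data (helper846)
-/

set_option autoImplicit false

namespace Cfsg.Agent.H846

open Subgroup
open scoped commutatorElement
open Cfsg.Agent.Transfer.Extraspecial

/-- abelian subgroups of an extraspecial group of order `3^5` -/
theorem card_ab_le {Q : Type*} [Group Q] [Finite Q] (hQ : Cfsg.IsExtraspecial 3 Q) (hc : Nat.card Q = 3 ^ 5)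
    (A : Subgroup Q) (hA : ∀ x ∈ A, ∀ y ∈ A, x * y = y * x) : Nat.card A ≤ 27 := by
  have h3 := Fact.mk Nat.prime_three
  by_contra hcon
  push Not at hcon
  have hdvd : Nat.card A ∣ 3 ^ 5 := hc ▸ card_subgroup_dvd_card A
  obtain ⟨k, hk, hck⟩ := (Nat.dvd_prime_pow Nat.prime_three).1 hdvd
  have hcen : Nat.card (center Q) = 3 := card_center hQ
  have hmem : ∀ a ∈ A, ∀ x ∉ A, A.index = 3 → a * x = x * a → a ∈ center Q := by
    intro a ha x hx hidx hax
    have h1 : A ≤ centralizer ({a} : Set Q) := fun b hb => mem_centralizer_singleton_iff.2 (hA b hb a ha)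
    have h2 : x ∈ centralizer ({a} : Set Q) := mem_centralizer_singleton_iff.2 hax.symm
    have h4 := Subgroup.relIndex_mul_index h1
    rw [hidx] at h4
    have h5 : (centralizer ({a} : Set Q)).index ∣ 3 := Dvd.intro_left _ h4
    have h6 : (centralizer ({a} : Set Q)).index = 1 := by
      rcases (Nat.dvd_prime Nat.prime_three).1 h5 with h | h
      · exact h
      · exfalso
        rw [h] at h4
        have h7 : A.relIndex (centralizer ({a} : Set Q)) = 1 := by omega
        rw [Subgroup.relIndex_eq_one] at h7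
        exact hx (h7 h2)
    rw [Subgroup.index_eq_one] at h6
    rw [mem_center_iff]
    intro g
    have : g ∈ centralizer ({a} : Set Q) := h6 ▸ mem_top g
    exact mem_centralizer_singleton_iff.1 this
  have hk' : k = 4 ∨ k = 5 := by
    interval_cases k <;> simp_all
  rcases hk' with rfl | rfl
  · have hidx : A.index = 3 := by
      have := A.index_mul_card
      rw [hck, hc] at this
      omega
    obtain ⟨x, hx⟩ : ∃ x, x ∉ A := by
      by_contra h
      push Not at h
      have : A = ⊤ := eq_top_iff.2 fun y _ => h y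
      rw [this, Subgroup.index_top] at hidx
      exact absurd hidx (by norm_num)
    let φ : A →* commutator Q := (commHom' (comm_mem_center hQ) x).comp A.subtype
    have hker : Nat.card φ.ker ≤ 3 := by
      rw [← hcen]
      refine Nat.card_le_card_of_injective (fun a : φ.ker => (⟨(a : A), ?_⟩ : center Q)) ?_
      · have h1 : (a : A) ∈ φ.ker := a.2
        have h2 : ((a : A) : Q) ∈ (commHom' (comm_mem_center hQ) x).ker := h1
        rw [mem_ker_commHom'] at h2
        exact hmem _ (a : A).2 x hx hidx h2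
      · intro a b h
        have h' : ((a : A) : Q) = ((b : A) : Q) := congrArg (fun x : center Q => (x : Q)) h
        exact Subtype.ext (Subtype.ext h')
    have hran : Nat.card φ.range ≤ 3 := by
      rw [← card_commutator hQ]
      exact Nat.card_le_card_of_injective _ φ.range.subtype_injective
    have h1 := φ.ker.card_mul_index
    rw [Subgroup.index_ker, hck] at h1
    have : Nat.card φ.ker * Nat.card φ.range ≤ 3 * 3 := Nat.mul_le_mul hker hran
    omega
  · have htop : A = ⊤ := Subgroup.eq_top_of_card_eq A (by rw [hck, hc])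
    have : center Q = ⊤ := by
      rw [eq_top_iff]
      intro x _
      rw [mem_center_iff]
      intro g
      exact hA g (htop ▸ mem_top g) x (htop ▸ mem_top x)
    rw [this, Subgroup.card_top, hc] at hcen
    exact absurd hcen (by norm_num)

variable {G : Type*} [Group G] [Finite G]

/-- 3-elements lie in normal subgroups containing a Sylow subgroup -/
theorem mem_of_three {S : Subgroup G} (hS : Nat.card S = 3 ^ 6) (hn : ¬ 3 ^ 7 ∣ Nat.card G) {N : Subgroup G}
    (hN : N.Normal) (hSN : S ≤ N) {x : G} {k : ℕ} (hx : x ^ 3 ^ k = 1) : x ∈ N := by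
  have hP : IsPGroup 3 (zpowers x) := by
    obtain ⟨m, hm, hox⟩ := (Nat.dvd_prime_pow Nat.prime_three).1 (orderOf_dvd_of_pow_eq_one hx)
    exact IsPGroup.of_card (n := m) (by rw [Nat.card_zpowers, hox])
  obtain ⟨g, hg⟩ := le_conj_of_isPGroup hn hS hP
  have hxg : x ∈ cj g S := hg (mem_zpowers x)
  obtain ⟨s, hs, rfl⟩ := hxg
  exact hN.conj_mem s (hSN hs) g

/-- the local data at the centre -/
theorem mk_loc {S Z Q L : Subgroup G} (hS : Nat.card S = 3 ^ 6)
    (memZ : ∀ x, x ∈ Z ↔ x ∈ S ∧ ∀ y ∈ S, x * y = y * x) (QS : Q ≤ S) (hQ : Cfsg.IsExtraspecial 3 Q)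
    (cardQ : Nat.card Q = 3 ^ 5) (cube : ∀ q ∈ Q, q ^ 3 = 1)
    (nor : ∀ n, (∀ z ∈ Z, n * z * n⁻¹ ∈ Z) → ∀ q ∈ Q, n * q * n⁻¹ ∈ Q) (cenQ : ∀ x, (∀ q ∈ Q, x * q = q * x) → x ∈ Q)
    (QL : Q ≤ L) (cardL : Nat.card L = 3 ^ 5 * 120) (LZ : ∀ x ∈ L, ∀ z ∈ Z, x * z = z * x)
    (LN : ∀ N : Subgroup G, N.Normal → S ≤ N → L ≤ N) (Lnor : ∀ n, (∀ z ∈ Z, n * z = z * n) → ∀ x ∈ L, n * x * n⁻¹ ∈ L) :
    Loc S Z Q ∧ ¬ 2 ^ 5 ∣ Nat.card (centralizer (Z : Set G)) := by
  have h3 := Fact.mk Nat.prime_three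
  have h5 := Fact.mk (by norm_num : Nat.Prime 5)
  have hZQ : Z ≤ Q := fun z hz => cenQ z fun q hq => ((memZ z).1 hz).2 q (QS hq)
  have hcen : Nat.card ((center Q).map Q.subtype) = 3 := by
    rw [Subgroup.card_map_of_injective Q.subtype_injective, card_center hQ]
  have hZc : Z ≤ (center Q).map Q.subtype := by
    intro z hz
    refine ⟨⟨z, hZQ hz⟩, ?_, rfl⟩
    rw [SetLike.mem_coe, mem_center_iff]
    intro g
    exact Subtype.ext (((memZ z).1 hz).2 g (QS g.2)).symm
  have hZne : Nat.card Z ≠ 1 := by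
    intro h
    have h1 : Z = ⊥ := Subgroup.card_eq_one.1 h
    have hSp : IsPGroup 3 S := IsPGroup.of_card hS
    have hSnt : Nontrivial S := by
      rw [← Finite.one_lt_card_iff_nontrivial, hS]
      norm_num
    have h2 := hSp.center_nontrivial
    obtain ⟨c, hc⟩ := exists_ne (1 : center S)
    have h6 : ((c : S) : G) ∈ Z := by
      rw [memZ]
      refine ⟨(c : S).2, fun y hy => ?_⟩
      exact (congrArg Subtype.val (mem_center_iff.1 c.2 ⟨y, hy⟩)).symm
    rw [h1, mem_bot] at h6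
    exact hc (Subtype.ext (Subtype.ext h6))
  have hZeq : Z = (center Q).map Q.subtype := by
    apply Subgroup.eq_of_le_of_card_ge hZc
    rw [hcen]
    have h1 := card_dvd_of_le hZc
    rw [hcen] at h1
    rcases (Nat.dvd_prime Nat.prime_three).1 h1 with h | h
    · exact absurd h hZne
    · exact h.ge
  have cardZ : Nat.card Z = 3 := by rw [hZeq, hcen]
  have commQ : ∀ x ∈ Q, ∀ y ∈ Q, x * y * x⁻¹ * y⁻¹ ∈ Z := by
    intro x hx y hy
    rw [hZeq]
    exact ⟨⁅(⟨x, hx⟩ : Q), ⟨y, hy⟩⁆, comm_mem_center hQ _ _, rfl⟩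
  have abQ : ∀ A : Subgroup G, A ≤ Q → (∀ x ∈ A, ∀ y ∈ A, x * y = y * x) → Nat.card A ≤ 27 := by
    intro A hAQ hA
    have h1 := card_ab_le hQ cardQ (A.subgroupOf Q) (by
      intro x hx y hy
      exact Subtype.ext (hA x (mem_subgroupOf.1 hx) y (mem_subgroupOf.1 hy)))
    rwa [Nat.card_congr (subgroupOfEquivOfLe hAQ).toEquiv] at h1
  obtain ⟨h, hh⟩ := exists_prime_orderOf_dvd_card' 5 (G := L) (by rw [cardL]; norm_num)
  have hhG : orderOf (h : G) = 5 := by rw [orderOf_coe, hh]
  have hh5 : (h : G) ^ 5 = 1 := by rw [← hhG]; exact pow_orderOf_eq_one _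
  have hh1 : (h : G) ≠ 1 := by
    intro h0
    rw [h0, orderOf_one] at hhG
    exact absurd hhG (by norm_num)
  refine ⟨⟨hS, cardZ, memZ, QS, cardQ, abQ, commQ, nor, cenQ, h, hh5, hh1, LZ h h.2,
    fun N hN hSN => LN N hN hSN h.2⟩, ?_⟩
  -- the 2-part
  let C : Subgroup G := centralizer (Z : Set G)
  have hC : ∀ x, x ∈ C ↔ ∀ z ∈ Z, x * z = z * x := by
    intro x
    rw [mem_centralizer_iff]
    exact ⟨fun h z hz => (h z hz).symm, fun h z hz => (h z hz).symm⟩
  have hLC : L ≤ C := fun x hx => (hC x).2 (LZ x hx)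
  have hQC : Q ≤ C := QL.trans hLC
  have hZC : Z ≤ C := hZQ.trans hQC
  have hQn : (Q.subgroupOf C).Normal := by
    constructor
    intro q hq g
    rw [mem_subgroupOf] at hq ⊢
    exact nor g (fun z hz => by rw [(hC g).1 g.2 z hz, mul_assoc, mul_inv_cancel, mul_one]; exact hz) q hq
  have hLn : (L.subgroupOf C).Normal := by
    constructor
    intro q hq g
    rw [mem_subgroupOf] at hq ⊢
    exact Lnor g ((hC g).1 g.2) q hq
  obtain ⟨a, b, hab⟩ := exists_comm_ne_one (by norm_num) hQ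
  refine TwoPart.not_dvd (C := C) (Q := Q.subgroupOf C) (Z := Z.subgroupOf C) (L := L.subgroupOf C)
    (h := ⟨h, hLC h.2⟩) ?_ ?_ ?_ ?_ ?_ ?_ ?_ ?_ ?_ ?_ ?_ ?_ ?_
  · exact fun x hx => hZQ hx
  · rw [Nat.card_congr (subgroupOfEquivOfLe hQC).toEquiv, cardQ]
  · rw [Nat.card_congr (subgroupOfEquivOfLe hZC).toEquiv, cardZ]
  · intro z hz c
    exact Subtype.ext ((hC c).1 c.2 z (mem_subgroupOf.1 hz)).symm
  · intro x hx y hy
    exact commQ x hx y hy
  · intro q hq
    rw [mem_subgroupOf]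
    have : ((q ^ 3 : C) : G) = 1 := by
      rw [Subgroup.coe_pow]
      exact cube q hq
    rw [this]
    exact one_mem _
  · intro x hx
    refine cenQ x fun q hq => ?_
    exact congrArg Subtype.val (hx ⟨q, hQC hq⟩ hq)
  · refine ⟨⟨a, hQC a.2⟩, a.2, ⟨b, hQC b.2⟩, b.2, ?_⟩
    intro h
    apply hab
    rw [commutatorElement_eq_one_iff_mul_comm]
    exact Subtype.ext (congrArg (fun x : C => (x : G)) h)
  · exact fun x hx => QL hx
  · rw [Nat.card_congr (subgroupOfEquivOfLe hLC).toEquiv, cardL]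
  · exact h.2
  · exact Subtype.ext hh5
  · intro h0
    exact hh1 (congrArg Subtype.val h0)

end Cfsg.Agent.H846
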