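import Cfsg.Agent.H846.Cond2
import Cfsg.Agent.H846.Elim.All
import Cfsg.Agent.TypeM.FactsAut
import Cfsg.Agent.TypeM.FactsMcL

/-!
# 3-local recognition of `McL`: the end (helper846)
-/

set_option autoImplicit false

namespace Cfsg.Agent.H846

open Subgroup

variable {G : Type*} [Group G] [Finite G]

/-- the 3-local data give a simple normal subgroup `McL` with trivial centraliser -/
theorem JDat.mcl {J M : Subgroup G} {π : M →* ASix.A6} (D : JDat J M π) {S Z Q : Subgroup G} (L : Loc S Z Q)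
    (hn : ¬ 3 ^ 7 ∣ Nat.card G) (hJS : J ≤ S) (h2 : ¬ 2 ^ 5 ∣ Nat.card (centralizer (Z : Set G))) :
    ∃ K : Subgroup G, K.Normal ∧ IsSimpleGroup K ∧ Cfsg.Spor.IsoMcL K ∧ ∀ x, (∀ k ∈ K, x * k = k * x) → x = 1 := by
  obtain ⟨K, hKn, hKs, hSK, hC⟩ := D.exists_simple L hn hJS
  exact ⟨K, hKn, hKs, Elim.simple (D.cond L hn hJS h2 hSK), hC⟩

/-- `G` is `McL` or `Aut(McL)` -/
theorem concl {K : Subgroup G} [hK : K.Normal] (h : Cfsg.Spor.IsoMcL K) (hC : ∀ x, (∀ k ∈ K, x * k = k * x) → x = 1) :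
    Nonempty (G ≃* Cfsg.Spor.McL) ∨ Nonempty (G ≃* MulAut Cfsg.Spor.McL) := by
  obtain ⟨e⟩ := h
  obtain ⟨hf, hs, hc, ⟨L⟩⟩ := TypeM.FactsMcL.exists_mt_mcl
  have hmul : ∀ φ ψ : MulAut Cfsg.Spor.McL, (∀ g, φ ≠ MulAut.conj g) → (∀ g, ψ ≠ MulAut.conj g) →
      ∃ g, φ * ψ = MulAut.conj g := fun φ ψ h1 h2 =>
    TypeM.FactsAut.mul_inner L (Or.inl rfl) (TypeM.FactsAut.gen L (Or.inl ⟨rfl, hc⟩)) h1 h2
  let Φ : G →* MulAut Cfsg.Spor.McL := (MulAut.congr e).toMonoidHom.comp MulAut.conjNormal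
  have hΦ : ∀ g m, Φ g m = e (MulAut.conjNormal g (e.symm m)) := fun g m => rfl
  have hinj : Function.Injective Φ := by
    rw [injective_iff_map_eq_one]
    intro g hg
    apply hC
    intro k hk
    have h1 : Φ g (e ⟨k, hk⟩) = e ⟨k, hk⟩ := by rw [hg]; rfl
    rw [hΦ, e.symm_apply_apply] at h1
    have h2 := congrArg Subtype.val (e.injective h1)
    rw [MulAut.conjNormal_apply] at h2
    exact mul_inv_eq_iff_eq_mul.1 h2
  have hin : ∀ k : K, Φ (k : G) = MulAut.conj (e k) := by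
    intro k
    ext m
    rw [hΦ, MulAut.conj_apply]
    have : MulAut.conjNormal (k : G) (e.symm m) = k * e.symm m * k⁻¹ := by
      apply Subtype.ext
      rw [MulAut.conjNormal_apply]
      rfl
    rw [this, map_mul, map_mul, e.apply_symm_apply, map_inv]
  by_cases hall : ∀ g, ∃ m, Φ g = MulAut.conj m
  · left
    have hK : K = ⊤ := by
      rw [eq_top_iff]
      intro g _
      obtain ⟨m, hm⟩ := hall g
      have h1 := hin (e.symm m)
      rw [e.apply_symm_apply, ← hm] at h1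
      rw [← hinj h1]
      exact (e.symm m).2
    subst hK
    exact ⟨Subgroup.topEquiv.symm.trans e⟩
  · right
    push Not at hall
    obtain ⟨g, hg⟩ := hall
    refine ⟨MulEquiv.ofBijective Φ ⟨hinj, ?_⟩⟩
    intro φ
    by_cases h : ∃ m, φ = MulAut.conj m
    · obtain ⟨m, rfl⟩ := h
      refine ⟨e.symm m, ?_⟩
      rw [hin, e.apply_symm_apply]
    · push Not at h
      obtain ⟨m, hm⟩ := hmul φ (Φ g) h hg
      refine ⟨e.symm m * g⁻¹, ?_⟩
      rw [map_mul, hin, e.apply_symm_apply, ← hm, map_inv, mul_inv_cancel_right]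

end Cfsg.Agent.H846
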