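import Cfsg.Agent.H846.Frame

/-!
# Frames without automorphisms (helper846)

`Four0 x` : four independent commuting elements of order 3; `Four0.contra_quat` as in `Frame`.
-/

set_option autoImplicit false

namespace Cfsg.Agent.H846

open Subgroup
open Cfsg.Agent.Lib.CoprimeHyperplane (pow_val_add)

variable {K : Type*} [Group K]

structure Four0 (x : Fin 4 → K) : Prop where
  cube : ∀ i, x i ^ 3 = 1
  comm : ∀ i j, x i * x j = x j * x i
  inj : ∀ v : Fin 4 → ZMod 3, Four.f x v = 1 → v = 0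

namespace Four0

open Four (f V4 Iv Jv orb eight_dvd)

instance : Fact (Nat.Prime 3) := ⟨Nat.prime_three⟩

variable {x : Fin 4 → K}

theorem f_zero : f x 0 = 1 := by simp [f]

theorem f_add (h : Four0 x) (v w : Fin 4 → ZMod 3) : f x (v + w) = f x v * f x w := by
  have hc : ∀ i j (m n : ℕ), x i ^ m * x j ^ n = x j ^ n * x i ^ m := fun i j m n =>
    ((show Commute (x i) (x j) from h.comm i j).pow_pow m n).eq
  unfold f
  simp only [Pi.add_apply]
  rw [pow_val_add (h.cube 0), pow_val_add (h.cube 1), pow_val_add (h.cube 2), pow_val_add (h.cube 3)]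
  set a0 := x 0 ^ (v 0).val
  set b0 := x 0 ^ (w 0).val with hb0
  set a1 := x 1 ^ (v 1).val with ha1
  set b1 := x 1 ^ (w 1).val with hb1
  set a2 := x 2 ^ (v 2).val with ha2
  set b2 := x 2 ^ (w 2).val with hb2
  set a3 := x 3 ^ (v 3).val with ha3
  set b3 := x 3 ^ (w 3).val
  have e1 : b0 * a1 = a1 * b0 := by rw [hb0, ha1]; exact hc 0 1 _ _
  have e2 : b0 * a2 = a2 * b0 := by rw [hb0, ha2]; exact hc 0 2 _ _
  have e3 : b0 * a3 = a3 * b0 := by rw [hb0, ha3]; exact hc 0 3 _ _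
  have e4 : b1 * a2 = a2 * b1 := by rw [hb1, ha2]; exact hc 1 2 _ _
  have e5 : b1 * a3 = a3 * b1 := by rw [hb1, ha3]; exact hc 1 3 _ _
  have e6 : b2 * a3 = a3 * b2 := by rw [hb2, ha3]; exact hc 2 3 _ _
  calc a0 * b0 * (a1 * b1) * (a2 * b2) * (a3 * b3)
      = a0 * (b0 * a1) * b1 * a2 * b2 * a3 * b3 := by group
    _ = a0 * a1 * b0 * (b1 * a2) * b2 * a3 * b3 := by rw [e1]; group
    _ = a0 * a1 * (b0 * a2) * b1 * b2 * a3 * b3 := by rw [e4]; group
    _ = a0 * a1 * a2 * b0 * b1 * (b2 * a3) * b3 := by rw [e2]; group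
    _ = a0 * a1 * a2 * b0 * (b1 * a3) * b2 * b3 := by rw [e6]; group
    _ = a0 * a1 * a2 * (b0 * a3) * b1 * b2 * b3 := by rw [e5]; group
    _ = a0 * a1 * a2 * a3 * (b0 * b1 * b2 * b3) := by rw [e3]; group

/-- the homomorphism -/
def hom (h : Four0 x) : Multiplicative (Fin 4 → ZMod 3) →* K where
  toFun v := f x v.toAdd
  map_one' := f_zero
  map_mul' v w := h.f_add v.toAdd w.toAdd

theorem hom_injective (h : Four0 x) : Function.Injective h.hom := by
  rw [injective_iff_map_eq_one]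
  intro v hv
  have hv' : f x v.toAdd = 1 := hv
  exact h.inj _ hv'

/-- the group generated -/
def grp (h : Four0 x) : Subgroup K := h.hom.range

theorem mem_grp (h : Four0 x) (i : Fin 4) : x i ∈ h.grp := by
  refine ⟨Multiplicative.ofAdd (Pi.single i 1), ?_⟩
  change f x (Pi.single i 1) = x i
  unfold f
  have h1 : (1 : ZMod 3).val = 1 := rfl
  fin_cases i <;> simp [h1]

theorem grp_le (h : Four0 x) {H : Subgroup K} (hH : ∀ i, x i ∈ H) : h.grp ≤ H := by
  rintro y ⟨v, rfl⟩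
  change f x v.toAdd ∈ H
  unfold f
  exact mul_mem (mul_mem (mul_mem (pow_mem (hH 0) _) (pow_mem (hH 1) _)) (pow_mem (hH 2) _)) (pow_mem (hH 3) _)

theorem e81 (h : Four0 x) : IsE81 h.grp where
  comm := by
    rintro _ ⟨v, rfl⟩ _ ⟨w, rfl⟩
    rw [← map_mul, ← map_mul, mul_comm]
  cube := by
    rintro _ ⟨v, rfl⟩
    rw [← map_pow]
    have : v ^ 3 = 1 := by
      have h1 : v ^ 3 = Multiplicative.ofAdd (3 • v.toAdd) := rfl
      rw [h1]
      have h2 : 3 • v.toAdd = 0 := by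
        funext i
        change 3 • (v.toAdd i) = 0
        generalize v.toAdd i = a
        revert a
        decide
      rw [h2]
      rfl
    rw [this, map_one]
  card := by
    have h1 : Nat.card h.hom.range = Nat.card (Multiplicative (Fin 4 → ZMod 3)) :=
      (Nat.card_congr (MonoidHom.ofInjective h.hom_injective).toEquiv).symm
    change Nat.card h.hom.range = 81
    rw [h1]
    change Nat.card (Fin 4 → ZMod 3) = 81
    rw [Nat.card_eq_fintype_card, Fintype.card_fun, ZMod.card, Fintype.card_fin]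
    norm_num

theorem f_Iv (h : Four0 x) {I : MulAut K} (h0 : I (x 0) = x 1) (h1 : I (x 1) = (x 0)⁻¹) (h2 : I (x 2) = x 3)
    (h3 : I (x 3) = (x 2)⁻¹) (v : V4) : I (f x v) = f x (Iv v) := by
  have hneg : ∀ i (a : ZMod 3), (x i)⁻¹ ^ a.val = x i ^ (-a).val := by
    intro i a
    have hc := h.cube i
    have e : (x i)⁻¹ = x i ^ 2 := by
      rw [inv_eq_iff_mul_eq_one, ← pow_succ']; exact hc
    have key : ∀ a : ZMod 3, ∃ k < 3, 2 * a.val = (-a).val + 3 * k := by decide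
    obtain ⟨k, -, hk⟩ := key a
    rw [e, ← pow_mul, hk, pow_add, pow_mul, hc, one_pow, mul_one]
  have hc : ∀ i j (m n : ℕ), x i ^ m * x j ^ n = x j ^ n * x i ^ m := fun i j m n =>
    ((show Commute (x i) (x j) from h.comm i j).pow_pow m n).eq
  unfold f
  simp only [map_mul, map_pow, h0, h1, h2, h3, hneg]
  change x 1 ^ (v 0).val * x 0 ^ (-v 1).val * x 3 ^ (v 2).val * x 2 ^ (-v 3).val =
    x 0 ^ (-v 1).val * x 1 ^ (v 0).val * x 2 ^ (-v 3).val * x 3 ^ (v 2).val
  rw [hc 1 0, mul_assoc _ (x 3 ^ _) (x 2 ^ _), hc 3 2, ← mul_assoc]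

theorem f_Jv (h : Four0 x) {I : MulAut K} (h0 : I (x 0) = x 2) (h1 : I (x 2) = (x 0)⁻¹) (h2 : I (x 1) = (x 3)⁻¹)
    (h3 : I (x 3) = x 1) (v : V4) : I (f x v) = f x (Jv v) := by
  have hneg : ∀ i (a : ZMod 3), (x i)⁻¹ ^ a.val = x i ^ (-a).val := by
    intro i a
    have hc := h.cube i
    have e : (x i)⁻¹ = x i ^ 2 := by
      rw [inv_eq_iff_mul_eq_one, ← pow_succ']; exact hc
    have key : ∀ a : ZMod 3, ∃ k < 3, 2 * a.val = (-a).val + 3 * k := by decide
    obtain ⟨k, -, hk⟩ := key a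
    rw [e, ← pow_mul, hk, pow_add, pow_mul, hc, one_pow, mul_one]
  have hc : ∀ i j (m n : ℕ), x i ^ m * x j ^ n = x j ^ n * x i ^ m := fun i j m n =>
    ((show Commute (x i) (x j) from h.comm i j).pow_pow m n).eq
  unfold f
  simp only [map_mul, map_pow, h0, h1, h2, h3, hneg]
  change x 2 ^ (v 0).val * x 3 ^ (-v 1).val * x 0 ^ (-v 2).val * x 1 ^ (v 3).val =
    x 0 ^ (-v 2).val * x 1 ^ (v 3).val * x 2 ^ (v 0).val * x 3 ^ (-v 1).val
  rw [hc 2 3, mul_assoc (x 3 ^ _) (x 2 ^ _) (x 0 ^ _), hc 2 0, ← mul_assoc, hc 3 0,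
    mul_assoc _ (x 2 ^ _) (x 1 ^ _), hc 2 1, ← mul_assoc, mul_assoc _ (x 3 ^ _) (x 1 ^ _), hc 3 1, ← mul_assoc,
    mul_assoc _ (x 3 ^ _) (x 2 ^ _), hc 3 2, ← mul_assoc]

/-- no automorphisms inducing the quaternion group -/
theorem contra_quat (h : Four0 x) (hK : Cond K) {I J : MulAut K} (I0 : I (x 0) = x 1) (I1 : I (x 1) = (x 0)⁻¹)
    (I2 : I (x 2) = x 3) (I3 : I (x 3) = (x 2)⁻¹) (J0 : J (x 0) = x 2) (J2 : J (x 2) = (x 0)⁻¹)
    (J1 : J (x 1) = (x 3)⁻¹) (J3 : J (x 3) = x 1) : False := by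
  classical
  have hfin := hK.fin
  obtain ⟨hne, hdvd⟩ := hK.ten _ h.e81
  have hmap : ∀ φ : MulAut K, (∀ i, φ (x i) ∈ h.grp) → h.grp.map φ.toMonoidHom = h.grp := by
    intro φ hφ
    apply Subgroup.eq_of_le_of_card_ge
    · rw [Subgroup.map_le_iff_le_comap]
      exact h.grp_le hφ
    · rw [Subgroup.card_map_of_injective φ.injective]
  have hI : h.grp.map I.toMonoidHom = h.grp := hmap I (by
    intro i
    fin_cases i
    · exact I0 ▸ h.mem_grp 1
    · exact I1 ▸ inv_mem (h.mem_grp 0)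
    · exact I2 ▸ h.mem_grp 3
    · exact I3 ▸ inv_mem (h.mem_grp 2))
  have hJ : h.grp.map J.toMonoidHom = h.grp := hmap J (by
    intro i
    fin_cases i
    · exact J0 ▸ h.mem_grp 2
    · exact J1 ▸ inv_mem (h.mem_grp 3)
    · exact J2 ▸ inv_mem (h.mem_grp 0)
    · exact J3 ▸ h.mem_grp 1)
  let X : Finset V4 := Finset.univ.filter fun v => f x v ∈ XSet h.grp
  have hX : ∀ v, v ∈ X ↔ f x v ∈ XSet h.grp := fun v => by simp [X]
  have h8 := eight_dvd _ X rfl (by
    rw [hX, f_zero]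
    rintro ⟨-, h1, -⟩
    exact h1 rfl) (by
    intro v hv
    rw [hX] at hv ⊢
    rw [← h.f_Iv I0 I1 I2 I3]
    have := mem_xset_congr I hv
    rwa [hI] at this) (by
    intro v hv
    rw [hX] at hv ⊢
    rw [← h.f_Jv J0 J2 J1 J3]
    have := mem_xset_congr J hv
    rwa [hJ] at this)
  have hcard : (XSet h.grp).ncard = X.card := by
    have h1 : XSet h.grp = (fun v => f x v) '' (X : Set V4) := by
      ext y
      constructor
      · intro hy
        obtain ⟨v, hv⟩ := hy.1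
        refine ⟨v.toAdd, ?_, hv⟩
        rw [Finset.mem_coe, hX]
        have : f x v.toAdd = y := hv
        rw [this]; exact hy
      · rintro ⟨v, hv, rfl⟩
        exact (hX v).1 hv
    rw [h1, Set.ncard_image_of_injective, Set.ncard_coe_finset]
    intro v w hvw
    exact h.hom_injective (a₁ := Multiplicative.ofAdd v) (a₂ := Multiplicative.ofAdd w) hvw
  rw [hcard] at hdvd
  have h9 := h8.trans hdvd
  omega

end Four0

end Cfsg.Agent.H846
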