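import Cfsg.Agent.H846.Data
import Cfsg.Agent.H846.Final
import Cfsg.Agent.Lib.LocalCore

/-!
# 3-local recognition of `McL`: the common form of S5523 and S3367 (helper846)
-/

set_option autoImplicit false

namespace Cfsg.Agent.H846

open Subgroup
open Cfsg.Agent.Lib.LocalCore (le_map_pCore le_normalizer_map_pCore isPGroup_map_pCore)

variable {G : Type*} [Group G] [Finite G]

/-- invariance of a finite subgroup under conjugation -/
theorem mem_normalizer_of {H : Subgroup G} {n : G} (h : ∀ x ∈ H, n * x * n⁻¹ ∈ H) : n ∈ normalizer (H : Set G) := by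
  rw [mem_normalizer_iff]
  have h2 : H.map (MulAut.conj n).toMonoidHom = H := by
    apply Subgroup.eq_of_le_of_card_ge
    · rintro _ ⟨u, hu, rfl⟩
      exact h u hu
    · rw [Subgroup.card_map_of_injective (MulAut.conj n).injective]
  intro u
  constructor
  · exact h u
  · intro hu
    rw [← h2] at hu
    obtain ⟨u', hu', he⟩ := hu
    have : u' = u := (MulAut.conj n).injective he
    rwa [← this]

omit [Finite G] in
theorem conj_mem_of_normalizer {H : Subgroup G} {n : G} (h : n ∈ normalizer (H : Set G)) : ∀ x ∈ H, n * x * n⁻¹ ∈ H :=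
  fun x hx => (mem_normalizer_iff.1 h x).1 hx

omit [Finite G] in
/-- the subgroup generated by the 3-elements of a normaliser is normalised -/
theorem closure_conj {H : Subgroup G} {n : G} (hn : n ∈ normalizer (H : Set G)) {x : G}
    (hx : x ∈ closure {g : G | g ∈ normalizer (H : Set G) ∧ ∃ k : ℕ, orderOf g = 3 ^ k}) :
    n * x * n⁻¹ ∈ closure {g : G | g ∈ normalizer (H : Set G) ∧ ∃ k : ℕ, orderOf g = 3 ^ k} := by
  have h1 : closure {g : G | g ∈ normalizer (H : Set G) ∧ ∃ k : ℕ, orderOf g = 3 ^ k} ≤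
      (closure {g : G | g ∈ normalizer (H : Set G) ∧ ∃ k : ℕ, orderOf g = 3 ^ k}).comap
        (MulAut.conj n).toMonoidHom := by
    rw [closure_le]
    rintro g ⟨hg, k, hk⟩
    apply Subgroup.subset_closure
    change n * g * n⁻¹ ∈ normalizer (H : Set G) ∧ ∃ k : ℕ, orderOf (n * g * n⁻¹) = 3 ^ k
    refine ⟨mul_mem (mul_mem hn hg) (inv_mem hn), k, ?_⟩
    rw [← hk]
    exact (MulAut.conj n).orderOf_eq g
  exact h1 hx

omit [Finite G] in
theorem pow_of_order {g : G} (h : ∃ k : ℕ, orderOf g = 3 ^ k) : ∃ k : ℕ, g ^ 3 ^ k = 1 := by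
  obtain ⟨k, hk⟩ := h
  exact ⟨k, by rw [← hk]; exact pow_orderOf_eq_one g⟩

omit [Finite G] in
theorem order_of_pow {g : G} (h : ∃ k : ℕ, g ^ 3 ^ k = 1) : ∃ k : ℕ, orderOf g = 3 ^ k := by
  obtain ⟨k, hk⟩ := h
  obtain ⟨m, -, hm⟩ := (Nat.dvd_prime_pow Nat.prime_three).1 (orderOf_dvd_of_pow_eq_one hk)
  exact ⟨m, hm⟩

/-- `O_3(X)` as a subgroup of `G` -/
abbrev R3 (X : Subgroup G) : Subgroup G := (Cfsg.pCore 3 X).map X.subtype

theorem cj_R3_le (g : G) (X : Subgroup G) : cj g (R3 X) ≤ R3 (cj g X) := by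
  have h3 := Fact.mk Nat.prime_three
  refine le_map_pCore (cj_le_cj g (map_subtype_le _)) ((isPGroup_map_pCore 3 X).map _) ?_
  rintro _ ⟨x, hx, rfl⟩
  apply mem_normalizer_of
  rintro _ ⟨r, hr, rfl⟩
  change g * x * g⁻¹ * (g * r * g⁻¹) * (g * x * g⁻¹)⁻¹ ∈ _
  have : g * x * g⁻¹ * (g * r * g⁻¹) * (g * x * g⁻¹)⁻¹ = g * (x * r * x⁻¹) * g⁻¹ := by group
  rw [this]
  exact mem_cj_of (conj_mem_of_normalizer (le_normalizer_map_pCore 3 X hx) r hr)

/-- what the hypotheses at `Z` give -/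
structure ZDat (S Z L Q : Subgroup G) : Prop where
  cardS : Nat.card S = 3 ^ 6
  hn : ¬ 3 ^ 7 ∣ Nat.card G
  memZ : ∀ x, x ∈ Z ↔ x ∈ S ∧ ∀ y ∈ S, x * y = y * x
  QS : Q ≤ S
  ext : Cfsg.IsExtraspecial 3 Q
  cardQ : Nat.card Q = 3 ^ 5
  cube : ∀ q ∈ Q, q ^ 3 = 1
  nor : ∀ n, (∀ z ∈ Z, n * z * n⁻¹ ∈ Z) → ∀ q ∈ Q, n * q * n⁻¹ ∈ Q
  QL : Q ≤ L
  cardL : Nat.card L = 3 ^ 5 * 120
  LZ : ∀ x ∈ L, ∀ z ∈ Z, x * z = z * x
  LN : ∀ N : Subgroup G, N.Normal → S ≤ N → L ≤ N
  Lnor : ∀ n, (∀ z ∈ Z, n * z = z * n) → ∀ x ∈ L, n * x * n⁻¹ ∈ L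
  cardZ : Nat.card Z = 3
  Req : Q = R3 (centralizer (Z : Set G))

theorem card_SL25 : Nat.card (Matrix.SpecialLinearGroup (Fin 2) (ZMod 5)) = 120 := by
  have := Fact.mk (by norm_num : Nat.Prime 5)
  have h := Elim.card_SL2 (ZMod 5)
  rw [ZMod.card] at h
  exact h

theorem three_comm {Z : Subgroup G} (hZ : Nat.card Z = 3) {g : G} (hg : g ∈ normalizer (Z : Set G)) {k : ℕ}
    (hk : g ^ 3 ^ k = 1) : ∀ z ∈ Z, g * z = z * g := by
  have h3 := Fact.mk Nat.prime_three
  obtain ⟨n, hn⟩ := odd_exp hk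
  intro z hz
  have hfin : Finite Z := Nat.finite_of_card_ne_zero (by rw [hZ]; norm_num)
  by_cases hz1 : z = 1
  · rw [hz1, mul_one, one_mul]
  have hc : ∀ y ∈ Z, y = 1 ∨ y = z ∨ y = z⁻¹ := by
    intro y hy
    have h1 : (⟨z, hz⟩ : Z) ≠ 1 := fun h => hz1 (congrArg Subtype.val h)
    obtain ⟨i, hi⟩ := mem_zpowers_iff.1 (mem_zpowers_of_prime_card hZ (g := (⟨z, hz⟩ : Z)) (g' := ⟨y, hy⟩) h1)
    have h2 : z ^ i = y := congrArg Subtype.val hi
    have h3 : z ^ (3 : ℤ) = 1 := by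
      have := pow_card_eq_one' (x := (⟨z, hz⟩ : Z))
      rw [hZ] at this
      have h4 : z ^ 3 = 1 := congrArg Subtype.val this
      exact_mod_cast h4
    have h4 : z ^ i = z ^ (i % 3) := by
      conv_lhs => rw [← Int.emod_add_mul_ediv i 3, zpow_add, zpow_mul, h3, one_zpow, mul_one]
    have h5 : i % 3 = 0 ∨ i % 3 = 1 ∨ i % 3 = 2 := by omega
    rcases h5 with h | h | h
    · left; rw [← h2, h4, h, zpow_zero]
    · right; left; rw [← h2, h4, h, zpow_one]
    · right; right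
      rw [← h2, h4, h, eq_inv_iff_mul_eq_one]
      have : z ^ (2 : ℤ) * z = z ^ (3 : ℤ) := by group
      rw [this, h3]
  have hgz := conj_mem_of_normalizer hg z hz
  rcases hc _ hgz with h | h | h
  · exfalso
    apply hz1
    rw [mul_inv_eq_one] at h
    exact mul_left_cancel (h.trans (mul_one g).symm)
  · exact mul_inv_eq_iff_eq_mul.1 h
  · -- `g` inverts `z`
    have hinv : g * z⁻¹ * g⁻¹ = z := by
      have : g * z⁻¹ * g⁻¹ = (g * z * g⁻¹)⁻¹ := by group
      rw [this, h, inv_inv]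
    have h2 : g ^ 2 * z * (g ^ 2)⁻¹ = z := by
      have : g ^ 2 * z * (g ^ 2)⁻¹ = g * (g * z * g⁻¹) * g⁻¹ := by rw [pow_two]; group
      rw [this, h, hinv]
    have h2' : g ^ 2 * z = z * g ^ 2 := mul_inv_eq_iff_eq_mul.1 h2
    have h4 : (g ^ 2) ^ n * z = z * (g ^ 2) ^ n := (Commute.pow_left (show Commute (g ^ 2) z from h2') n).eq
    have h5 : g = ((g ^ 2) ^ n)⁻¹ := by
      rw [eq_inv_iff_mul_eq_one, ← pow_mul, ← pow_succ']
      exact hn
    have h6 : Commute ((g ^ 2) ^ n)⁻¹ z := (show Commute ((g ^ 2) ^ n) z from h4).inv_left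
    rw [h5]
    exact h6.eq

/-- the data at `Z` from the hypotheses of S5523 and S3367 -/
theorem zdat (S : Sylow 3 G) (Z : Subgroup G)
    (hZ : Z = (S : Subgroup G) ⊓ Subgroup.centralizer ((S : Subgroup G) : Set G))
    (L₀ : Subgroup G) (hL₀ : L₀ = Subgroup.closure {g : G | g ∈ Subgroup.normalizer (Z : Set G) ∧ ∃ k : ℕ, orderOf g = 3 ^ k})
    (Q : Subgroup G) (hQ : Q = (Cfsg.pCore 3 (Subgroup.normalizer (Z : Set G))).map (Subgroup.normalizer (Z : Set G)).subtype)
    (hQex : Cfsg.IsExtraspecial 3 Q) (hQcard : Nat.card Q = 3 ^ 5) (hQexp : ∀ a ∈ Q, a ^ 3 = 1)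
    (hQL : Q ≤ L₀) [hQn : (Q.subgroupOf L₀).Normal] (eL : L₀ ⧸ Q.subgroupOf L₀ ≃* Matrix.SpecialLinearGroup (Fin 2) (ZMod 5)) :
    ZDat (S : Subgroup G) Z L₀ Q := by
  have h3 := Fact.mk Nat.prime_three
  have memZ : ∀ x, x ∈ Z ↔ x ∈ (S : Subgroup G) ∧ ∀ y ∈ (S : Subgroup G), x * y = y * x := by
    intro x
    rw [hZ, mem_inf, mem_centralizer_iff]
    exact ⟨fun h => ⟨h.1, fun y hy => (h.2 y hy).symm⟩, fun h => ⟨h.1, fun y hy => (h.2 y hy).symm⟩⟩
  have hSN : (S : Subgroup G) ≤ normalizer (Z : Set G) := by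
    intro s hs
    apply mem_normalizer_of
    intro z hz
    rw [← ((memZ z).1 hz).2 s hs, mul_assoc, mul_inv_cancel, mul_one]
    exact hz
  have cardL : Nat.card L₀ = 3 ^ 5 * 120 := by
    have h := Subgroup.card_eq_card_quotient_mul_card_subgroup (Q.subgroupOf L₀)
    rw [Nat.card_congr eL.toEquiv, card_SL25, Nat.card_congr (subgroupOfEquivOfLe hQL).toEquiv, hQcard] at h
    rw [h, mul_comm]
  obtain ⟨k, hk⟩ := IsPGroup.iff_card.1 S.isPGroup'
  have hSL : (S : Subgroup G) ≤ L₀ := by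
    rw [hL₀]
    intro s hs
    apply Subgroup.subset_closure
    refine ⟨hSN hs, ?_⟩
    apply order_of_pow
    refine ⟨k, ?_⟩
    have := pow_card_eq_one' (x := (⟨s, hs⟩ : (S : Subgroup G)))
    rw [hk] at this
    exact congrArg Subtype.val this
  have hcS : Nat.card (S : Subgroup G) = 3 ^ 6 := by
    have h1 : 3 ^ 6 ∣ Nat.card G := by
      have : Nat.card L₀ = 3 ^ 6 * 40 := by rw [cardL]; norm_num
      exact (Dvd.intro _ this.symm).trans (card_subgroup_dvd_card L₀)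
    have h2 : 3 ^ 6 ∣ Nat.card (S : Subgroup G) := S.pow_dvd_card_of_pow_dvd_card h1
    have h4 := card_dvd_of_le hSL
    rw [hk] at h2 h4 ⊢
    have h5 : 6 ≤ k := (Nat.pow_dvd_pow_iff_le_right (by norm_num)).1 h2
    have h6 : k ≤ 6 := by
      by_contra hcon
      push Not at hcon
      have h7 : 3 ^ 7 ∣ Nat.card L₀ := (pow_dvd_pow 3 hcon).trans h4
      rw [cardL] at h7
      exact absurd h7 (by norm_num)
    have : k = 6 := by omega
    rw [this]
  have hn : ¬ 3 ^ 7 ∣ Nat.card G := by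
    intro h
    have h2 : 3 ^ 7 ∣ Nat.card (S : Subgroup G) := S.pow_dvd_card_of_pow_dvd_card h
    rw [hcS] at h2
    exact absurd (Nat.le_of_dvd (by norm_num) h2) (by norm_num)
  have hQp : IsPGroup 3 Q := by rw [hQ]; exact isPGroup_map_pCore 3 _
  have nor : ∀ n, (∀ z ∈ Z, n * z * n⁻¹ ∈ Z) → ∀ q ∈ Q, n * q * n⁻¹ ∈ Q := by
    intro n hn
    rw [hQ]
    exact conj_mem_of_normalizer (le_normalizer_map_pCore 3 _ (mem_normalizer_of hn))
  have hQS : Q ≤ (S : Subgroup G) := by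
    have h1 : (S : Subgroup G) ≤ normalizer (Q : Set G) := fun s hs =>
      mem_normalizer_of (nor s (conj_mem_of_normalizer (hSN hs)))
    have h2 : IsPGroup 3 (Q ⊔ (S : Subgroup G) : Subgroup G) := hQp.to_sup_of_normal_left' S.isPGroup' h1
    have h4 := S.is_maximal' h2 le_sup_right
    rw [← h4]
    exact le_sup_left
  have hZS : Z ≤ (S : Subgroup G) := fun z hz => ((memZ z).1 hz).1
  have hZp : IsPGroup 3 Z := S.isPGroup'.to_le hZS
  have hZQ : Z ≤ Q := by
    rw [hQ]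
    exact le_map_pCore le_normalizer hZp le_rfl
  have hcen : Nat.card ((center Q).map Q.subtype) = 3 := by
    rw [Subgroup.card_map_of_injective Q.subtype_injective, Transfer.Extraspecial.card_center hQex]
  have hZc : Z ≤ (center Q).map Q.subtype := by
    intro z hz
    refine ⟨⟨z, hZQ hz⟩, ?_, rfl⟩
    rw [SetLike.mem_coe, mem_center_iff]
    intro g
    exact Subtype.ext (((memZ z).1 hz).2 g (hQS g.2)).symm
  have cardZ : Nat.card Z = 3 := by
    have h1 := card_dvd_of_le hZc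
    rw [hcen] at h1
    rcases (Nat.dvd_prime Nat.prime_three).1 h1 with h | h
    · exfalso
      have h1 : Z = ⊥ := Subgroup.card_eq_one.1 h
      have hSnt : Nontrivial (S : Subgroup G) := by
        rw [← Finite.one_lt_card_iff_nontrivial, hcS]
        norm_num
      have h2 := S.isPGroup'.center_nontrivial
      obtain ⟨c, hc⟩ := exists_ne (1 : center (S : Subgroup G))
      have h6 : ((c : (S : Subgroup G)) : G) ∈ Z := by
        rw [memZ]
        refine ⟨(c : (S : Subgroup G)).2, fun y hy => ?_⟩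
        exact (congrArg Subtype.val (mem_center_iff.1 c.2 ⟨y, hy⟩)).symm
      rw [h1, mem_bot] at h6
      exact hc (Subtype.ext (Subtype.ext h6))
    · exact h
  have hC : ∀ x, x ∈ centralizer (Z : Set G) ↔ ∀ z ∈ Z, x * z = z * x := by
    intro x
    rw [mem_centralizer_iff]
    exact ⟨fun h z hz => (h z hz).symm, fun h z hz => (h z hz).symm⟩
  have hCN : ∀ x ∈ centralizer (Z : Set G), ∀ z ∈ Z, x * z * x⁻¹ ∈ Z := by
    intro x hx z hz
    rw [(hC x).1 hx z hz, mul_assoc, mul_inv_cancel, mul_one]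
    exact hz
  refine
    { cardS := hcS
      hn := hn
      memZ := memZ
      QS := hQS
      ext := hQex
      cardQ := hQcard
      cube := hQexp
      nor := nor
      QL := hQL
      cardL := cardL
      LZ := ?_
      LN := ?_
      Lnor := ?_
      cardZ := cardZ
      Req := ?_ }
  · intro x hx
    have h1 : L₀ ≤ centralizer (Z : Set G) := by
      rw [hL₀, closure_le]
      rintro g ⟨hg, hgk⟩
      obtain ⟨m, hm⟩ := pow_of_order hgk
      exact (hC g).2 (three_comm cardZ hg hm)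
    exact (hC x).1 (h1 hx)
  · intro N hN hSN'
    rw [hL₀, closure_le]
    rintro g ⟨hg, hgk⟩
    obtain ⟨m, hm⟩ := pow_of_order hgk
    exact mem_of_three hcS hn hN hSN' hm
  · intro n hn x hx
    rw [hL₀] at hx ⊢
    exact closure_conj (mem_normalizer_of (hCN n ((hC n).2 hn))) hx
  · apply le_antisymm
    · apply le_map_pCore _ hQp
      · intro c hc
        exact mem_normalizer_of (nor c (hCN c hc))
      · intro q hq
        exact (hC q).2 fun z hz => (((memZ z).1 hz).2 q (hQS hq)).symm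
    · conv_rhs => rw [hQ]
      refine le_map_pCore ((map_subtype_le _).trans fun c hc => mem_normalizer_of (hCN c hc))
        (isPGroup_map_pCore 3 _) ?_
      intro n hn
      apply mem_normalizer_of
      intro r hr
      have h1 := cj_R3_le n (centralizer (Z : Set G)) (mem_cj_of hr)
      have h2 : cj n (centralizer (Z : Set G)) = centralizer (Z : Set G) := by
        apply cj_eq_of_normalizes
        intro c hc
        rw [hC] at hc ⊢
        intro z hz
        have h4 : n⁻¹ * z * n ∈ Z := by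
          have := conj_mem_of_normalizer (inv_mem hn) z hz
          rwa [inv_inv] at this
        have h5 := hc _ h4
        calc n * c * n⁻¹ * z = n * (c * (n⁻¹ * z * n)) * n⁻¹ := by group
          _ = n * ((n⁻¹ * z * n) * c) * n⁻¹ := by rw [h5]
          _ = z * (n * c * n⁻¹) := by group
      rw [h2] at h1
      exact h1

/-- the data at `J` -/
theorem jdat (J : Subgroup G) (hJcomm : IsMulCommutative J) (hJexp : ∀ a ∈ J, a ^ 3 = 1)
    (hJcard : Nat.card J = 3 ^ 4)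
    (M₀ : Subgroup G) (hM₀ : M₀ = Subgroup.closure {g : G | g ∈ Subgroup.normalizer (J : Set G) ∧ ∃ k : ℕ, orderOf g = 3 ^ k})
    (hJM : J ≤ M₀) [hJn : (J.subgroupOf M₀).Normal] (eM : M₀ ⧸ J.subgroupOf M₀ ≃* alternatingGroup (Fin 6)) :
    ∃ π : M₀ →* ASix.A6, JDat J M₀ π := by
  refine ⟨eM.toMonoidHom.comp (QuotientGroup.mk' _), ?_⟩
  refine
    { e81 := ⟨fun x hx y hy => ?_, hJexp, by rw [hJcard]; norm_num⟩
      JM := hJM
      surj := eM.surjective.comp (QuotientGroup.mk'_surjective _)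
      ker := ?_
      norm := ?_
      three := ?_ }
  · exact congrArg Subtype.val (hJcomm.is_comm.comm (⟨x, hx⟩ : J) ⟨y, hy⟩)
  · intro m
    change eM (QuotientGroup.mk' _ m) = 1 ↔ _
    rw [map_eq_one_iff eM eM.injective]
    exact (QuotientGroup.eq_one_iff m).trans mem_subgroupOf
  · intro n hn m hm
    rw [hM₀] at hm ⊢
    exact closure_conj (mem_normalizer_of hn) hm
  · intro x hx hk
    rw [hM₀]
    exact Subgroup.subset_closure ⟨mem_normalizer_of hx, order_of_pow hk⟩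

/-- the conclusion -/
theorem ZDat.concl {S Z L Q J M : Subgroup G} (W : ZDat S Z L Q) {π : M →* ASix.A6} (D : JDat J M π) (hJS : J ≤ S)
    (cenQ : ∀ x, (∀ q ∈ Q, x * q = q * x) → x ∈ Q) :
    Nonempty (G ≃* Cfsg.Spor.McL) ∨ Nonempty (G ≃* MulAut Cfsg.Spor.McL) := by
  obtain ⟨L', h2⟩ := mk_loc W.cardS W.memZ W.QS W.ext W.cardQ W.cube W.nor cenQ W.QL W.cardL W.LZ W.LN W.Lnor
  obtain ⟨K, hK, -, hm, hC⟩ := D.mcl L' W.hn hJS h2
  exact H846.concl hm hC

end Cfsg.Agent.H846
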