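import Cfsg.Agent.H846.Core7

/-!
# The 2-part of the centraliser of a group of order 3 with residue `SL_2(5)` (helper846)
-/

set_option autoImplicit false

namespace Cfsg.Agent.H846.TwoPart

open Subgroup

/-- a group with a normal subgroup of order dividing 120 in which elements of order 5 have small centralisers -/
theorem not_dvd_of_small {Γ : Type*} [Group Γ] [Finite Γ] (L : Subgroup Γ) [L.Normal] (hL : Nat.card L ∣ 120)
    {h : Γ} (hh : h ∈ L) (h5 : orderOf h = 5) (e : Γ)
    (hC : ∀ y : Γ, y * h = h * y → (∃ k : ℕ, y ^ 2 ^ k = 1) → y = 1 ∨ y = e) : ¬ 2 ^ 5 ∣ Nat.card Γ := by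
  have := Fact.mk (by norm_num : Nat.Prime 5)
  have := Fact.mk Nat.prime_two
  classical
  intro hdvd
  let h' : L := ⟨h, hh⟩
  have h5' : orderOf h' = 5 := by rw [← h5]; exact Subgroup.orderOf_mk _ _
  have hLpos : 0 < Nat.card L := Nat.card_pos
  have hfac : (Nat.card L).factorization 5 = 1 := by
    apply le_antisymm
    · by_contra hcon
      push Not at hcon
      have h1 : 5 ^ 2 ∣ Nat.card L :=
        (Nat.Prime.pow_dvd_iff_le_factorization (by norm_num) hLpos.ne').2 hcon
      have := h1.trans hL
      omega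
    · have h1 : 5 ^ 1 ∣ Nat.card L := by
        rw [pow_one, ← h5']; exact orderOf_dvd_natCard h'
      exact (Nat.Prime.pow_dvd_iff_le_factorization (by norm_num) hLpos.ne').1 h1
  let P : Sylow 5 L := Sylow.ofCard (zpowers h') (by rw [Nat.card_zpowers, h5', hfac, pow_one])
  have hP : (P : Subgroup L) = zpowers h' := rfl
  have hPm : (P : Subgroup L).map L.subtype = zpowers h := by
    rw [hP, MonoidHom.map_zpowers]; rfl
  let N : Subgroup Γ := normalizer ((zpowers h : Subgroup Γ) : Set Γ)
  have hfr : N ⊔ L = ⊤ := by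
    have := P.normalizer_sup_eq_top
    rwa [hPm] at this
  -- `|Γ| ∣ |N| n_5`
  have h1 : L.index = L.relIndex N := by
    rw [← Subgroup.relIndex_sup_right (H := N) (K := L), hfr, Subgroup.relIndex_top_right]
  have h2 := Subgroup.card_mul_index L
  have h3 := relIndex_mul_card' (N ⊓ L) N inf_le_left
  rw [Subgroup.inf_relIndex_left] at h3
  have h4 : (normalizer ((P : Subgroup L) : Set L)).map L.subtype ≤ N ⊓ L := by
    rintro _ ⟨x, hx, rfl⟩
    refine mem_inf.2 ⟨?_, x.2⟩
    rw [SetLike.mem_coe, mem_normalizer_iff] at hx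
    rw [mem_normalizer_iff]
    intro y
    rw [← hPm]
    constructor
    · rintro ⟨z, hz, rfl⟩
      exact ⟨x * z * x⁻¹, (hx z).1 hz, rfl⟩
    · rintro ⟨z, hz, hzy⟩
      refine ⟨x⁻¹ * z * x, (hx _).2 ?_, ?_⟩
      · have : x * (x⁻¹ * z * x) * x⁻¹ = z := by group
        rwa [this]
      · have hzy' : (z : Γ) = (x : Γ) * y * (x : Γ)⁻¹ := hzy
        change (x : Γ)⁻¹ * (z : Γ) * x = y
        rw [hzy']; group
  have h5c := card_dvd_of_le h4
  rw [Subgroup.card_map_of_injective L.subtype_injective] at h5c
  obtain ⟨c, hc⟩ := h5c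
  have h6 := Subgroup.card_mul_index (normalizer ((P : Subgroup L) : Set L))
  have e6 : Nat.card (Sylow 5 L) = (normalizer ((P : Subgroup L) : Set L)).index := P.card_eq_index_normalizer
  rw [← e6] at h6
  have hΓ : Nat.card Γ ∣ Nat.card N * Nat.card (Sylow 5 L) := by
    refine ⟨c, ?_⟩
    have hpos : 0 < Nat.card (normalizer ((P : Subgroup L) : Set L)) := Nat.card_pos
    apply Nat.eq_of_mul_eq_mul_left hpos
    calc Nat.card (normalizer ((P : Subgroup L) : Set L)) * (Nat.card N * Nat.card (Sylow 5 L))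
        = Nat.card N * (Nat.card (normalizer ((P : Subgroup L) : Set L)) * Nat.card (Sylow 5 L)) := by ring
      _ = L.relIndex N * Nat.card (N ⊓ L : Subgroup Γ) * Nat.card L := by rw [h6, h3]
      _ = (Nat.card L * L.index) * Nat.card (N ⊓ L : Subgroup Γ) := by rw [h1]; ring
      _ = Nat.card Γ * (Nat.card (normalizer ((P : Subgroup L) : Set L)) * c) := by rw [h2, hc]
      _ = Nat.card (normalizer ((P : Subgroup L) : Set L)) * (Nat.card Γ * c) := by ring
  -- `n_5 ∣ 6`
  have hn5 : Nat.card (Sylow 5 L) ∣ 6 := by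
    have h7 : Nat.card (Sylow 5 L) ∣ 24 := by
      have h8 := P.card_dvd_index
      have h9 := Subgroup.card_mul_index (P : Subgroup L)
      have h10 : Nat.card (P : Subgroup L) = 5 := by rw [hP, Nat.card_zpowers, h5']
      rw [h10] at h9
      rw [← h9] at hL
      have h11 : (P : Subgroup L).index ∣ 24 := by
        have : 5 * (P : Subgroup L).index ∣ 5 * 24 := hL
        exact Nat.dvd_of_mul_dvd_mul_left (by norm_num) this
      exact h8.trans h11
    have h8 := card_sylow_modEq_one 5 L
    have h9 : Nat.card (Sylow 5 L) ≤ 24 := Nat.le_of_dvd (by norm_num) h7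
    generalize Nat.card (Sylow 5 L) = n at h7 h8 h9
    have h8' : n % 5 = 1 := h8
    interval_cases n <;> omega
  -- `|N| ∣ 4 |C|`
  let C : Subgroup Γ := centralizer ((zpowers h : Subgroup Γ) : Set Γ)
  have hNC : Nat.card N ∣ 4 * Nat.card C := by
    have h7 : Nat.card (MulAut (zpowers h)) = 4 := by
      rw [IsCyclic.card_mulAut, Nat.card_zpowers, h5]; rfl
    have h8 := Subgroup.card_mul_index ((zpowers h).normalizerMonoidHom.ker)
    rw [Subgroup.index_ker] at h8
    have h9 : Nat.card (zpowers h).normalizerMonoidHom.range ∣ 4 := by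
      rw [← h7]; exact card_subgroup_dvd_card _
    have h10 : Nat.card (zpowers h).normalizerMonoidHom.ker = Nat.card C := by
      rw [Subgroup.normalizerMonoidHom_ker]
      exact Nat.card_congr (subgroupOfEquivOfLe (centralizer_le_normalizer _)).toEquiv
    rw [h10] at h8
    have h11 : Nat.card N = Nat.card C * Nat.card (zpowers h).normalizerMonoidHom.range := h8.symm
    rw [h11, mul_comm]
    exact Nat.mul_dvd_mul_right h9 _
  -- `4 ∤ |C|`
  have hC4 : ¬ 4 ∣ Nat.card C := by
    intro h7
    let R : Sylow 2 C := default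
    have h8 : 2 ^ 2 ∣ Nat.card R := R.pow_dvd_card_of_pow_dvd_card h7
    have h9 : 4 ≤ Nat.card R := Nat.le_of_dvd Nat.card_pos h8
    have hR : ∀ y : R, ((y : C) : Γ) = 1 ∨ ((y : C) : Γ) = e := by
      intro y
      apply hC
      · have := (y : C).2
        rw [mem_centralizer_iff] at this
        exact (this h (mem_zpowers h)).symm
      · obtain ⟨k, hk⟩ := R.isPGroup' y
        exact ⟨k, congrArg (fun z : R => ((z : C) : Γ)) hk⟩
    have h10 : Nat.card R ≤ 2 := by
      have hinj : Function.Injective (fun y : R => decide (((y : C) : Γ) = 1)) := by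
        intro y z hyz
        by_cases hy : ((y : C) : Γ) = 1
        · have hz : ((z : C) : Γ) = 1 := by simpa [hy] using hyz
          exact Subtype.ext (Subtype.ext (hy.trans hz.symm))
        · have hz : ¬ ((z : C) : Γ) = 1 := by simpa [hy] using hyz
          have h1 := (hR y).resolve_left hy
          have h2 := (hR z).resolve_left hz
          exact Subtype.ext (Subtype.ext (h1.trans h2.symm))
      refine (Nat.card_le_card_of_injective _ hinj).trans ?_
      simp
    omega
  have h7 : 2 ^ 5 ∣ 4 * Nat.card C * 6 := hdvd.trans (hΓ.trans (Nat.mul_dvd_mul hNC hn5))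
  apply hC4
  omega

end Cfsg.Agent.H846.TwoPart
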