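import Mathlib

/-!
# Isometries of a symplectic space of order 81 commuting with an element of order 5 (helper846)
-/

set_option autoImplicit false

namespace Cfsg.Agent.H846.TwoPart

variable {W : Type*} [AddCommGroup W] [Finite W]

/-- invariant subgroups are trivial or everything -/
theorem card_invariant (hW : Nat.card W = 81) {H : AddMonoid.End W} (hH5 : H ^ 5 = 1)
    (hfix : ∀ w, H w = w → w = 0) (K : AddSubgroup W) (hK : ∀ w ∈ K, H w ∈ K) :
    K = ⊥ ∨ K = ⊤ := by
  classical
  have := Fact.mk (by norm_num : Nat.Prime 5)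
  let _ : Fintype K := Fintype.ofFinite K
  let f : Function.End K := fun w => ⟨H w, hK w w.2⟩
  have hpow : ∀ n : ℕ, ∀ w : K, (((f ^ n : Function.End K) w : K) : W) = (H ^ n) w := by
    intro n
    induction n with
    | zero => intro w; simp; rfl
    | succ n ih =>
      intro w
      rw [pow_succ' f, pow_succ' H]
      change H (((f ^ n : Function.End K) w : K) : W) = H ((H ^ n) w)
      rw [ih]
  have hf : f ^ 5 ^ 1 = 1 := by
    rw [pow_one]
    funext w
    apply Subtype.ext
    rw [hpow, hH5]
    rfl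
  have h := Equiv.Perm.card_fixedPoints_modEq (f := f) (p := 5) (n := 1) hf
  have h1 : Nat.card (Function.fixedPoints f) = 1 := by
    rw [Nat.card_eq_one_iff_unique]
    constructor
    · constructor
      intro a b
      have ha : H a.1.1 = a.1.1 := congrArg Subtype.val a.2
      have hb : H b.1.1 = b.1.1 := congrArg Subtype.val b.2
      exact Subtype.ext (Subtype.ext ((hfix _ ha).trans (hfix _ hb).symm))
    · exact ⟨⟨0, Subtype.ext (map_zero H)⟩⟩
  rw [← Nat.card_eq_fintype_card, ← Nat.card_eq_fintype_card, h1] at h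
  have h2 : Nat.card K ∣ 3 ^ 4 := by
    have := K.card_addSubgroup_dvd_card
    rw [hW] at this
    exact this.trans (by norm_num)
  obtain ⟨k, hk, hc⟩ := (Nat.dvd_prime_pow Nat.prime_three).1 h2
  rw [hc] at h
  have h' : 3 ^ k % 5 = 1 % 5 := h
  have hk' : k = 0 ∨ k = 4 := by
    interval_cases k <;> simp_all
  rcases hk' with rfl | rfl
  · left
    rw [pow_zero] at hc
    exact AddSubgroup.card_eq_one.1 hc
  · right
    apply AddSubgroup.eq_top_of_card_eq
    rw [hc, hW]
    norm_num

theorem eq_zero_or_injective (hW : Nat.card W = 81) {H : AddMonoid.End W} (hH5 : H ^ 5 = 1)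
    (hfix : ∀ w, H w = w → w = 0) {T : AddMonoid.End W} (hT : T * H = H * T) :
    T = 0 ∨ ∀ w, T w = 0 → w = 0 := by
  let K : AddSubgroup W :=
    { carrier := {w | T w = 0}
      zero_mem' := map_zero T
      add_mem' := by
        intro a b ha hb
        change T (a + b) = 0
        rw [map_add, show T a = 0 from ha, show T b = 0 from hb, add_zero]
      neg_mem' := by
        intro a ha
        change T (-a) = 0
        rw [map_neg, show T a = 0 from ha, neg_zero] }
  rcases card_invariant hW hH5 hfix K (by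
    intro w hw
    have hw' : T w = 0 := hw
    have h1 : T (H w) = H (T w) := DFunLike.congr_fun hT w
    change T (H w) = 0
    rw [h1, hw', map_zero]) with h | h
  · right
    intro w hw
    have : w ∈ K := hw
    rw [h] at this
    exact this
  · left
    ext w
    have : w ∈ K := by rw [h]; trivial
    exact this

theorem eq_zero_of_mul {T U : AddMonoid.End W} (hT : T = 0 ∨ ∀ w, T w = 0 → w = 0) (h : T * U = 0) :
    T = 0 ∨ U = 0 := by
  rcases hT with hT | hT
  · exact Or.inl hT
  · right
    ext w
    exact hT _ (DFunLike.congr_fun h w)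

/-- isometries of 2-power order commuting with `H` -/
theorem eq_one_or_neg_one (hW : Nat.card W = 81) (h3 : ∀ w : W, 3 • w = 0) {H : AddMonoid.End W} (hH5 : H ^ 5 = 1)
    (hfix : ∀ w, H w = w → w = 0) {A : Type*} [AddCommGroup A] (h2A : ∀ a : A, a = -a → a = 0)
    (β : W → W → A) (hl : ∀ u u' v, β (u + u') v = β u v + β u' v)
    (hr : ∀ u v v', β u (v + v') = β u v + β u v')
    (hH : ∀ u v, β (H u) (H v) = β u v) (hne : ∃ u v, β u v ≠ 0) (k : ℕ) :
    ∀ Y : AddMonoid.End W, Y * H = H * Y → (∀ u v, β (Y u) (Y v) = β u v) → Y ^ 2 ^ k = 1 →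
      Y = 1 ∨ Y = -1 := by
  have hl0 : ∀ v, β 0 v = 0 := fun v => by
    have := hl 0 0 v
    rw [add_zero] at this
    simpa using this
  have hr0 : ∀ v, β v 0 = 0 := fun v => by
    have := hr v 0 0
    rw [add_zero] at this
    simpa using this
  have hln : ∀ u v, β (-u) v = -β u v := fun u v => by
    have := hl (-u) u v
    rw [neg_add_cancel, hl0] at this
    exact eq_neg_of_add_eq_zero_left this.symm
  have hrn : ∀ u v, β u (-v) = -β u v := fun u v => by
    have := hr u (-v) v
    rw [neg_add_cancel, hr0] at this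
    exact eq_neg_of_add_eq_zero_left this.symm
  have h3' : (3 : AddMonoid.End W) = 0 := by
    ext w
    have : (3 : AddMonoid.End W) w = 3 • w := by
      have h : (3 : AddMonoid.End W) = 1 + 1 + 1 := by norm_num
      rw [h]
      change (w + w) + w = 3 • w
      rw [show (3 : ℕ) = 1 + 1 + 1 from rfl, add_smul, add_smul, one_smul]
    rw [this, h3]
    rfl
  -- `1 + H + H² + H³ + H⁴ = 0`
  have hΦ : 1 + H + H ^ 2 + H ^ 3 + H ^ 4 = 0 := by
    ext w
    apply hfix
    have h1 : H * (1 + H + H ^ 2 + H ^ 3 + H ^ 4) = 1 + H + H ^ 2 + H ^ 3 + H ^ 4 := by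
      have : H * (1 + H + H ^ 2 + H ^ 3 + H ^ 4) = H + H ^ 2 + H ^ 3 + H ^ 4 + H ^ 5 := by noncomm_ring
      rw [this, hH5]; abel
    exact DFunLike.congr_fun h1 w
  set I : AddMonoid.End W := H + H ^ 4 - 1 with hI
  have hI2 : I * I = -1 := by
    have h1 : I * I = (1 + H + H ^ 2 + H ^ 3 + H ^ 4) - 1 + 3 * (1 - H - H ^ 4)
        + (H ^ 5 - 1) * (2 + H ^ 3) := by
      rw [hI]; noncomm_ring
    rw [h1, hΦ, h3', hH5]
    noncomm_ring
  have hIadj : ∀ u v, β (I u) v = β u (I v) := by
    intro u v
    have hH5' : ∀ w : W, H ((H ^ 4) w) = w := fun w => by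
      have : H * H ^ 4 = 1 := by rw [← pow_succ', hH5]
      exact DFunLike.congr_fun this w
    have h1 : β (H u) v = β u ((H ^ 4) v) := by
      conv_lhs => rw [← hH5' v]
      rw [hH]
    have h2 : β ((H ^ 4) u) v = β u (H v) := by
      rw [← hH ((H ^ 4) u) v, hH5']
    have e1 : I u = H u + (H ^ 4) u + -u := by
      rw [hI]; change H u + (H ^ 4) u - u = _; rw [sub_eq_add_neg]
    have e2 : I v = H v + (H ^ 4) v + -v := by
      rw [hI]; change H v + (H ^ 4) v - v = _; rw [sub_eq_add_neg]
    rw [e1, e2, hl, hl, hln, hr, hr, hrn, h1, h2]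
    abel
  have hIH : I * H = H * I := by rw [hI]; noncomm_ring
  induction k with
  | zero =>
    intro Y _ _ hY
    left
    rwa [pow_zero, pow_one] at hY
  | succ k ih =>
    intro Y hYH hβY hY
    have h1 : (Y ^ 2) ^ 2 ^ k = 1 := by
      rw [← pow_mul, ← pow_succ']; exact hY
    have h2 : Y ^ 2 * H = H * Y ^ 2 := by
      rw [pow_two, mul_assoc, hYH, ← mul_assoc, hYH, mul_assoc]
    have h4 : ∀ u v, β ((Y ^ 2) u) ((Y ^ 2) v) = β u v := by
      intro u v
      have : ∀ w, (Y ^ 2) w = Y (Y w) := fun w => by rw [pow_two]; rfl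
      rw [this, this, hβY, hβY]
    rcases ih (Y ^ 2) h2 h4 h1 with h5 | h5
    · have h6 : (Y - 1) * (Y + 1) = 0 := by
        have : (Y - 1) * (Y + 1) = Y ^ 2 - 1 := by noncomm_ring
        rw [this, h5, sub_self]
      have h7 : (Y - 1) * H = H * (Y - 1) := by rw [sub_mul, mul_sub, hYH, one_mul, mul_one]
      rcases eq_zero_of_mul (eq_zero_or_injective hW hH5 hfix h7) h6 with h8 | h8
      · left; exact sub_eq_zero.1 h8
      · right; exact eq_neg_of_add_eq_zero_left h8
    · exfalso
      have hYI : Y * I = I * Y := by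
        have h6 : Y * H ^ 4 = H ^ 4 * Y := by
          have : Commute Y H := hYH
          exact (this.pow_right 4).eq
        rw [hI, mul_sub, mul_add, sub_mul, add_mul, hYH, h6, mul_one, one_mul]
      have h6 : (Y - I) * (Y + I) = 0 := by
        have : (Y - I) * (Y + I) = Y ^ 2 - I * I + (Y * I - I * Y) := by noncomm_ring
        rw [this, h5, hI2, hYI]; simp
      have h7 : (Y - I) * H = H * (Y - I) := by rw [sub_mul, mul_sub, hYH, hIH]
      have key : ∀ u v, β (I u) (I v) = β u v → β u v = 0 := by
        intro u v h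
        rw [hIadj] at h
        have h8 : I (I v) = -v := DFunLike.congr_fun hI2 v
        rw [h8, hrn] at h
        exact h2A _ h.symm
      obtain ⟨u, v, huv⟩ := hne
      apply huv
      apply key
      rcases eq_zero_of_mul (eq_zero_or_injective hW hH5 hfix h7) h6 with h8 | h8
      · rw [← sub_eq_zero.1 h8, hβY]
      · have h9 : Y = -I := eq_neg_of_add_eq_zero_left h8
        have h10 := hβY u v
        rw [h9] at h10
        have e1 : ∀ w, (-I) w = -(I w) := fun w => rfl
        rw [e1, e1, hln, hrn, neg_neg] at h10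
        exact h10

end Cfsg.Agent.H846.TwoPart
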