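import Cfsg.Agent.H846.TwoPart
import Cfsg.Agent.H846.TwoPart2

/-!
# The 2-part of a group of characteristic 3 with residue of order 120 (helper846)
-/

set_option autoImplicit false

namespace Cfsg.Agent.H846.TwoPart

open Subgroup

theorem not_dvd_of_small' {Γ : Type*} [Group Γ] [Finite Γ] (L : Subgroup Γ) [L.Normal] (hL : Nat.card L ∣ 120)
    {h : Γ} (hh : h ∈ L) (h5 : orderOf h = 5)
    (hC : ∀ y z : Γ, y * h = h * y → (∃ k : ℕ, y ^ 2 ^ k = 1) → z * h = h * z → (∃ k : ℕ, z ^ 2 ^ k = 1) →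
      y ≠ 1 → z ≠ 1 → y = z) : ¬ 2 ^ 5 ∣ Nat.card Γ := by
  by_cases hex : ∃ y : Γ, y * h = h * y ∧ (∃ k : ℕ, y ^ 2 ^ k = 1) ∧ y ≠ 1
  · obtain ⟨e, he1, he2, he3⟩ := hex
    refine not_dvd_of_small L hL hh h5 e ?_
    intro y hy1 hy2
    by_cases hy : y = 1
    · exact Or.inl hy
    · exact Or.inr (hC y e hy1 hy2 he1 he2 hy he3)
  · refine not_dvd_of_small L hL hh h5 1 ?_
    intro y hy1 hy2
    by_contra hcon
    exact hex ⟨y, hy1, hy2, fun h => hcon (Or.inl h)⟩

variable {C : Type*} [Group C]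

theorem mod5 : ∀ k ≤ 5, 3 ^ 5 % 5 = 3 ^ k % 5 → k = 1 ∨ k = 5 := by decide

/-- the commutator -/
def cm (a b : C) : C := a * b * a⁻¹ * b⁻¹

theorem cm_mul_left {Z : Subgroup C} (hZ : ∀ z ∈ Z, ∀ c, z * c = c * z) {a a' b : C} (h : cm a' b ∈ Z) :
    cm (a * a') b = cm a b * cm a' b := by
  have h1 := hZ _ h
  have e : cm (a * a') b = a * (cm a' b) * (b * a⁻¹ * b⁻¹) := by unfold cm; group
  rw [e, ← h1 a, mul_assoc (cm a' b) a, h1]
  unfold cm; group

theorem cm_mul_right {Z : Subgroup C} (hZ : ∀ z ∈ Z, ∀ c, z * c = c * z) {a b b' : C} (h : cm a b' ∈ Z) :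
    cm a (b * b') = cm a b * cm a b' := by
  have h1 := hZ _ h
  have e : cm a (b * b') = (a * b * a⁻¹) * (cm a b') * b⁻¹ := by unfold cm; group
  rw [e, ← h1, mul_assoc, h1]
  unfold cm; group

theorem cm_left_one {Z : Subgroup C} (hZ : ∀ z ∈ Z, ∀ c, z * c = c * z) {a b : C} (h : a ∈ Z) : cm a b = 1 := by
  unfold cm; rw [hZ a h b]; group

theorem cm_right_one {Z : Subgroup C} (hZ : ∀ z ∈ Z, ∀ c, z * c = c * z) {a b : C} (h : b ∈ Z) : cm a b = 1 := by
  unfold cm; rw [← hZ b h a]; group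

theorem conj_pow_of {Z : Subgroup C} (hZ : ∀ z ∈ Z, ∀ c, z * c = c * z) {x q : C} (h : cm x q ∈ Z) (n : ℕ) :
    x ^ n * q * (x ^ n)⁻¹ = (cm x q) ^ n * q := by
  induction n with
  | zero => simp
  | succ n ih =>
    have h1 : x * q * x⁻¹ = cm x q * q := by unfold cm; group
    have hzn : (cm x q) ^ n ∈ Z := pow_mem h n
    calc x ^ (n + 1) * q * (x ^ (n + 1))⁻¹ = x * (x ^ n * q * (x ^ n)⁻¹) * x⁻¹ := by rw [pow_succ']; group
      _ = x * ((cm x q) ^ n * q) * x⁻¹ := by rw [ih]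
      _ = (x * (cm x q) ^ n) * q * x⁻¹ := by group
      _ = ((cm x q) ^ n * x) * q * x⁻¹ := by rw [hZ _ hzn]
      _ = (cm x q) ^ n * (x * q * x⁻¹) := by group
      _ = (cm x q) ^ n * (cm x q * q) := by rw [h1]
      _ = (cm x q) ^ (n + 1) * q := by rw [pow_succ, mul_assoc]

/-- elements of order prime to 3 acting trivially on `q` modulo `Z` centralise `q` -/
theorem commute_of {Z : Subgroup C} (hZ : ∀ z ∈ Z, ∀ c, z * c = c * z) (hZ3 : ∀ z ∈ Z, z ^ 3 = 1) {x q : C}
    (h : cm x q ∈ Z) {n : ℕ} (hn : x ^ n = 1) (hn3 : ¬ 3 ∣ n) : x * q = q * x := by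
  have h1 := conj_pow_of hZ h n
  rw [hn, one_mul, inv_one, mul_one] at h1
  have h2 : (cm x q) ^ n = 1 := by
    have := mul_right_cancel (a := (1 : C)) (b := q) (c := (cm x q) ^ n) (by rw [one_mul]; exact h1)
    exact this.symm
  have h3 := hZ3 _ h
  have h4 : cm x q = 1 := by
    have hc : Nat.Coprime 3 n := (Nat.Prime.coprime_iff_not_dvd Nat.prime_three).2 hn3
    rw [← orderOf_eq_one_iff]
    exact Nat.eq_one_of_dvd_coprimes hc (orderOf_dvd_of_pow_eq_one h3) (orderOf_dvd_of_pow_eq_one h2)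
  unfold cm at h4
  rw [mul_inv_eq_one, mul_inv_eq_iff_eq_mul] at h4
  exact h4

set_option maxHeartbeats 1000000 in
theorem not_dvd [Finite C] {Q Z L : Subgroup C} [Q.Normal] (ZQ : Z ≤ Q) (cardQ : Nat.card Q = 3 ^ 5)
    (cardZ : Nat.card Z = 3) (hZ : ∀ z ∈ Z, ∀ c, z * c = c * z) (commQ : ∀ x ∈ Q, ∀ y ∈ Q, x * y * x⁻¹ * y⁻¹ ∈ Z)
    (cube : ∀ q ∈ Q, q ^ 3 ∈ Z) (cen : ∀ x, (∀ q ∈ Q, x * q = q * x) → x ∈ Q)
    (nonab : ∃ a ∈ Q, ∃ b ∈ Q, a * b ≠ b * a) [L.Normal] (QL : Q ≤ L) (cardL : Nat.card L = 3 ^ 5 * 120)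
    {h : C} (hL : h ∈ L) (h5 : h ^ 5 = 1) (h1 : h ≠ 1) : ¬ 2 ^ 5 ∣ Nat.card C := by
  classical
  have hcm : ∀ x ∈ Q, ∀ y ∈ Q, cm x y ∈ Z := commQ
  have hZ3 : ∀ z ∈ Z, z ^ 3 = 1 := by
    intro z hz
    have := pow_card_eq_one' (x := (⟨z, hz⟩ : Z))
    rw [cardZ] at this
    exact congrArg Subtype.val this
  have hQpow : ∀ q ∈ Q, q ^ 3 ^ 5 = 1 := by
    intro z hz
    have := pow_card_eq_one' (x := (⟨z, hz⟩ : Q))
    rw [cardQ] at this
    exact congrArg Subtype.val this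
  let N : Subgroup Q := Z.subgroupOf Q
  have hNn : N.Normal := by
    constructor
    intro n hn g
    rw [mem_subgroupOf] at hn ⊢
    have : ((g * n * g⁻¹ : Q) : C) = n := by
      simp only [Subgroup.coe_mul, Subgroup.coe_inv]
      rw [← hZ _ hn, mul_assoc, mul_inv_cancel, mul_one]
    rw [this]; exact hn
  let _ : CommGroup (Q ⧸ N) := { (inferInstance : Group (Q ⧸ N)) with
    mul_comm := by
      intro a b
      refine Quotient.inductionOn₂' a b ?_
      intro x y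
      change ((x * y : Q) : Q ⧸ N) = ((y * x : Q) : Q ⧸ N)
      rw [QuotientGroup.eq, mem_subgroupOf]
      have h2 := hcm _ (inv_mem y.2) _ (inv_mem x.2)
      have e : (((x * y)⁻¹ * (y * x) : Q) : C) = cm (y : C)⁻¹ (x : C)⁻¹ := by
        simp only [Subgroup.coe_mul, Subgroup.coe_inv]; unfold cm; group
      rw [e]; exact h2 }
  let W := Additive (Q ⧸ N)
  have hcardN : Nat.card N = 3 := by rw [Nat.card_congr (subgroupOfEquivOfLe ZQ).toEquiv, cardZ]
  have hW : Nat.card W = 81 := by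
    have h2 := Subgroup.card_eq_card_quotient_mul_card_subgroup N
    rw [cardQ, hcardN] at h2
    change Nat.card (Q ⧸ N) = 81
    omega
  let mk : Q → W := fun q => Additive.ofMul (q : Q ⧸ N)
  have mk_mul : ∀ a b : Q, mk (a * b) = mk a + mk b := fun a b => rfl
  have mk_surj : ∀ w : W, ∃ q : Q, mk q = w := by
    intro w
    obtain ⟨q, hq⟩ := QuotientGroup.mk_surjective (s := N) w.toMul
    exact ⟨q, hq⟩
  have mk_eq : ∀ a b : Q, mk a = mk b ↔ (a : C)⁻¹ * b ∈ Z := by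
    intro a b
    change ((a : Q ⧸ N)) = (b : Q ⧸ N) ↔ _
    rw [QuotientGroup.eq, mem_subgroupOf]
    rfl
  have mk_zero : ∀ a : Q, mk a = 0 ↔ (a : C) ∈ Z := by
    intro a
    change ((a : Q ⧸ N)) = 1 ↔ _
    rw [QuotientGroup.eq_one_iff, mem_subgroupOf]
  have h3W : ∀ w : W, 3 • w = 0 := by
    intro w
    obtain ⟨q, rfl⟩ := mk_surj w
    have : 3 • mk q = mk (q ^ 3) := rfl
    rw [this, mk_zero]
    exact cube q q.2
  -- the action
  let cj' : C → (Q →* Q) := fun c => (MulAut.conjNormal c : MulAut Q).toMonoidHom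
  have hcj : ∀ c (q : Q), ((cj' c q : Q) : C) = c * q * c⁻¹ := fun c q => MulAut.conjNormal_apply c q
  let ρ0 : C → ((Q ⧸ N) →* (Q ⧸ N)) := fun c => QuotientGroup.map N N (cj' c) (by
    intro n hn
    rw [mem_comap, mem_subgroupOf, hcj]
    rw [mem_subgroupOf] at hn
    rw [← hZ _ hn, mul_assoc, mul_inv_cancel, mul_one]
    exact hn)
  let ρ : C →* AddMonoid.End W :=
    { toFun := fun c => MonoidHom.toAdditive (ρ0 c)
      map_one' := by
        ext w
        obtain ⟨q, rfl⟩ := mk_surj w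
        change mk (cj' 1 q) = mk q
        congr 1
        apply Subtype.ext
        rw [hcj]; simp
      map_mul' := by
        intro a b
        ext w
        obtain ⟨q, rfl⟩ := mk_surj w
        change mk (cj' (a * b) q) = mk (cj' a (cj' b q))
        congr 1
        apply Subtype.ext
        rw [hcj, hcj, hcj]; group }
  have hρ : ∀ c (q : Q), ρ c (mk q) = mk (cj' c q) := fun c q => rfl
  -- fixed points
  have hfixed : ∀ c (q : Q), ρ c (mk q) = mk q → cm c q ∈ Z := by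
    intro c q hc
    rw [hρ, eq_comm, mk_eq, hcj] at hc
    have h2 : c * q * c⁻¹ * (q : C)⁻¹ = q * ((q : C)⁻¹ * (c * q * c⁻¹)) * (q : C)⁻¹ := by group
    unfold cm
    rw [h2, ← hZ _ hc, mul_assoc, mul_inv_cancel, mul_one]
    exact hc
  have hker : ∀ c n, ρ c = 1 → c ^ n = 1 → ¬ 3 ∣ n → c = 1 := by
    intro c n hc hn hn3
    have h2 : c ∈ Q := cen c fun q hq => by
      refine commute_of hZ hZ3 (hfixed c ⟨q, hq⟩ ?_) hn hn3
      rw [hc]; rfl
    rw [← orderOf_eq_one_iff]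
    have hcop : Nat.Coprime (3 ^ 5) n :=
      Nat.Coprime.pow_left _ ((Nat.Prime.coprime_iff_not_dvd Nat.prime_three).2 hn3)
    exact Nat.eq_one_of_dvd_coprimes hcop (orderOf_dvd_of_pow_eq_one (hQpow c h2)) (orderOf_dvd_of_pow_eq_one hn)
  -- `H`
  have hH5 : (ρ h) ^ 5 = 1 := by rw [← map_pow, h5, map_one]
  have hfix : ∀ w, ρ h w = w → w = 0 := by
    intro w hw
    obtain ⟨q, rfl⟩ := mk_surj w
    have h2 : h * q = q * h := commute_of hZ hZ3 (hfixed h q hw) h5 (by norm_num)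
    rw [mk_zero]
    have hmod := card_modEq_fix (by norm_num : Nat.Prime 5) h5 Q
      (fun w hw => (inferInstance : Q.Normal).conj_mem w hw h)
    obtain ⟨k, hk, hck⟩ := card_pow_of_le (n := 5) Nat.prime_three
      (inf_le_left : (Q ⊓ centralizer {h} : Subgroup C) ≤ Q) cardQ
    rw [cardQ, hck] at hmod
    have hmod' : 3 ^ 5 % 5 = 3 ^ k % 5 := hmod
    have hk' : k = 1 ∨ k = 5 := mod5 k hk hmod'
    have hZle : Z ≤ Q ⊓ centralizer {h} := fun z hz' =>
      mem_inf.2 ⟨ZQ hz', mem_centralizer_singleton_iff.2 (hZ z hz' h)⟩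
    rcases hk' with rfl | rfl
    · have : Z = Q ⊓ centralizer {h} := Subgroup.eq_of_le_of_card_ge hZle (by rw [hck, cardZ]; norm_num)
      rw [this]
      exact mem_inf.2 ⟨q.2, mem_centralizer_singleton_iff.2 h2.symm⟩
    · exfalso
      have heq : (Q ⊓ centralizer {h} : Subgroup C) = Q :=
        Subgroup.eq_of_le_of_card_ge inf_le_left (by rw [hck, cardQ])
      have hmQ : h ∈ Q := cen h (fun j hj => by
        rw [← heq] at hj
        exact (mem_centralizer_singleton_iff.1 (mem_inf.1 hj).2).symm)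
      apply h1
      rw [← orderOf_eq_one_iff]
      exact Nat.eq_one_of_dvd_coprimes (by norm_num : Nat.Coprime (3 ^ 5) 5)
        (orderOf_dvd_of_pow_eq_one (hQpow h hmQ)) (orderOf_dvd_of_pow_eq_one h5)
  -- the form
  let _ : CommGroup Z := { (inferInstance : Group Z) with
    mul_comm := fun a b => Subtype.ext (hZ a a.2 b) }
  have hwd : ∀ a a' b b' : Q, mk a = mk a' → mk b = mk b' → cm (a : C) b = cm (a' : C) b' := by
    intro a a' b b' ha hb
    rw [mk_eq] at ha hb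
    have e1 : (a' : C) = a * ((a : C)⁻¹ * a') := by group
    have e2 : (b' : C) = b * ((b : C)⁻¹ * b') := by group
    rw [e1, e2]
    rw [cm_mul_left hZ (by rw [cm_left_one hZ ha]; exact one_mem _), cm_left_one hZ ha, mul_one,
      cm_mul_right hZ (by rw [cm_right_one hZ hb]; exact one_mem _), cm_right_one hZ hb, mul_one]
  let out : W → Q := fun w => (mk_surj w).choose
  have hout : ∀ w, mk (out w) = w := fun w => (mk_surj w).choose_spec
  let β : W → W → Additive Z := fun u v => Additive.ofMul ⟨cm (out u : C) (out v), hcm _ (out u).2 _ (out v).2⟩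
  have hβ : ∀ a b : Q, β (mk a) (mk b) = Additive.ofMul ⟨cm (a : C) b, hcm _ a.2 _ b.2⟩ := by
    intro a b
    have := hwd (out (mk a)) a (out (mk b)) b (hout _) (hout _)
    change Additive.ofMul (⟨cm (out (mk a) : C) (out (mk b)), _⟩ : Z) = _
    congr 1
    exact Subtype.ext this
  have hl : ∀ u u' v, β (u + u') v = β u v + β u' v := by
    intro u u' v
    obtain ⟨a, rfl⟩ := mk_surj u
    obtain ⟨a', rfl⟩ := mk_surj u'
    obtain ⟨b, rfl⟩ := mk_surj v
    rw [← mk_mul, hβ, hβ, hβ, ← ofMul_mul]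
    congr 1
    exact Subtype.ext (cm_mul_left hZ (hcm _ a'.2 _ b.2))
  have hr : ∀ u v v', β u (v + v') = β u v + β u v' := by
    intro u v v'
    obtain ⟨a, rfl⟩ := mk_surj u
    obtain ⟨b, rfl⟩ := mk_surj v
    obtain ⟨b', rfl⟩ := mk_surj v'
    rw [← mk_mul, hβ, hβ, hβ, ← ofMul_mul]
    congr 1
    exact Subtype.ext (cm_mul_right hZ (hcm _ a.2 _ b'.2))
  have hinv : ∀ c u v, β (ρ c u) (ρ c v) = β u v := by
    intro c u v
    obtain ⟨a, rfl⟩ := mk_surj u
    obtain ⟨b, rfl⟩ := mk_surj v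
    rw [hρ, hρ, hβ, hβ]
    congr 1
    apply Subtype.ext
    change cm ((cj' c a : Q) : C) ((cj' c b : Q) : C) = cm (a : C) b
    rw [hcj, hcj]
    have e : cm (c * a * c⁻¹) (c * b * c⁻¹) = c * cm (a : C) b * c⁻¹ := by unfold cm; group
    rw [e, ← hZ _ (hcm _ a.2 _ b.2), mul_assoc, mul_inv_cancel, mul_one]
  have hne : ∃ u v, β u v ≠ 0 := by
    obtain ⟨a, ha, b, hb, hab⟩ := nonab
    refine ⟨mk ⟨a, ha⟩, mk ⟨b, hb⟩, ?_⟩
    intro h0
    rw [hβ] at h0
    apply hab
    have h2 : (⟨cm a b, hcm _ ha _ hb⟩ : Z) = 1 := h0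
    have h3 : cm a b = 1 := congrArg Subtype.val h2
    unfold cm at h3
    rw [mul_inv_eq_one, mul_inv_eq_iff_eq_mul] at h3
    exact h3
  have h2A : ∀ a : Additive Z, a = -a → a = 0 := by
    intro a ha
    have h2 : a.toMul = (a.toMul)⁻¹ := ha
    have h3 : (a.toMul) ^ 2 = 1 := by rw [pow_two]; nth_rewrite 2 [h2]; rw [mul_inv_cancel]
    have h4 : (a.toMul) ^ 3 = 1 := Subtype.ext (hZ3 _ a.toMul.2)
    have h6 : a.toMul = 1 := by
      have : a.toMul = (a.toMul) ^ 3 * ((a.toMul) ^ 2)⁻¹ := by group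
      rw [this, h3, h4, inv_one, mul_one]
    exact h6
  -- the group
  intro hdvd
  let ρu : C →* (AddMonoid.End W)ˣ := ρ.toHomUnits
  have hρu : ∀ c, ((ρu c : (AddMonoid.End W)ˣ) : AddMonoid.End W) = ρ c := fun c => rfl
  have hkerodd : ¬ 2 ∣ Nat.card ρu.ker := by
    intro h2
    have := Fact.mk Nat.prime_two
    obtain ⟨x, hx⟩ := exists_prime_orderOf_dvd_card' 2 h2
    have hx1 : ρ (x : C) = 1 := by
      have := MonoidHom.mem_ker.1 x.2
      have h3 := congrArg (fun u : (AddMonoid.End W)ˣ => (u : AddMonoid.End W)) this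
      exact h3
    have hx2 : (x : C) ^ 2 = 1 := by
      have : x ^ 2 = 1 := by rw [← hx]; exact pow_orderOf_eq_one x
      exact congrArg Subtype.val this
    have hx3 := hker _ 2 hx1 hx2 (by norm_num)
    have : x = 1 := Subtype.ext hx3
    rw [this, orderOf_one] at hx
    omega
  have hcardC := Subgroup.card_mul_index ρu.ker
  rw [Subgroup.index_ker] at hcardC
  have hdvd' : 2 ^ 5 ∣ Nat.card ρu.range := by
    rw [← hcardC] at hdvd
    have hcop : Nat.Coprime (2 ^ 5) (Nat.card ρu.ker) :=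
      Nat.Coprime.pow_left _ ((Nat.Prime.coprime_iff_not_dvd Nat.prime_two).2 hkerodd)
    exact hcop.dvd_of_dvd_mul_left hdvd
  have hfin : Finite ρu.range := Set.finite_range ρu
  let L' : Subgroup ρu.range := L.map ρu.rangeRestrict
  have hL'n : L'.Normal := (inferInstance : L.Normal).map _ ρu.rangeRestrict_surjective
  have hL'c : Nat.card L' ∣ 120 := by
    let f : L →* ρu.range := ρu.rangeRestrict.comp L.subtype
    have h2 : f.range = L' := by
      change (ρu.rangeRestrict.comp L.subtype).range = _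
      rw [MonoidHom.range_comp, Subgroup.range_subtype]
    rw [← h2, ← Subgroup.index_ker]
    have h3 : Q.subgroupOf L ≤ f.ker := by
      intro q hq
      rw [mem_subgroupOf] at hq
      rw [MonoidHom.mem_ker]
      apply Subtype.ext
      apply Units.ext
      change ρ (q : C) = 1
      ext w
      obtain ⟨r, rfl⟩ := mk_surj w
      rw [hρ]
      change mk _ = mk r
      symm
      rw [mk_eq, hcj]
      have h4 := hcm _ (inv_mem r.2) _ hq
      have e : (r : C)⁻¹ * (q * r * (q : C)⁻¹) = cm (r : C)⁻¹ q := by unfold cm; group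
      rw [e]; exact h4
    have h4 := Subgroup.index_dvd_of_le h3
    have h5 := Subgroup.card_mul_index (Q.subgroupOf L)
    rw [Nat.card_congr (subgroupOfEquivOfLe QL).toEquiv, cardQ, cardL] at h5
    have h6 : (Q.subgroupOf L).index = 120 := Nat.eq_of_mul_eq_mul_left (by norm_num) h5
    rwa [h6] at h4
  let h' : ρu.range := ρu.rangeRestrict h
  have hh' : h' ∈ L' := mem_map_of_mem _ hL
  have ho : orderOf h' = 5 := by
    refine orderOf_eq_prime (hp := ⟨by norm_num⟩) ?_ ?_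
    · rw [← map_pow, h5, map_one]
    · intro h2
      apply h1
      refine hker h 5 ?_ h5 (by norm_num)
      have h3 : (h' : (AddMonoid.End W)ˣ) = 1 := congrArg Subtype.val h2
      have h4 : ((h' : (AddMonoid.End W)ˣ) : AddMonoid.End W) = 1 := by rw [h3]; rfl
      exact h4
  have key : ∀ y : ρu.range, y * h' = h' * y → (∃ k : ℕ, y ^ 2 ^ k = 1) →
      ((y : (AddMonoid.End W)ˣ) : AddMonoid.End W) = 1 ∨ ((y : (AddMonoid.End W)ˣ) : AddMonoid.End W) = -1 := by
    rintro y hyh ⟨k, hk⟩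
    obtain ⟨c, hc⟩ := y.2
    have hy : ((y : (AddMonoid.End W)ˣ) : AddMonoid.End W) = ρ c := by rw [← hc]; rfl
    refine eq_one_or_neg_one hW h3W hH5 hfix h2A β hl hr (hinv h) hne k _ ?_ ?_ ?_
    · have := congrArg (fun u : ρu.range => ((u : (AddMonoid.End W)ˣ) : AddMonoid.End W)) hyh
      exact this
    · intro u v
      rw [hy]; exact hinv c u v
    · have := congrArg (fun u : ρu.range => ((u : (AddMonoid.End W)ˣ) : AddMonoid.End W)) hk
      simpa using this
  refine not_dvd_of_small' L' hL'c hh' ho ?_ hdvd'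
  intro y z hy1 hy2 hz1 hz2 hy hz
  have ey := (key y hy1 hy2).resolve_left (fun h2 => hy (Subtype.ext (Units.ext h2)))
  have ez := (key z hz1 hz2).resolve_left (fun h2 => hz (Subtype.ext (Units.ext h2)))
  exact Subtype.ext (Units.ext (ey.trans ez.symm))

end Cfsg.Agent.H846.TwoPart
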