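import Cfsg.Agent.H944.TS.Iface
import Cfsg.Agent.H897.Frm
import Cfsg.Agent.AGraded.HomFinite
import Cfsg.Agent.ChevalleyStructure.StringMem
import Cfsg.Agent.ChevalleyStructure.Irreducible
import Cfsg.Agent.LieClassical.HermSimple
import Cfsg.Agent.LieClassical.HermPerfect
import Cfsg.Agent.Cit.LongInst
import Cfsg.Agent.BpLin.PSU

/-!
# `U₃(8)` is a subgroup of `²E₆(2)`

The three commuting subsystems of type `A₂` of the extended Dynkin diagram of `E₆` are permuted by an endomorphism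
`n σ` of `E₆(k)`, whose cube is the Frobenius map of the field with eight elements composed with the graph automorphism
on each of them. The diagonal copy of `SU₃(8)` is fixed by it, and Lang's theorem conjugates it into `²E₆(2)`.
-/

set_option autoImplicit false

namespace Cfsg.Agent.H846.UThreeE

open Cfsg Cfsg.Lie Cfsg.Agent.ChevalleyStructure Cfsg.Agent.ChevalleyStructure.Elts
  Cfsg.Agent.ChevalleyStructure.SignedSymm Cfsg.Agent.AGraded
open Cfsg.Agent.ChevalleyStructure.GraphSymm (symmE6)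
open Cfsg.Agent.H897.Sg (sg)
open Cfsg.Agent.BpExc.FamTw.Gr (gr coe_gr P_xG)
open Cfsg.Agent.CpAut.RgdUntw (fld fld_coe)
open scoped commutatorElement

universe u v w

theorem hE6 : InList chevE6 := by simp

section
variable {k : Type u} [Field k]

/-- root elements in the Chevalley group -/
def X (r : ℕ) (t : k) : ↥(chevE6.group k) := ⟨xG hE6 r t, xG_mem_group hE6 r t⟩

theorem coe_X (r : ℕ) (t : k) : (X r t : GL chevE6.Idx k) = xG hE6 r t := rfl

theorem X_add (r : ℕ) (t u : k) : X r t * X r u = X r (t + u) := Subtype.ext (xG_add hE6 r t u)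

theorem X_comm_word {r s : ℕ} (hr : r < 72) (hs : s < 72) (h1 : s ≠ r) (h2 : s ≠ chevE6.neg r) (t u : k) :
    xG hE6 s u * xG hE6 r t = xG hE6 r t * xG hE6 s u * wordG hE6 (chevE6.commWord k r s t u) :=
  Units.ext (by
    rw [Units.val_mul, Units.val_mul, Units.val_mul, coe_wordG]
    exact Cfsg.Agent.S1025.result chevE6 hE6 r s hr hs h1 h2 t u)

/-- the table condition for commuting root elements -/
def Cm (r s : ℕ) : Bool := (s == r) || (s != chevE6.neg r && chevE6.commTerms r s == [])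

theorem X_commute {r s : ℕ} (hr : r < 72) (hs : s < 72) (h : Cm r s = true) (t u : k) :
    X s u * X r t = X r t * X s u := by
  apply Subtype.ext
  show xG hE6 s u * xG hE6 r t = xG hE6 r t * xG hE6 s u
  by_cases h1 : s = r
  · subst h1
    rw [xG_add, xG_add, add_comm]
  · have h' : s ≠ chevE6.neg r ∧ chevE6.commTerms r s = [] := by simpa [Cm, h1] using h
    rw [X_comm_word hr hs h1 h'.1]
    have h4 : wordG hE6 (chevE6.commWord k r s t u) = 1 := by
      show (List.map _ (List.map _ (chevE6.commTerms r s))).prod = 1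
      rw [h'.2]
      rfl
    rw [h4, mul_one]

/-- the table condition for a commutator -/
def Br (r s q : ℕ) : Bool :=
  s != r && s != chevE6.neg r && (chevE6.commTerms r s).map (fun c => (c.1, c.2.1 % 2, c.2.2)) == [(q, 1, 1, 1)] &&
    Cm q s && Cm q r

theorem br_group {G : Type*} [Group G] {g h W : G} (h1 : g * h = h * g * W) (h2 : g * W = W * g) (h3 : h * W = W * h) :
    ⁅g, h⁆ = W := by
  rw [commutatorElement_def, h1, mul_assoc (h * g) W, mul_assoc h g, ← mul_assoc g W, h2]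
  rw [show h * (W * g * g⁻¹) * h⁻¹ = h * W * h⁻¹ by group, h3]
  group

theorem X_br [CharP k 2] {r s q : ℕ} (hr : r < 72) (hs : s < 72) (hq : q < 72) (h : Br r s q = true) (t u : k) :
    ⁅X s u, X r t⁆ = X q (u * t) := by
  have h' : ((((s ≠ r ∧ s ≠ chevE6.neg r) ∧
      (chevE6.commTerms r s).map (fun c => (c.1, c.2.1 % 2, c.2.2)) = [(q, 1, 1, 1)]) ∧ Cm q s = true) ∧
      Cm q r = true) := by simpa [Br] using h
  obtain ⟨⟨⟨⟨h1, h2⟩, h3⟩, h4⟩, h5⟩ := h'
  apply br_group
  · apply Subtype.ext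
    show xG hE6 s u * xG hE6 r t = xG hE6 r t * xG hE6 s u * xG hE6 q (u * t)
    rw [X_comm_word hr hs h1 h2]
    congr 1
    obtain ⟨c, hc⟩ : ∃ c, chevE6.commTerms r s = [c] := by
      have h6 := congrArg List.length h3
      rw [List.length_map] at h6
      exact List.length_eq_one_iff.1 h6
    rw [hc] at h3
    obtain ⟨c1, c2, c3, c4⟩ := c
    have h7 : c1 = q ∧ c2 % 2 = 1 ∧ c3 = 1 ∧ c4 = 1 := by simpa using h3
    obtain ⟨rfl, h8, rfl, rfl⟩ := h7
    show (List.map _ (List.map _ (chevE6.commTerms r s))).prod = _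
    rw [hc]
    show xG hE6 c1 ((c2 : k) * (-t) ^ 1 * u ^ 1) * 1 = _
    have h9 : (c2 : k) = 1 := by
      have h2 : (2 : k) = 0 := CharTwo.two_eq_zero
      rw [← Int.emod_add_mul_ediv c2 2, h8]
      push_cast
      rw [h2]
      ring
    rw [h9, mul_one, pow_one, pow_one, one_mul, CharTwo.neg_eq, mul_comm]
  · exact (X_commute hq hs h4 _ _)
  · exact (X_commute hq hr h5 _ _)

end

/-! ### The three subsystems -/

/-- the roots of the three commuting subsystems of type `A₂` -/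
def rt (m : Fin 3) (i j : Fin 3) : ℕ :=
  (((#[#[#[0, 56, 57], #[15, 0, 42], #[14, 29, 0]],
    #[#[0, 35, 33], #[36, 0, 34], #[38, 37, 0]],
    #[#[0, 0, 1], #[71, 0, 46], #[70, 25, 0]]] : Array (Array (Array ℕ))).getD m.val #[]).getD i.val #[]).getD j.val 0

theorem rt_lt : ∀ m i j : Fin 3, rt m i j < 72 := by decide +kernel

theorem rt_comm : ∀ m i j k l : Fin 3, i ≠ j → k ≠ l → j ≠ k → i ≠ l → Cm (rt m k l) (rt m i j) = true := by
  decide +kernel

theorem rt_br : ∀ m i j k : Fin 3, i ≠ j → j ≠ k → i ≠ k → Br (rt m j k) (rt m i j) (rt m i k) = true := by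
  decide +kernel

theorem rt_cross : ∀ m m' i j k l : Fin 3, m ≠ m' → i ≠ j → k ≠ l → Cm (rt m i j) (rt m' k l) = true := by
  decide +kernel

/-- the Weyl word -/
def wl : List ℕ := [5, 4, 3, 2, 1, 3, 4, 5, 4, 3, 2, 1, 3, 4, 3, 2, 1, 3, 2, 1]

/-- the permutation of the roots -/
def tau (r : Fin 72) : ℕ := wl.foldr chevE6.reflectRoot (symmE6.σ r).val

theorem tau_rt : ∀ m i j : Fin 3, i ≠ j → tau ⟨rt m i j, rt_lt m i j⟩ = if m = 2 then rt 0 j i else rt (m + 1) i j := by
  decide +kernel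

theorem refl_lt : ∀ i < 6, ∀ s < 72, chevE6.reflectRoot i s < 72 := by decide +kernel

section
variable {k : Type u} [Field k]

/-- the product of fundamental reflections -/
noncomputable def nW (k : Type u) [Field k] (l : List ℕ) : ↥(chevE6.group k) :=
  (l.map fun i => (⟨nG hE6 (chevE6.simple i) 1, nG_mem_group hE6 _ _⟩ : ↥(chevE6.group k))).prod

variable [CharP k 2]

theorem nG_X {i s : ℕ} (hi : i < 6) (hs : s < 72) (t : k) :
    (⟨nG hE6 (chevE6.simple i) 1, nG_mem_group hE6 _ _⟩ : ↥(chevE6.group k)) * X s t *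
      (⟨nG hE6 (chevE6.simple i) 1, nG_mem_group hE6 _ _⟩ : ↥(chevE6.group k))⁻¹ = X (chevE6.reflectRoot i s) t := by
  apply Subtype.ext
  show nG hE6 (chevE6.simple i) 1 * xG hE6 s t * (nG hE6 (chevE6.simple i) 1)⁻¹ = xG hE6 (chevE6.reflectRoot i s) t
  obtain ⟨η, hη, h⟩ := Cfsg.Agent.ChevalleyStructure.Irreducible.nG_conj (F := k) hE6 i s hi hs
  have h1 : (η : k) = 1 := by
    rcases hη with rfl | rfl
    · simp
    · rw [Int.cast_neg, Int.cast_one, CharTwo.neg_eq]
  rw [h t, h1, one_mul, mul_inv_cancel_right]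

theorem nW_X (l : List ℕ) (hl : ∀ i ∈ l, i < 6) {s : ℕ} (hs : s < 72) (t : k) :
    l.foldr chevE6.reflectRoot s < 72 ∧ nW k l * X s t * (nW k l)⁻¹ = X (l.foldr chevE6.reflectRoot s) t := by
  induction l with
  | nil =>
    refine ⟨hs, ?_⟩
    show (1 : ↥(chevE6.group k)) * X s t * 1⁻¹ = X s t
    group
  | cons i l ih =>
    obtain ⟨h1, h2⟩ := ih (fun j hj => hl j (List.mem_cons_of_mem _ hj))
    have hi := hl i List.mem_cons_self
    refine ⟨refl_lt i hi _ h1, ?_⟩
    rw [List.foldr_cons, ← nG_X hi h1, ← h2]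
    show (_ * nW k l) * X s t * (_ * nW k l)⁻¹ = _
    group

variable [PerfectRing k 2]

theorem sg_X (r : Fin 72) (t : k) : sg k (X r.val t) = X (symmE6.σ r).val (t ^ 2) := by
  apply Subtype.ext
  show ((gr hE6 symmE6 (fld chevE6 (frobeniusEquiv k 2) (X r.val t)) : ↥(chevE6.group k)) : GL chevE6.Idx k) = _
  rw [coe_gr]
  have h1 : ((fld chevE6 (frobeniusEquiv k 2) (X r.val t) : ↥(chevE6.group k)) : GL chevE6.Idx k) =
      xG hE6 r.val (t ^ 2) := by
    apply Units.ext
    rw [fld_coe]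
    show (chevE6.x k r.val t).map _ = chevE6.x k r.val (t ^ 2)
    have := Cfsg.Agent.ChevStructure.FieldMap.x_map (D := chevE6) (frobenius k 2) r.val t
    rw [frobenius_def] at this
    exact this
  rw [h1, P_xG hE6 symmE6 r]
  have h2 : ((symmE6.ε r : ℤ) : k) = 1 := by
    have h3 := symmE6.ε_sq' k r
    have h4 : (((symmE6.ε r : ℤ) : k) - 1) * (((symmE6.ε r : ℤ) : k) - 1) = 0 := by
      have h5 : (2 : k) = 0 := CharTwo.two_eq_zero
      linear_combination h3 + (1 - ((symmE6.ε r : ℤ) : k)) * h5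
    exact sub_eq_zero.1 (mul_self_eq_zero.1 h4)
  rw [h2, one_mul]
  rfl

variable (k) in
/-- the endomorphism permuting the three subsystems -/
noncomputable def ta : MulAut ↥(chevE6.group k) := MulAut.conj (nW k wl) * sg k

theorem wl_lt : ∀ i ∈ wl, i < 6 := by decide

theorem ta_X (r : Fin 72) (t : k) : ta k (X r.val t) = X (tau r) (t ^ 2) := by
  show nW k wl * sg k (X r.val t) * (nW k wl)⁻¹ = _
  rw [sg_X, (nW_X wl wl_lt (symmE6.σ r).2 _).2]
  rfl

theorem ta_rt {m i j : Fin 3} (hij : i ≠ j) (t : k) :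
    ta k (X (rt m i j) t) = X (if m = 2 then rt 0 j i else rt (m + 1) i j) (t ^ 2) := by
  have h := ta_X (k := k) ⟨rt m i j, rt_lt m i j⟩ t
  rw [tau_rt m i j hij] at h
  exact h

end

/-! ### The homomorphisms from `SL₃` -/

section
variable {k : Type u} [Field k] [CharP k 2] {E : Type v} [Field E] [Finite E] [CharP E 2] (f : E →+* k)

/-- the root elements of the first subsystem -/
def x1 (i j : Fin 3) (a : E) : ↥(chevE6.group k) := X (rt 0 i j) (f a)

omit [Finite E] [CharP E 2] in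
theorem steinRel : SteinRel (x1 f) where
  add i j _ a b := by
    show X _ (f (a + b)) = X _ (f a) * X _ (f b)
    rw [X_add, map_add]
  comm i j l m hij hlm hjl him a b :=
    X_commute (rt_lt 0 l m) (rt_lt 0 i j) (rt_comm 0 i j l m hij hlm hjl him) _ _
  br i j l hij hjl hil a b := by
    show ⁅X _ (f a), X _ (f b)⁆ = X _ (f (a * b))
    rw [map_mul]
    exact X_br (rt_lt 0 j l) (rt_lt 0 i j) (rt_lt 0 i l) (rt_br 0 i j l hij hjl hil) _ _

theorem exists_pi : ∃ π : Matrix.SpecialLinearGroup (Fin 3) E →* ↥(chevE6.group k),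
    (∀ i j (hij : i ≠ j) a, π (Matrix.SpecialLinearGroup.transvection hij a) = X (rt 0 i j) (f a)) ∧
    π.range = Subgroup.closure (gens (x1 f)) ∧
      π.ker ≤ Subgroup.center (Matrix.SpecialLinearGroup (Fin 3) E) := by
  obtain ⟨π, h1, h2, h3⟩ := exists_hom_finite (steinRel f) (by simp)
  refine ⟨π, h1, h2, h3 ⟨0, 1, by decide, 1, fun h => ?_⟩⟩
  have h4 : xG hE6 (rt 0 0 1) (f 1) = 1 := congrArg Subtype.val h
  rw [xG_eq_one_iff hE6 (rt_lt 0 0 1), map_one] at h4
  exact one_ne_zero h4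

end

/-! ### The twisted Frobenius of `SL₃` -/

section
open Matrix Matrix.SpecialLinearGroup
variable {E : Type v} [Field E]

/-- the Frobenius map composed with the inverse transpose -/
def star (σ : E →+* E) : SpecialLinearGroup (Fin 3) E →* SpecialLinearGroup (Fin 3) E where
  toFun A := (SpecialLinearGroup.map σ A)⁻¹.transpose
  map_one' := by
    rw [map_one, inv_one]
    exact Subtype.ext Matrix.transpose_one
  map_mul' A B := by
    rw [map_mul, _root_.mul_inv_rev]
    exact Subtype.ext (by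
      rw [coe_transpose, coe_mul, coe_mul, Matrix.transpose_mul, coe_transpose, coe_transpose])

theorem star_transvection (σ : E →+* E) {i j : Fin 3} (hij : i ≠ j) (a : E) :
    star σ (transvection hij a) = transvection hij.symm (-σ a) := by
  have h1 : SpecialLinearGroup.map σ (transvection hij a) = transvection hij (σ a) := by
    apply Subtype.ext
    show (σ.mapMatrix (1 + single i j a)) = 1 + single i j (σ a)
    rw [map_add, map_one, RingHom.mapMatrix_apply, Matrix.map_single]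
  show (SpecialLinearGroup.map σ (transvection hij a))⁻¹.transpose = _
  rw [h1, transvection_inv]
  apply Subtype.ext
  show Matrix.transpose (1 + single i j (-σ a)) = 1 + single j i (-σ a)
  rw [Matrix.transpose_add, Matrix.transpose_one, Matrix.transpose_single]

theorem star_eq [Fintype E] {q : ℕ} (hE : Fintype.card E = q ^ 2) {σ : E →+* E} (hσ : ∀ x, σ x = x ^ q)
    {A : SpecialLinearGroup (Fin 3) E} (hA : A ∈ SU 3 E q) : star σ A = A := by
  rw [Cfsg.Agent.BpLin.mem_SU_iff_cst hE hσ] at hA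
  have h1 : A * (SpecialLinearGroup.map σ A).transpose = 1 := Subtype.ext hA
  have h2 : (SpecialLinearGroup.map σ A).transpose = A⁻¹ := (eq_inv_of_mul_eq_one_right h1)
  have h3 : (SpecialLinearGroup.map σ A) = (A⁻¹).transpose := by
    rw [← h2]
    exact Subtype.ext (Matrix.transpose_transpose _).symm
  show (SpecialLinearGroup.map σ A)⁻¹.transpose = A
  rw [h3]
  have h4 : ((A⁻¹).transpose)⁻¹ = A.transpose := by
    apply inv_eq_of_mul_eq_one_right
    apply Subtype.ext
    have h5 : (A : Matrix (Fin 3) (Fin 3) E) * (A⁻¹ : SpecialLinearGroup (Fin 3) E) = 1 := by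
      rw [← coe_mul, mul_inv_cancel, coe_one]
    rw [coe_mul, coe_transpose, coe_transpose, ← Matrix.transpose_mul, h5, Matrix.transpose_one]
    rfl
  rw [h4]
  exact Subtype.ext (Matrix.transpose_transpose _)

end

/-! ### The diagonal homomorphism -/

section
open Subgroup
variable {k : Type u} [Field k]

variable (k) in
/-- the three commuting subgroups -/
def L (m : Fin 3) : Subgroup ↥(chevE6.group k) := closure {g | ∃ i j, i ≠ j ∧ ∃ t, g = X (rt m i j) t}

theorem X_mem_L {m i j : Fin 3} (h : i ≠ j) (t : k) : X (rt m i j) t ∈ L k m :=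
  subset_closure ⟨i, j, h, t, rfl⟩

theorem L_comm {m m' : Fin 3} (h : m ≠ m') {x y : ↥(chevE6.group k)} (hx : x ∈ L k m) (hy : y ∈ L k m') :
    x * y = y * x := by
  have h1 : L k m ≤ centralizer (L k m' : Set ↥(chevE6.group k)) := by
    refine (closure_le _).2 ?_
    rintro _ ⟨i, j, hij, t, rfl⟩
    have h2 : L k m' ≤ centralizer {X (rt m i j) t} := by
      refine (closure_le _).2 ?_
      rintro _ ⟨i', j', hij', t', rfl⟩
      rw [SetLike.mem_coe, mem_centralizer_singleton_iff]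
      exact X_commute (rt_lt _ _ _) (rt_lt _ _ _) (rt_cross m m' i j i' j' h hij hij') _ _
    rw [SetLike.mem_coe, mem_centralizer_iff]
    intro y hy
    exact mem_centralizer_singleton_iff.1 (h2 hy)
  exact ((mem_centralizer_iff.1 (h1 hx)) y hy).symm

variable [CharP k 2] [PerfectRing k 2]

theorem ta_mem {m : Fin 3} {x : ↥(chevE6.group k)} (hx : x ∈ L k m) : ta k x ∈ L k (m + 1) := by
  have h1 : L k m ≤ (L k (m + 1)).comap (ta k).toMonoidHom := by
    refine (closure_le _).2 ?_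
    rintro _ ⟨i, j, hij, t, rfl⟩
    show ta k (X (rt m i j) t) ∈ L k (m + 1)
    rw [ta_rt hij]
    split_ifs with h
    · subst h
      exact X_mem_L hij.symm _
    · exact X_mem_L hij _
  exact h1 hx

theorem rearr {G : Type*} [Group G] {a b a' b' a'' b'' : G} (h1 : b * a' = a' * b) (h2 : b * a'' = a'' * b)
    (h3 : b' * a'' = a'' * b') : (a * b) * ((a' * b') * (a'' * b'')) = (a * (a' * a'')) * (b * (b' * b'')) := by
  calc (a * b) * ((a' * b') * (a'' * b'')) = a * (b * a') * (b' * a'') * b'' := by group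
    _ = a * (a' * b) * (a'' * b') * b'' := by rw [h1, h3]
    _ = a * a' * (b * a'') * b' * b'' := by group
    _ = a * a' * (a'' * b) * b' * b'' := by rw [h2]
    _ = _ := by group

variable {E : Type v} [Field E] {π : Matrix.SpecialLinearGroup (Fin 3) E →* ↥(chevE6.group k)}

/-- the diagonal homomorphism -/
noncomputable def phi (hπ : ∀ A, π A ∈ L k 0) : Matrix.SpecialLinearGroup (Fin 3) E →* ↥(chevE6.group k) where
  toFun A := π A * (ta k (π A) * ta k (ta k (π A)))
  map_one' := by simp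
  map_mul' A B := by
    simp only [map_mul]
    exact rearr (L_comm (by decide) (hπ B) (ta_mem (hπ A))) (L_comm (by decide) (hπ B) (ta_mem (ta_mem (hπ A))))
      (L_comm (by decide) (ta_mem (hπ B)) (ta_mem (ta_mem (hπ A))))

theorem phi_apply (hπ : ∀ A, π A ∈ L k 0) (A : Matrix.SpecialLinearGroup (Fin 3) E) :
    phi hπ A = π A * (ta k (π A) * ta k (ta k (π A))) := rfl

theorem ta_phi (hπ : ∀ A, π A ∈ L k 0) {A : Matrix.SpecialLinearGroup (Fin 3) E}
    (h : ta k (ta k (ta k (π A))) = π A) : ta k (phi hπ A) = phi hπ A := by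
  have h1 : π A * ta k (π A) = ta k (π A) * π A :=
    L_comm (m := 0) (m' := 0 + 1) (by decide) (hπ A) (ta_mem (hπ A))
  have h2 : π A * ta k (ta k (π A)) = ta k (ta k (π A)) * π A :=
    L_comm (m := 0) (m' := 0 + 1 + 1) (by decide) (hπ A) (ta_mem (ta_mem (hπ A)))
  rw [phi_apply, map_mul, map_mul, h, ← h2, ← mul_assoc, ← h1, mul_assoc]

theorem ta_cube (f : E →+* k) (h1 : ∀ i j (hij : i ≠ j) a,
    π (Matrix.SpecialLinearGroup.transvection hij a) = X (rt 0 i j) (f a)) {σ : E →+* E} (hσ : ∀ x, σ x = x ^ 8)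
    (A : Matrix.SpecialLinearGroup (Fin 3) E) :
    ta k (ta k (ta k (π A))) = π (star σ A) := by
  have key : ((ta k).toMonoidHom.comp ((ta k).toMonoidHom.comp ((ta k).toMonoidHom.comp π))) = π.comp (star σ) := by
    apply MonoidHom.eq_of_eqOn_dense (Cfsg.Agent.LieClassical.SLGen.closure_transvections (ι := Fin 3) (F := E))
    rintro _ ⟨i, j, hij, c, rfl⟩
    show ta k (ta k (ta k (π _))) = π (star σ _)
    have h8 : (f c ^ 2) ^ 2 = f c ^ 4 := by ring
    have h9 : (f c ^ 4) ^ 2 = f (σ c) := by rw [hσ, map_pow]; ring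
    rw [h1, star_transvection, h1, ta_rt hij, if_neg (by decide), ta_rt hij, if_neg (by decide), ta_rt hij,
      if_pos (by decide), h8, h9, map_neg, CharTwo.neg_eq]
  exact DFunLike.congr_fun key A

end

/-! ### The centre of `SU₃` -/

theorem rt_neg : ∀ m i j : Fin 3, i ≠ j → chevE6.neg (rt m i j) = rt m j i := by decide +kernel

theorem rt_cartan : ∀ s : Fin 72, (Strings.cartanR chevE6 (rt 0 0 1) s + 2 * Strings.cartanR chevE6 (rt 0 1 2) s +
    (2 * Strings.cartanR chevE6 (rt 1 0 1) s + 4 * Strings.cartanR chevE6 (rt 1 1 2) s) +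
    (4 * Strings.cartanR chevE6 (rt 2 0 1) s + 8 * Strings.cartanR chevE6 (rt 2 1 2) s)) % 3 = 0 := by decide +kernel

section
variable {k : Type u} [Field k]

/-- the torus elements of the subsystems -/
def HH (m i j : Fin 3) (t : k) : ↥(chevE6.group k) :=
  X (rt m i j) t * X (rt m j i) (-t⁻¹) * X (rt m i j) t * X (rt m i j) (-1) * X (rt m j i) 1 * X (rt m i j) (-1)

theorem coe_HH {m i j : Fin 3} (hij : i ≠ j) (t : k) : (HH m i j t : GL chevE6.Idx k) = hG hE6 (rt m i j) t := by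
  show xG hE6 (rt m i j) t * xG hE6 (rt m j i) (-t⁻¹) * xG hE6 (rt m i j) t * xG hE6 (rt m i j) (-1) *
    xG hE6 (rt m j i) 1 * xG hE6 (rt m i j) (-1) = _
  rw [hG_def, nG_def, nG_def, rt_neg m i j hij]
  have : -(-1 : k)⁻¹ = 1 := by norm_num
  rw [this]
  group

theorem mat_HH {m i j : Fin 3} (hij : i ≠ j) {t : k} (ht : t ≠ 0) :
    ((HH m i j t : GL chevE6.Idx k) : Matrix chevE6.Idx chevE6.Idx k) =
      Matrix.diagonal (Sum.elim (fun _ => (1 : k)) (fun s : Fin chevE6.nroots => t ^ Strings.cartanR chevE6 (rt m i j) s)) := by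
  rw [coe_HH hij, coe_hG]
  exact StringMem.hMat_eq hE6 (rt_lt m i j) ht

theorem ta_HH [CharP k 2] [PerfectRing k 2] {m i j : Fin 3} (hm : m ≠ 2) (hij : i ≠ j) (t : k) :
    ta k (HH m i j t) = HH (m + 1) i j (t ^ 2) := by
  rw [HH, HH, map_mul, map_mul, map_mul, map_mul, map_mul, ta_rt hij, ta_rt hij.symm, ta_rt hij, ta_rt hij.symm,
    if_neg hm, if_neg hm]
  have h1 : (-t⁻¹) ^ 2 = -(t ^ 2)⁻¹ := by rw [CharTwo.neg_eq, CharTwo.neg_eq, inv_pow]
  have h2 : (-1 : k) ^ 2 = -1 := by rw [CharTwo.neg_eq, one_pow]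
  rw [h1, h2, one_pow]

theorem pi_diag {E : Type v} [Field E] {π : Matrix.SpecialLinearGroup (Fin 3) E →* ↥(chevE6.group k)} (f : E →+* k)
    (h1 : ∀ i j (hij : i ≠ j) a, π (Matrix.SpecialLinearGroup.transvection hij a) = X (rt 0 i j) (f a))
    {i j : Fin 3} (hij : i ≠ j) {a : E} (ha : a ≠ 0) :
    π (Matrix.SpecialLinearGroup.diag2n hij a ha) = HH 0 i j (f a) := by
  rw [Cfsg.Agent.LieClassical.SLGen.diag2n_decompose, map_mul, map_mul, map_mul, map_mul, map_mul, h1, h1, h1, h1,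
    HH, map_neg, map_neg, map_inv₀, map_one]

theorem phi_scalar [CharP k 2] [PerfectRing k 2] {E : Type v} [Field E]
    {π : Matrix.SpecialLinearGroup (Fin 3) E →* ↥(chevE6.group k)} (f : E →+* k)
    (h1 : ∀ i j (hij : i ≠ j) a, π (Matrix.SpecialLinearGroup.transvection hij a) = X (rt 0 i j) (f a))
    (hπ : ∀ A, π A ∈ L k 0) {A : Matrix.SpecialLinearGroup (Fin 3) E} {c : E} (hA : A.1 = c • 1) :
    phi hπ A = 1 := by
  have hdet : c ^ 3 = 1 := by
    have := A.2
    rw [hA, Matrix.det_smul, Matrix.det_one, mul_one, Fintype.card_fin] at this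
    exact this
  have hc : c ≠ 0 := by
    rintro rfl
    simp at hdet
  have hc2 : c ^ 2 ≠ 0 := pow_ne_zero 2 hc
  have e1 : A = Matrix.SpecialLinearGroup.diag2n (show (0 : Fin 3) ≠ 1 by decide) c hc *
      Matrix.SpecialLinearGroup.diag2n (show (1 : Fin 3) ≠ 2 by decide) (c ^ 2) hc2 := by
    apply Subtype.ext
    have h4 : c⁻¹ = c ^ 2 := inv_eq_of_mul_eq_one_right (by rw [← hdet]; ring)
    have h5 : (c ^ 2)⁻¹ = c := inv_eq_of_mul_eq_one_right (by rw [← hdet]; ring)
    rw [hA, Matrix.SpecialLinearGroup.coe_mul]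
    rw [Matrix.SpecialLinearGroup.diag2n_coe, Matrix.SpecialLinearGroup.diag2n_coe, Matrix.diagonal_mul_diagonal,
      ← Matrix.diagonal_one, ← Matrix.diagonal_smul]
    congr 1
    funext x
    fin_cases x
    · simp
    · simp [h4]
      linear_combination (-c) * hdet
    · simp [h5]
  have hfc : (f c) ^ 3 = 1 := by rw [← map_pow, hdet, map_one]
  have ht : f c ≠ 0 := fun h => by rw [h] at hfc; simp at hfc
  have e2 : π A = HH 0 0 1 (f c) * HH 0 1 2 ((f c) ^ 2) := by
    rw [e1, map_mul, pi_diag f h1, pi_diag f h1, map_pow]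
  have e3 : ta k (π A) = HH 1 0 1 ((f c) ^ 2) * HH 1 1 2 ((f c) ^ 4) := by
    rw [e2, map_mul, ta_HH (by decide) (by decide), ta_HH (by decide) (by decide), ← pow_mul]
    rfl
  have e4 : ta k (ta k (π A)) = HH 2 0 1 ((f c) ^ 4) * HH 2 1 2 ((f c) ^ 8) := by
    rw [e3, map_mul, ta_HH (by decide) (by decide), ta_HH (by decide) (by decide), ← pow_mul, ← pow_mul]
    rfl
  rw [phi_apply, e4, e3, e2]
  generalize f c = t at hfc ht
  apply Subtype.ext
  apply Units.ext
  show (((HH 0 0 1 t : GL chevE6.Idx k) : Matrix chevE6.Idx chevE6.Idx k) *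
      ((HH 0 1 2 (t ^ 2) : GL chevE6.Idx k) : Matrix chevE6.Idx chevE6.Idx k)) *
    ((((HH 1 0 1 (t ^ 2) : GL chevE6.Idx k) : Matrix chevE6.Idx chevE6.Idx k) *
      ((HH 1 1 2 (t ^ 4) : GL chevE6.Idx k) : Matrix chevE6.Idx chevE6.Idx k)) *
    (((HH 2 0 1 (t ^ 4) : GL chevE6.Idx k) : Matrix chevE6.Idx chevE6.Idx k) *
      ((HH 2 1 2 (t ^ 8) : GL chevE6.Idx k) : Matrix chevE6.Idx chevE6.Idx k))) = 1
  rw [mat_HH (by decide) ht, mat_HH (by decide) (pow_ne_zero _ ht), mat_HH (by decide) (pow_ne_zero _ ht),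
    mat_HH (by decide) (pow_ne_zero _ ht), mat_HH (by decide) (pow_ne_zero _ ht),
    mat_HH (by decide) (pow_ne_zero _ ht), Matrix.diagonal_mul_diagonal, Matrix.diagonal_mul_diagonal,
    Matrix.diagonal_mul_diagonal, Matrix.diagonal_mul_diagonal, Matrix.diagonal_mul_diagonal, ← Matrix.diagonal_one]
  congr 1
  funext x
  rcases x with x | s
  · simp
  · simp only [Sum.elim_inr]
    obtain ⟨m, hm⟩ := Int.dvd_of_emod_eq_zero (rt_cartan s)
    have h6 : ∀ (n : ℕ) (z : ℤ), (t ^ n) ^ z = t ^ ((n : ℤ) * z) := fun n z => by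
      rw [zpow_mul, zpow_natCast]
    rw [h6, h6, h6, h6, h6, ← zpow_add₀ ht, ← zpow_add₀ ht, ← zpow_add₀ ht, ← zpow_add₀ ht, ← zpow_add₀ ht]
    have h7 : Strings.cartanR chevE6 (rt 0 0 1) s + ((2 : ℕ) : ℤ) * Strings.cartanR chevE6 (rt 0 1 2) s +
      (((2 : ℕ) : ℤ) * Strings.cartanR chevE6 (rt 1 0 1) s + ((4 : ℕ) : ℤ) * Strings.cartanR chevE6 (rt 1 1 2) s +
      (((4 : ℕ) : ℤ) * Strings.cartanR chevE6 (rt 2 0 1) s + ((8 : ℕ) : ℤ) * Strings.cartanR chevE6 (rt 2 1 2) s)) =
        3 * m := by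
      rw [← hm]
      push_cast
      ring
    rw [h7, zpow_mul]
    have h8 : t ^ (3 : ℤ) = 1 := by exact_mod_cast hfc
    rw [h8, one_zpow]

end

/-! ### Assembly -/

section
open Subgroup Cfsg.Agent.H897.Emb Cfsg.Agent.H897.Sg Cfsg.Agent.H897.Lat Cfsg.Agent.H897.Tor Cfsg.Agent.H897.Cen Cfsg.Agent.H897.Orb Cfsg.Agent.BpExc.LangFr
  Cfsg.Agent.KFacts.RgdChevCoord Cfsg.Agent.BpExc.Fr Cfsg.Agent.BpExc.TowChev Cfsg.Agent.Nodes.RGDChev
open Cfsg.Agent.BpExc.FamTw.Six (em coe_em em_injective)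

variable {k : Type v} [Field k] [CharP k 2] [IsAlgClosed k] (hk : LocFin k)

include hk in
theorem exists_z (n : ↥(chevE6.group k)) : ∃ z : ↥(chevE6.group k), n = z⁻¹ * sg k z := by
  have hfr : Fr cs0 hp.isCartan (TT chevE6 k) (XX chevE6 6 k) (sg k)
      (Cfsg.Agent.H897.Frame.permE Cfsg.Agent.H897.Frame.rho6) := by
    have := (sg_sfr (k := k) cs0 hk).fr
    rwa [TL_eq hp hk, XL_eq hp hk] at this
  obtain ⟨z, hz⟩ := lang_all hp cs0 one_pos (sg_sfr (k := k) cs0 hk).frob hfr 1 n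
  exact ⟨z, by rw [hz, map_one, one_mul]⟩

theorem sg_conj {z g : ↥(chevE6.group k)} (hz : nW k wl = z⁻¹ * sg k z) (hg : ta k g = g) :
    sg k (z * g * z⁻¹) = z * g * z⁻¹ := by
  have h1 : sg k z = z * nW k wl := by rw [hz]; group
  have h2 : nW k wl * sg k g * (nW k wl)⁻¹ = g := hg
  rw [map_mul, map_mul, map_inv, h1]
  calc z * nW k wl * sg k g * (z * nW k wl)⁻¹ = z * (nW k wl * sg k g * (nW k wl)⁻¹) * z⁻¹ := by group
    _ = _ := by rw [h2]

/-- the permutation matrix of the first two coordinates -/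
def sw (E : Type v) [Field E] [CharP E 2] : Matrix.SpecialLinearGroup (Fin 3) E :=
  ⟨!![0, 1, 0; 1, 0, 0; 0, 0, 1], by
    rw [Matrix.det_fin_three]
    simp [CharTwo.neg_eq]⟩

theorem sw_mem {E : Type v} [Field E] [Fintype E] [CharP E 2] (q : ℕ) (hE : Fintype.card E = q ^ 2) {σ : E →+* E}
    (hσ : ∀ x, σ x = x ^ q) : sw E ∈ SU 3 E q := by
  rw [Cfsg.Agent.BpLin.mem_SU_iff_cst hE hσ]
  ext i j
  fin_cases i <;> fin_cases j <;> simp [sw, Cfsg.Agent.BpLin.cst, Matrix.mul_apply, Fin.sum_univ_three]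

theorem sw_sq {E : Type v} [Field E] [CharP E 2] : sw E * sw E = 1 := by
  apply Subtype.ext
  rw [Matrix.SpecialLinearGroup.coe_mul]
  ext i j
  fin_cases i <;> fin_cases j <;> simp [sw, Matrix.mul_apply, Fin.sum_univ_three]

theorem sw_ne {E : Type v} [Field E] [CharP E 2] : sw E ≠ 1 := by
  intro h
  have := congrArg (fun A : Matrix.SpecialLinearGroup (Fin 3) E => A.1 0 0) h
  simp [sw] at this

/-- the commutator of the permutation matrix with a transvection is not scalar -/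
theorem sw_comm {E : Type v} [Field E] [CharP E 2] {B : Matrix.SpecialLinearGroup (Fin 3) E}
    (hB : B = Matrix.SpecialLinearGroup.transvection (show (0 : Fin 3) ≠ 2 by decide) 1) {c : E}
    (h : (sw E * B * (sw E)⁻¹ * B⁻¹).1 = c • 1) : False := by
  have h1 : (sw E * B).1 = c • (B * sw E).1 := by
    have h2 : sw E * B = (sw E * B * (sw E)⁻¹ * B⁻¹) * (B * sw E) := by group
    conv_lhs => rw [h2, Matrix.SpecialLinearGroup.coe_mul, h]
    rw [smul_mul_assoc, one_mul]
  have h3 := congrFun (congrFun h1 1) 2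
  have h4 := congrFun (congrFun h1 0) 2
  subst hB
  rw [Matrix.SpecialLinearGroup.coe_mul, Matrix.SpecialLinearGroup.coe_mul] at h3 h4
  simp [sw, Matrix.mul_apply, Fin.sum_univ_three, Matrix.transvection, Matrix.SpecialLinearGroup.transvection,
    Matrix.single_apply] at h3 h4

variable {E : Type v} [Field E]

/-- an element in the kernel of the diagonal map is central modulo the kernel -/
theorem phi_ne {π : Matrix.SpecialLinearGroup (Fin 3) E →* ↥(chevE6.group k)} (hπ : ∀ A, π A ∈ L k 0)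
    (hker : π.ker ≤ center (Matrix.SpecialLinearGroup (Fin 3) E)) {A : Matrix.SpecialLinearGroup (Fin 3) E}
    (h : phi hπ A = 1) (B : Matrix.SpecialLinearGroup (Fin 3) E) :
    A * B * A⁻¹ * B⁻¹ ∈ center (Matrix.SpecialLinearGroup (Fin 3) E) := by
  apply hker
  rw [MonoidHom.mem_ker, map_mul, map_mul, map_mul, map_inv, map_inv]
  rw [phi_apply] at h
  have h1 : π A = (ta k (π A) * ta k (ta k (π A)))⁻¹ := eq_inv_of_mul_eq_one_left h
  have h2 : π B * ta k (π A) = ta k (π A) * π B :=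
    L_comm (m := 0) (m' := 0 + 1) (by decide) (hπ B) (ta_mem (hπ A))
  have h3 : π B * ta k (ta k (π A)) = ta k (ta k (π A)) * π B :=
    L_comm (m := 0) (m' := 0 + 1 + 1) (by decide) (hπ B) (ta_mem (ta_mem (hπ A)))
  have h4 : Commute (π B) (π A) := by
    rw [h1]
    exact (Commute.mul_right (h2 : Commute _ _) (h3 : Commute _ _)).inv_right
  rw [← h4.eq]
  group

end

section
open Subgroup Cfsg.Agent.H897.Emb Cfsg.Agent.H897.Sg Cfsg.Agent.H897.Lat Cfsg.Agent.KFacts.RgdChevCoord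
open Cfsg.Agent.BpExc.FamTw.Six (em coe_em em_injective)

/-- **`SU₃(8) → ²E₆(2)` with kernel the centre** -/
theorem exists_hom {K : Type u} [Field K] [Fintype K] (hK : Fintype.card K = 4) (E : Type) [Field E] [Fintype E]
    (hE : Fintype.card E = 8 ^ 2) :
    ∃ χ : SU 3 E 8 →* ↥(twistedE6 K 2), χ.ker = center (SU 3 E 8) := by
  classical
  have : CharP E 2 := charP_of_card_eq_prime_pow (p := 2) (f := 6) (by rw [hE]; norm_num)
  have : CharP K 2 := charP_of_card_eq_prime_pow (p := 2) (f := 2) (by rw [hK]; norm_num)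
  let : Algebra (ZMod 2) E := ZMod.algebra E 2
  let : Algebra (ZMod 2) K := ZMod.algebra K 2
  let k := AlgebraicClosure (ZMod 2)
  have : CharP k 2 := inferInstance
  have hk : Cfsg.Agent.BpExc.TowChev.LocFin k := Cfsg.Agent.BpExc.TowChev.locFin_of_isAlgebraic 2 k
  let f : E →+* k := (IsAlgClosed.lift : E →ₐ[ZMod 2] k)
  let fK : K →+* k := (IsAlgClosed.lift : K →ₐ[ZMod 2] k)
  let σ : E →+* E := iterateFrobenius E 2 3
  have hσ : ∀ x, σ x = x ^ 8 := fun x => iterateFrobenius_def 2 3 x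
  obtain ⟨π, h1, h2, h3⟩ := exists_pi (k := k) f
  have hπ : ∀ A, π A ∈ L k 0 := by
    intro A
    have h4 : π A ∈ Subgroup.closure (gens (x1 f)) := by rw [← h2]; exact ⟨A, rfl⟩
    have h5 : Subgroup.closure (gens (x1 f)) ≤ L k 0 := by
      refine (closure_le _).2 ?_
      rintro _ ⟨i, j, hij, a, rfl⟩
      exact X_mem_L hij _
    exact h5 h4
  obtain ⟨z, hz⟩ := exists_z hk (nW k wl)
  let ψ : SU 3 E 8 →* ↥(chevE6.group k) := (MulAut.conj z).toMonoidHom.comp ((phi hπ).comp (SU 3 E 8).subtype)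
  have hψσ : ∀ A, sg k (ψ A) = ψ A := by
    intro A
    refine sg_conj hz (ta_phi hπ ?_)
    rw [ta_cube f h1 hσ]
    exact congrArg π (star_eq hE hσ A.2)
  have hψ1 : ∀ A, ψ A = 1 → phi hπ A.1 = 1 := by
    intro A hA
    have : z * phi hπ A.1 * z⁻¹ = 1 := hA
    rw [mul_inv_eq_one] at this
    exact mul_eq_left.mp this
  have hcen : ∀ A ∈ center (SU 3 E 8), ψ A = 1 := by
    intro A hA
    obtain ⟨c, hc⟩ := Cfsg.Agent.Cit.LongInst.su_cen hE le_rfl A hA
    show z * phi hπ A.1 * z⁻¹ = 1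
    rw [phi_scalar f h1 hπ hc, mul_one, mul_inv_cancel]
  let S : SU 3 E 8 := ⟨sw E, sw_mem 8 hE hσ⟩
  have hSS : S * S = 1 := Subtype.ext sw_sq
  have hSnc : S ∉ center (SU 3 E 8) := by
    intro h
    obtain ⟨c, hc⟩ := Cfsg.Agent.Cit.LongInst.su_cen hE le_rfl S h
    have h4 := congrFun (congrFun hc 0) 1
    simp [S, sw] at h4
  have hperf : commutator (SU 3 E 8) = ⊤ :=
    Cfsg.Agent.LieClassical.HermPerfect.commutator_SU_eq_top hE le_rfl (by norm_num)
  -- the image lies in `²E₆(2)`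
  let R : Subgroup ↥(chevE6.group k) := (em (K := K) 2 fK).range
  have hNn : (R.comap ψ).Normal := by
    refine ⟨fun a ha g => ?_⟩
    rw [mem_comap, map_mul, map_mul, map_inv]
    exact (mem_normalizer_iff.1 (mem_normalizer hK fK (hψσ g)) _).1 ha
  have htop : R.comap ψ = ⊤ := by
    apply Cfsg.Agent.LieClassical.HermSimple.normal_eq_top_of_perfect hE le_rfl hperf
    intro hle
    apply hSnc
    apply hle
    rw [mem_comap]
    have h6 := cube_mem hK hk fK (hψσ S)
    have h7 : (ψ S) ^ 3 = ψ S := by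
      rw [← map_pow, pow_succ, pow_two, hSS, one_mul]
    rwa [h7] at h6
  have hR : ∀ A, ψ A ∈ (em (K := K) 2 fK).range := fun A => by
    have : A ∈ R.comap ψ := by rw [htop]; exact mem_top A
    exact this
  let χ : SU 3 E 8 →* ↥(twistedE6 K 2) :=
    (MonoidHom.ofInjective (em_injective (q := 2) fK)).symm.toMonoidHom.comp (ψ.codRestrict _ hR)
  have hχ : ∀ A, χ A = 1 ↔ ψ A = 1 := by
    intro A
    show (MonoidHom.ofInjective (em_injective (q := 2) fK)).symm (ψ.codRestrict _ hR A) = 1 ↔ _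
    rw [MulEquiv.map_eq_one_iff]
    exact ⟨fun h => congrArg Subtype.val h, fun h => Subtype.ext h⟩
  refine ⟨χ, le_antisymm ?_ ?_⟩
  · by_contra hnot
    have htop' : χ.ker = ⊤ := Cfsg.Agent.LieClassical.HermSimple.normal_eq_top_of_perfect hE le_rfl hperf hnot
    have hS : S ∈ χ.ker := by rw [htop']; exact mem_top _
    have h8 := hψ1 S ((hχ S).1 hS)
    have h9 := phi_ne hπ h3 h8 (Matrix.SpecialLinearGroup.transvection (show (0 : Fin 3) ≠ 2 by decide) 1)
    rw [Matrix.SpecialLinearGroup.mem_center_iff] at h9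
    obtain ⟨r, -, hr⟩ := h9
    refine sw_comm rfl (c := r) ?_
    rw [← hr, Matrix.scalar_apply, ← Matrix.smul_one_eq_diagonal]
  · intro A hA
    exact (hχ A).2 (hcen A hA)

/-- **B4 of S5741**: `U₃(8)` is a subgroup of `²E₆(2)`. -/
theorem inE {K : Type u} [Field K] [Fintype K] (hK : Fintype.card K = 4) :
    Cfsg.Agent.H944.TS.InE K (.psu 3 8) := by
  have : Fact (Nat.Prime 2) := ⟨Nat.prime_two⟩
  let : Fintype (GaloisField 2 6) := Fintype.ofFinite _
  have hE : Fintype.card (GaloisField 2 6) = 8 ^ 2 := by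
    rw [← Nat.card_eq_fintype_card, GaloisField.card 2 6 (by norm_num)]
    norm_num
  obtain ⟨χ, hχ⟩ := exists_hom hK (GaloisField 2 6) hE
  refine ⟨χ.range, GaloisField 2 6, inferInstance, inferInstance, hE, ⟨?_⟩⟩
  exact ((QuotientGroup.quotientKerEquivRange χ).symm.trans (QuotientGroup.quotientMulEquivOfEq hχ))

end

end Cfsg.Agent.H846.UThreeE
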